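import Mathlib

/-!
# Linear algebra for operators of order a power of two

* `finrank_range_bracket_le`: for `N * N = 0` of rank `r`, the map `A ↦ N A - A N` has rank at most
  `2 r (n - r)`.
* `rank_pow_le`: if `N ^ (2 h - 1) = 0` then `(2 h - 1) rank (N ^ h) ≤ (h - 1) n`.
* `sq_le_commutant_of_eq`: in the case of equality the commutant of `N` has dimension at least
  `n ^ 2 / (2 h - 1)`.
-/

set_option autoImplicit false

open Module

namespace CfsgLib.FGS74.GrossLen

universe u v

variable {K : Type u} [Field K] {V : Type v} [AddCommGroup V] [Module K V] [FiniteDimensional K V]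

/-- `A ↦ N A - A N`. -/
def bracket (N : Module.End K V) : Module.End K (Module.End K V) :=
  LinearMap.mulLeft K N - LinearMap.mulRight K N

omit [FiniteDimensional K V] in
theorem bracket_apply (N A : Module.End K V) : bracket N A = N * A - A * N := rfl

theorem finrank_range_bracket_le {N : Module.End K V} (hN : N * N = 0) :
    finrank K (LinearMap.range (bracket N)) ≤
      2 * (finrank K (LinearMap.range N) * (finrank K V - finrank K (LinearMap.range N))) := by
  set I := LinearMap.range N with hI
  set L := LinearMap.ker N with hL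
  have hker : finrank K L = finrank K V - finrank K I := by
    have := N.finrank_range_add_finrank_ker
    rw [← hI, ← hL] at this
    omega
  have hquot : finrank K (V ⧸ L) = finrank K I := N.quotKerEquivRange.finrank_eq
  -- the space containing the range
  let U : Submodule K (Module.End K V) :=
    { carrier := {B | (∀ l ∈ L, B l ∈ I) ∧ N * B + B * N = 0}
      add_mem' := fun {B B'} hB hB' => ⟨fun l hl => add_mem (hB.1 l hl) (hB'.1 l hl), by
        rw [mul_add, add_mul, add_add_add_comm, hB.2, hB'.2, add_zero]⟩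
      zero_mem' := ⟨fun l _ => by simp, by simp⟩
      smul_mem' := fun c B hB => ⟨fun l hl => Submodule.smul_mem _ c (hB.1 l hl), by
        rw [mul_smul_comm, smul_mul_assoc, ← smul_add, hB.2, smul_zero]⟩ }
  have hle : LinearMap.range (bracket N) ≤ U := by
    rintro _ ⟨A, rfl⟩
    refine ⟨fun l hl => ⟨A l, ?_⟩, ?_⟩
    · rw [LinearMap.mem_ker] at hl
      rw [bracket_apply, LinearMap.sub_apply, Module.End.mul_apply, Module.End.mul_apply, hl,
        map_zero, sub_zero]
    · rw [bracket_apply, mul_sub, sub_mul, ← mul_assoc, hN, mul_assoc A, hN]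
      simp [mul_assoc]
  refine (Submodule.finrank_mono hle).trans ?_
  let r : U →ₗ[K] (L →ₗ[K] I) :=
    { toFun := fun B => LinearMap.codRestrict I ((B : Module.End K V).comp L.subtype)
        fun l => B.2.1 l l.2
      map_add' := fun B B' => by ext l; rfl
      map_smul' := fun c B => by ext l; rfl }
  have hk : ∀ B : U, B ∈ LinearMap.ker r → ∀ l ∈ L, (B : Module.End K V) l = 0 := fun B hB l hl =>
    congrArg Subtype.val (LinearMap.congr_fun (LinearMap.mem_ker.1 hB) ⟨l, hl⟩)
  have hk2 : ∀ B : U, B ∈ LinearMap.ker r → ∀ v, (B : Module.End K V) v ∈ L := fun B hB v => by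
    rw [LinearMap.mem_ker]
    have h1 := LinearMap.congr_fun B.2.2 v
    rw [LinearMap.add_apply, Module.End.mul_apply, Module.End.mul_apply, LinearMap.zero_apply] at h1
    have h2 : (B : Module.End K V) (N v) = 0 :=
      hk B hB _ (by rw [hL, LinearMap.mem_ker, ← Module.End.mul_apply, hN]; rfl)
    rwa [h2, add_zero] at h1
  let j : LinearMap.ker r →ₗ[K] ((V ⧸ L) →ₗ[K] L) :=
    { toFun := fun B => L.liftQ
        (LinearMap.codRestrict L ((B : U) : Module.End K V) (hk2 B B.2))
        (fun l hl => LinearMap.mem_ker.2 (Subtype.ext (hk B B.2 l hl)))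
      map_add' := fun B B' => by ext v; rfl
      map_smul' := fun c B => by ext v; rfl }
  have hj : Function.Injective j := fun B B' h => by
    refine Subtype.ext (Subtype.ext (LinearMap.ext fun v => ?_))
    exact congrArg Subtype.val (LinearMap.congr_fun h (Submodule.Quotient.mk v))
  have h1 := LinearMap.finrank_le_finrank_of_injective hj
  have h2 := Submodule.finrank_le (LinearMap.range r)
  rw [Module.finrank_linearMap] at h1 h2
  have h3 := r.finrank_range_add_finrank_ker
  rw [hquot, hker] at h1
  rw [hker] at h2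
  rw [Nat.mul_comm (finrank K V - finrank K I)] at h2
  omega

/-- The ranks of the powers. -/
noncomputable def rk (N : Module.End K V) (i : ℕ) : ℕ := finrank K (LinearMap.range (N ^ i))

omit [FiniteDimensional K V] in
theorem rk_zero (N : Module.End K V) : rk N 0 = finrank K V := by
  rw [rk, pow_zero, Module.End.one_eq_id, LinearMap.range_id, finrank_top]

omit [FiniteDimensional K V] in
theorem rk_eq_zero {N : Module.End K V} {L : ℕ} (hN : N ^ L = 0) : rk N L = 0 := by
  rw [rk, hN, LinearMap.range_zero, finrank_bot]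

theorem rk_succ_add (N : Module.End K V) (i : ℕ) :
    rk N (i + 1) + finrank K ↥(LinearMap.range (N ^ i) ⊓ LinearMap.ker N) = rk N i := by
  have h := (N.domRestrict (LinearMap.range (N ^ i))).finrank_range_add_finrank_ker
  rw [LinearMap.range_domRestrict, LinearMap.ker_domRestrict] at h
  rw [rk, rk, pow_succ', Module.End.mul_eq_comp, LinearMap.range_comp]
  have he : finrank K ↥(LinearMap.range (N ^ i) ⊓ LinearMap.ker N) =
      finrank K ↥((LinearMap.ker N).comap (LinearMap.range (N ^ i)).subtype) := by
    rw [inf_comm]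
    exact (Submodule.comapSubtypeEquivOfLe (inf_le_right)).finrank_eq.symm.trans
      (congrArg (fun S : Submodule K (LinearMap.range (N ^ i)) => finrank K S) (by
        ext y; simp [y.2]))
  omega

/-- The jumps decrease. -/
theorem jump_antitone (N : Module.End K V) {i j : ℕ} (hij : i ≤ j) :
    rk N (i + 1) + rk N j ≤ rk N i + rk N (j + 1) := by
  have h1 := rk_succ_add N i
  have h2 := rk_succ_add N j
  have h3 : finrank K ↥(LinearMap.range (N ^ j) ⊓ LinearMap.ker N) ≤
      finrank K ↥(LinearMap.range (N ^ i) ⊓ LinearMap.ker N) := by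
    refine Submodule.finrank_mono (inf_le_inf_right _ ?_)
    rintro _ ⟨v, rfl⟩
    exact ⟨(N ^ (j - i)) v, by rw [← Module.End.mul_apply, ← pow_add, Nat.add_sub_cancel' hij]⟩
  omega

theorem rk_chain (N : Module.End K V) (h : ℕ) :
    ∃ δ, rk N (h + 1) + δ = rk N h ∧ (∀ i, i ≤ h → rk N i + 0 ≥ rk N h + (h - i) * δ) ∧
      ∀ j, rk N h ≤ rk N (h + j) + j * δ := by
  refine ⟨_, rk_succ_add N h, fun i hi => ?_, fun j => ?_⟩
  · have : ∀ k ≤ h, rk N h + k * finrank K ↥(LinearMap.range (N ^ h) ⊓ LinearMap.ker N) ≤
        rk N (h - k) := by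
      intro k
      induction k with
      | zero => intro _; simp
      | succ k ih =>
        intro hk
        have h1 := ih (by omega)
        have h2 := jump_antitone N (show h - (k + 1) ≤ h by omega)
        have h3 := rk_succ_add N h
        rw [show h - (k + 1) + 1 = h - k by omega] at h2
        rw [Nat.succ_mul]
        omega
    have h4 := this (h - i) (by omega)
    rw [show h - (h - i) = i by omega] at h4
    omega
  · induction j with
    | zero => simp
    | succ j ih =>
      have h2 := jump_antitone N (show h ≤ h + j by omega)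
      have h3 := rk_succ_add N h
      rw [show h + (j + 1) = h + j + 1 by omega, Nat.succ_mul]
      omega

theorem rank_pow_le {N : Module.End K V} {h : ℕ} (hh : 1 ≤ h) (hN : N ^ (2 * h - 1) = 0) :
    (2 * h - 1) * rk N h ≤ (h - 1) * finrank K V := by
  obtain ⟨δ, -, hup, hdown⟩ := rk_chain N h
  have h1 := hup 0 (Nat.zero_le _)
  have h2 := hdown (h - 1)
  rw [show h + (h - 1) = 2 * h - 1 by omega, rk_eq_zero hN, zero_add] at h2
  rw [rk_zero, Nat.sub_zero, add_zero] at h1
  have h3 : (h - 1) * (rk N h + h * δ) ≤ (h - 1) * finrank K V := Nat.mul_le_mul_left _ h1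
  have h4 : h * rk N h ≤ h * ((h - 1) * δ) := Nat.mul_le_mul_left _ h2
  obtain ⟨h', rfl⟩ : ∃ h', h = h' + 1 := ⟨h - 1, by omega⟩
  rw [show 2 * (h' + 1) - 1 = h' + (h' + 1) by omega, Nat.add_sub_cancel] at *
  linarith [h3, h4]

/-- In the case of equality the commutant is large. -/
theorem sq_le_commutant_of_eq {N : Module.End K V} {h : ℕ} (hh : 2 ≤ h)
    (hN : N ^ (2 * h - 1) = 0) (heq : (h - 1) * finrank K V ≤ (2 * h - 1) * rk N h) :
    finrank K V * finrank K V ≤ (2 * h - 1) * finrank K (LinearMap.ker (bracket N)) := by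
  classical
  obtain ⟨δ, hδ, hup, hdown⟩ := rk_chain N h
  have h1 := hup 0 (Nat.zero_le _)
  have h1' := hup 1 (by omega)
  have h2 := hdown (h - 1)
  rw [show h + (h - 1) = 2 * h - 1 by omega, rk_eq_zero hN, zero_add] at h2
  rw [rk_zero, Nat.sub_zero, add_zero] at h1
  obtain ⟨S, hS⟩ := Submodule.exists_isCompl (LinearMap.range N)
  have hs := Submodule.finrank_add_eq_of_isCompl hS
  have hr1 : rk N 1 = finrank K (LinearMap.range N) := by rw [rk, pow_one]
  set s := finrank K S with hsdef
  set n := finrank K V with hn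
  -- the dimensions
  have hns : n = (2 * h - 1) * s := by
    obtain ⟨h', rfl⟩ : ∃ h', h = h' + 1 := ⟨h - 1, by omega⟩
    simp only [show 2 * (h' + 1) - 1 = h' + (h' + 1) by omega, Nat.add_sub_cancel] at *
    have e1 : rk N (h' + 1) = h' * δ := by nlinarith
    have e2 : n = (h' + (h' + 1)) * δ := by nlinarith
    have e3 : s ≤ δ := by nlinarith
    have e4 : δ ≤ s := by
      have h5 := jump_antitone N (show 0 ≤ h' + 1 by omega)
      have h6 := rk_succ_add N (h' + 1)
      rw [zero_add, rk_zero] at h5
      omega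
    rw [e2, le_antisymm e4 e3]
  set L := 2 * h - 1 with hL
  let Φ : (Fin L → S) →ₗ[K] V := ∑ i : Fin L, ((N ^ (i : ℕ)).comp S.subtype).comp (LinearMap.proj i)
  have hΦ : ∀ f, Φ f = ∑ i : Fin L, (N ^ (i : ℕ)) (f i : V) := fun f => by simp [Φ]
  have hsurj : Function.Surjective Φ := by
    have key : ∀ k, ∀ v, (N ^ (L - k)) v ∈ LinearMap.range Φ := by
      intro k
      induction k with
      | zero => intro v; rw [Nat.sub_zero, hN, LinearMap.zero_apply]; exact zero_mem _
      | succ k ih =>
        intro v
        rcases Nat.lt_or_ge k L with hk | hk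
        · obtain ⟨a, ⟨w, rfl⟩, b, hb, rfl⟩ := Submodule.mem_sup.1
            (show v ∈ LinearMap.range N ⊔ S from hS.sup_eq_top ▸ Submodule.mem_top)
          rw [map_add, ← Module.End.mul_apply, ← pow_succ, show L - (k + 1) + 1 = L - k by omega]
          refine add_mem (ih w) ⟨Pi.single ⟨L - (k + 1), by omega⟩ ⟨b, hb⟩, ?_⟩
          rw [hΦ, Finset.sum_eq_single_of_mem ⟨L - (k + 1), by omega⟩ (Finset.mem_univ _)
            (fun i _ hi => by rw [Pi.single_eq_of_ne hi]; simp)]
          simp
        · rw [show L - (k + 1) = L - k by omega]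
          exact ih v
    intro v
    have := key L v
    rwa [Nat.sub_self, pow_zero, Module.End.one_apply] at this
  have hbij : Function.Bijective Φ := by
    have he : finrank K (Fin L → S) = finrank K V := by
      rw [Module.finrank_pi_fintype, Finset.sum_const, Finset.card_univ, Fintype.card_fin,
        smul_eq_mul, ← hn, hns]
    exact ⟨(LinearMap.injective_iff_surjective_of_finrank_eq_finrank he).2 hsurj, hsurj⟩
  let e := LinearEquiv.ofBijective Φ hbij
  let Λ : (S →ₗ[K] V) →ₗ[K] Module.End K V :=
    { toFun := fun g => (∑ i : Fin L, ((N ^ (i : ℕ)).comp g).comp (LinearMap.proj i)).comp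
        e.symm.toLinearMap
      map_add' := fun g g' => by
        ext v
        simp [Finset.sum_add_distrib]
      map_smul' := fun c g => by
        ext v
        simp [Finset.smul_sum] }
  have hΛ : ∀ g f, Λ g (Φ f) = ∑ i : Fin L, (N ^ (i : ℕ)) (g (f i)) := fun g f => by
    show (∑ i : Fin L, ((N ^ (i : ℕ)).comp g).comp (LinearMap.proj i)) (e.symm (e f)) = _
    rw [e.symm_apply_apply]
    simp
  -- a monomial
  have hmono : ∀ g (k : ℕ) (b : S), Λ g ((N ^ k) (b : V)) = (N ^ k) (g b) := by
    intro g k b
    rcases Nat.lt_or_ge k L with hk | hk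
    · have h5 : Φ (Pi.single ⟨k, hk⟩ b) = (N ^ k) (b : V) := by
        rw [hΦ, Finset.sum_eq_single_of_mem ⟨k, hk⟩ (Finset.mem_univ _)
          (fun i _ hi => by rw [Pi.single_eq_of_ne hi]; simp)]
        simp
      rw [← h5, hΛ, Finset.sum_eq_single_of_mem ⟨k, hk⟩ (Finset.mem_univ _)
        (fun i _ hi => by rw [Pi.single_eq_of_ne hi]; simp)]
      simp
    · have h5 : N ^ k = 0 := pow_eq_zero_of_le hk hN
      rw [h5, LinearMap.zero_apply, LinearMap.zero_apply, map_zero]
  have hker : ∀ g, Λ g ∈ LinearMap.ker (bracket N) := by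
    intro g
    rw [LinearMap.mem_ker, bracket_apply, sub_eq_zero]
    refine LinearMap.ext fun v => ?_
    obtain ⟨f, rfl⟩ := hsurj v
    rw [Module.End.mul_apply, Module.End.mul_apply, hΛ, map_sum, hΦ, map_sum, map_sum]
    refine Finset.sum_congr rfl fun i _ => ?_
    rw [← Module.End.mul_apply N, ← pow_succ', ← Module.End.mul_apply N, ← pow_succ', hmono]
  have hinj : Function.Injective (LinearMap.codRestrict _ Λ hker) := by
    intro g g' hgg
    refine LinearMap.ext fun b => ?_
    have h6 := LinearMap.congr_fun (congrArg Subtype.val hgg) ((N ^ 0) (b : V))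
    rw [show ((LinearMap.codRestrict _ Λ hker g : LinearMap.ker (bracket N)) : Module.End K V) =
      Λ g from rfl, show ((LinearMap.codRestrict _ Λ hker g' : LinearMap.ker (bracket N)) :
      Module.End K V) = Λ g' from rfl, hmono, hmono, pow_zero] at h6
    exact h6
  have h7 := LinearMap.finrank_le_finrank_of_injective hinj
  rw [Module.finrank_linearMap, ← hsdef, ← hn] at h7
  calc n * n = L * (s * n) := by rw [← mul_assoc, ← hns]
    _ ≤ _ := Nat.mul_le_mul_left _ h7

end CfsgLib.FGS74.GrossLen
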