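import Cfsg.Agent.FGS74.GrossLen.Glue
import Cfsg.Agent.FGS74.GrossLen.Lin
import Cfsg.Agent.HallHigman.LengthSetup

/-!
# Elements annihilated by a geometric sum, in characteristic two

If `∑ i < 2 ^ e, X ^ i = 0` for the operator of `x`, then `x ^ 2 ^ (e - 1)` lies in `Top 2 H`.
-/

set_option autoImplicit false
set_option linter.style.haveILetI false

open Module

namespace CfsgLib.FGS74.GrossLen

universe u v w

variable {K : Type u} [Field K]

/-- The operators considered. -/
def TGood (V : Type v) [AddCommGroup V] [Module K V] (e : ℕ) (X : Module.End K V) : Prop :=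
  ∀ v : V, ∑ i ∈ Finset.range (2 ^ e), (X ^ i) v = 0

theorem tGood_sum {V : Type v} [AddCommGroup V] [Module K V] {e : ℕ} {X : Module.End K V}
    (h : TGood V e X) : ∑ i ∈ Finset.range (2 ^ e), X ^ i = 0 :=
  LinearMap.ext fun v => by rw [LinearMap.sum_apply, LinearMap.zero_apply]; exact h v

theorem tGood_closed : Closed (K := K) (TGood.{u, v}) where
  pow_eq := by
    intro V _ _ e X h
    have h1 := geom_sum_mul X (2 ^ e)
    rw [tGood_sum h, zero_mul, eq_comm, sub_eq_zero] at h1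
    exact h1
  restrict := by
    intro V _ _ _ e X hX U hU v
    refine Subtype.ext ?_
    rw [AddSubmonoidClass.coe_finsetSum, Submodule.coe_zero, ← hX (v : V)]
    exact Finset.sum_congr rfl fun i _ => restrict_pow_apply hU i v
  quotient := by
    intro V _ _ _ e X hX U hU v
    induction v using Submodule.Quotient.induction_on with
    | _ v =>
      have hp : ∀ i : ℕ, (U.mapQ U X hU ^ i) (U.mkQ v) = U.mkQ ((X ^ i) v) := by
        intro i
        induction i with
        | zero => rfl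
        | succ i ih => rw [pow_succ', pow_succ', Module.End.mul_apply, ih]; rfl
      show ∑ i ∈ Finset.range (2 ^ e), (U.mapQ U X hU ^ i) (U.mkQ v) = 0
      rw [Finset.sum_congr rfl fun i _ => hp i, ← map_sum, hX v, map_zero]
  orbit := by
    intro V _ _ _ e X hX U hU j hje P hP hPz hXU
    have hz : ∀ v ∈ U, ∑ k ∈ Finset.range (2 ^ (e - j)), ((X ^ 2 ^ j) ^ k) v = 0 := by
      intro v hv
      have hmem : ∀ k : ℕ, ((X ^ 2 ^ j) ^ k) v ∈ U := by
        intro k
        induction k with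
        | zero => exact hv
        | succ k ih => rw [pow_succ', Module.End.mul_apply]; exact hXU _ ih
      have h1 := congrArg P (hX v)
      rw [map_sum, map_zero] at h1
      refine Eq.trans ?_ h1
      have he : 2 ^ e = 2 ^ j * 2 ^ (e - j) := by rw [← pow_add, Nat.add_sub_cancel' hje]
      rw [← Finset.sum_subset (s₁ := (Finset.range (2 ^ (e - j))).image (2 ^ j * ·))
        (s₂ := Finset.range (2 ^ e)), Finset.sum_image]
      · refine Finset.sum_congr rfl fun k _ => ?_
        rw [pow_mul, hP _ (hmem k)]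
      · intro a _ b _ hab
        exact Nat.eq_of_mul_eq_mul_left (pow_pos two_pos j) hab
      · intro i hi
        obtain ⟨k, hk, rfl⟩ := Finset.mem_image.1 hi
        rw [Finset.mem_range] at hk ⊢
        rw [he]
        exact Nat.mul_lt_mul_of_pos_left hk (pow_pos two_pos j)
      · intro i hi hni
        refine hPz i (Finset.mem_range.1 hi) (fun ⟨k, hk⟩ => hni ?_) v hv
        refine Finset.mem_image.2 ⟨k, Finset.mem_range.2 ?_, hk.symm⟩
        rw [Finset.mem_range, hk, he] at hi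
        exact Nat.lt_of_mul_lt_mul_left hi
    obtain ⟨u, hu, hu0⟩ := Submodule.exists_mem_ne_zero_of_ne_bot hU
    have hlt : j < e := by
      refine lt_of_le_of_ne hje fun h => hu0 ?_
      subst h
      simpa using hz u hu
    refine ⟨hlt, Or.inl fun v => Subtype.ext ?_⟩
    rw [AddSubmonoidClass.coe_finsetSum, Submodule.coe_zero, ← hz v v.2]
    exact Finset.sum_congr rfl fun i _ => restrict_pow_apply hXU i v

section

variable {V : Type v} [AddCommGroup V] [Module K V] [FiniteDimensional K V]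

theorem rank_ad_sub_le {H : Type w} [Group H] (ψ : H →* Module.End K V) (t : H) :
    finrank K (LinearMap.range (ad ψ t - 1)) ≤ finrank K (LinearMap.range (bracket (ψ t - 1))) := by
  have h : LinearMap.range (ad ψ t - 1) ≤
      (LinearMap.range (bracket (ψ t - 1))).map (LinearMap.mulRight K (ψ t⁻¹)) := by
    rintro _ ⟨A, rfl⟩
    refine ⟨_, ⟨A, rfl⟩, ?_⟩
    rw [bracket_apply, LinearMap.mulRight_apply, LinearMap.sub_apply, Module.End.one_apply, ad_apply,
      sub_mul, sub_mul, mul_sub, sub_mul, one_mul, mul_one, sub_mul, mul_assoc A (ψ t), mul_map_inv,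
      mul_one]
    abel
  exact (Submodule.finrank_mono h).trans (Submodule.finrank_map_le _ _)

theorem index_arith {n ρ d N S F k : ℕ} (hd : n = 2 * ρ + d) (hnk : n * n = N * k)
    (hN : 2 * S + F = N) (h3 : S * k ≤ 2 * (ρ * (n - ρ))) : d * d ≤ F * k := by
  rw [show n - ρ = ρ + d by omega] at h3
  subst hN hd
  linarith [show (2 * ρ + d) * (2 * ρ + d) = 4 * (ρ * (ρ + d)) + d * d by ring,
    show (2 * S + F) * k = 2 * (S * k) + F * k by ring]

theorem rank_arith {n ρ d h : ℕ} (hh : 2 ≤ h) (hd : n = 2 * ρ + d)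
    (hle : (2 * h - 1) * ρ ≤ (h - 1) * n) : n ≤ (2 * h - 1) * d := by
  obtain ⟨g, rfl⟩ : ∃ g, h = g + 1 := ⟨h - 1, by omega⟩
  rw [show 2 * (g + 1) - 1 = 2 * g + 1 by omega] at hle ⊢
  rw [Nat.add_sub_cancel] at hle
  subst hd
  linarith

theorem max_arith {n ρ d h : ℕ} (hh : 2 ≤ h) (hd : n = 2 * ρ + d) (hQd : (2 * h - 1) * d ≤ n) :
    (h - 1) * n ≤ (2 * h - 1) * ρ := by
  obtain ⟨g, rfl⟩ : ∃ g, h = g + 1 := ⟨h - 1, by omega⟩
  rw [show 2 * (g + 1) - 1 = 2 * g + 1 by omega] at hQd ⊢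
  rw [Nat.add_sub_cancel]
  subst hd
  linarith

theorem half_arith {n ρ h : ℕ} (hh : 2 ≤ h) (hle : (2 * h - 1) * ρ ≤ (h - 1) * n) : 2 * ρ ≤ n := by
  obtain ⟨g, rfl⟩ : ∃ g, h = g + 1 := ⟨h - 1, by omega⟩
  rw [show 2 * (g + 1) - 1 = 2 * g + 1 by omega, Nat.add_sub_cancel] at hle
  exact Nat.le_of_mul_le_mul_left (show g * (2 * ρ) ≤ g * n by linarith [Nat.zero_le ρ]) (by omega)

theorem orbit_arith {N F a b h : ℕ} (hh : 1 ≤ h) (hN : 2 * h * a + F = N)
    (heq : (2 * h - 1) ^ 2 * F ≤ N) (hle : N ≤ (2 * h - 1) * (a + b)) : F ≤ b := by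
  obtain ⟨g, rfl⟩ : ∃ g, h = g + 1 := ⟨h - 1, by omega⟩
  rw [show 2 * (g + 1) - 1 = 2 * g + 1 by omega] at heq hle
  have h1 := Nat.mul_le_mul_left (2 * g + 2) hle
  subst hN
  exact Nat.le_of_mul_le_mul_left
    (show (2 * g + 1) * (2 * g + 2) * F ≤ (2 * g + 1) * (2 * g + 2) * b by linarith) (by positivity)

/-- The fixed points have index at most `(2 ^ e - 1) ^ 2`; in case of equality `x` fixes them. -/
theorem index_bound [CharP K 2] [Nontrivial V] {H : Type w} [Group H] {ψ : H →* Module.End K V}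
    {R : Subgroup H} (hE : IsExt ψ R) [Fintype (Quo ψ R)]
    (hN : (Fintype.card (Quo ψ R) : K) ≠ 0) {x : H} {e : ℕ} (he : 2 ≤ e)
    (hx : TGood V e (ψ x)) (hpow : x ^ 2 ^ e = 1) :
    Fintype.card (Quo ψ R) ≤ (2 ^ e - 1) ^ 2 * Nat.card (halfFixed (hE.act x) e) ∧
      ((2 ^ e - 1) ^ 2 * Nat.card (halfFixed (hE.act x) e) ≤ Fintype.card (Quo ψ R) →
        ∀ m, (hE.act x ^ 2 ^ (e - 1)) m = m → hE.act x m = m) := by
  classical
  set σ := hE.act x with hσ
  set h := 2 ^ (e - 1) with hh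
  set t := x ^ h with ht
  set N := Fintype.card (Quo ψ R) with hNdef
  set F := Nat.card (halfFixed σ e) with hFdef
  set k := finrank K (commutant ψ R)
  set n := finrank K V with hn
  have hq : 2 ^ e = 2 * h := by rw [hh, ← pow_succ']; congr 1; omega
  have h2 : 2 ≤ h := by
    rw [hh]
    calc 2 = 2 ^ 1 := rfl
      _ ≤ _ := Nat.pow_le_pow_right two_pos (by omega)
  haveI : CharP (Module.End K V) 2 :=
    charP_of_injective_algebraMap (FaithfulSMul.algebraMap_injective K _) 2
  set N₀ := ψ x - 1 with hN₀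
  have hN₀q : N₀ ^ (2 * h - 1) = 0 := by
    rw [← hq, hN₀, ← CfsgLib.HallHigman.geom_sum_eq_sub_one_pow, tGood_sum hx]
  have hN₀h : N₀ ^ h = ψ t - 1 := by
    rw [hN₀, hh, sub_pow_char_pow_of_commute 2 _ (Commute.one_right _), one_pow, ht, map_pow]
  have hnil : (ψ t - 1) * (ψ t - 1) = 0 := by
    rw [← hN₀h, ← pow_add]
    exact pow_eq_zero_of_le (by omega) hN₀q
  set ρ := rk N₀ h with hρ
  have hρ' : ρ = finrank K (LinearMap.range (ψ t - 1)) := by rw [hρ, rk, hN₀h]
  have hnk : n * n = N * k := by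
    rw [hNdef, ← finrank_end hE hN, Module.finrank_linearMap]
  have hn0 : 0 < n := Module.finrank_pos
  have hk : 0 < k := Nat.pos_of_ne_zero fun h0 => by
    rw [h0, mul_zero] at hnk
    exact (Nat.mul_pos hn0 hn0).ne' hnk
  have hρle := rank_pow_le (N := N₀) (h := h) (by omega) hN₀q
  rw [← hρ, ← hn] at hρle
  have hσq : σ ^ 2 ^ e = 1 := by rw [hσ, ← map_pow, hpow, map_one]
  set τ := hE.act t with hτ
  have hτσ : τ = σ ^ 2 ^ (e - 1) := by rw [hτ, ht, map_pow]
  have hττ : τ ^ 2 ^ 1 = 1 := by rw [hτσ, ← pow_mul, ← pow_add, Nat.sub_add_cancel (by omega), hσq]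
  have hmoved : moved τ 1 = moved σ e := by
    ext m
    rw [mem_moved, mem_moved, hτσ, Nat.sub_self, pow_zero, pow_one]
  -- the rank
  set S := (moved τ 1).image (rep (τ.toEquiv : Equiv.Perm (Quo ψ R))) with hS
  have hSc : 2 ^ 1 * S.card = (moved τ 1).card := card_moved hττ
  have hdisj : ∀ m ∈ S, hE.act t m ∉ S := by
    intro m hm hm'
    obtain ⟨a, ha, rfl⟩ := Finset.mem_image.1 hm
    obtain ⟨b, -, hb⟩ := Finset.mem_image.1 hm'
    have hmv := rep_mem _ (fun _ h => moved_invariant τ 1 h) ha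
    refine (mem_moved τ 1).1 hmv ?_
    rw [Nat.sub_self, pow_zero, pow_one]
    have h3 := congrArg (rep (τ.toEquiv : Equiv.Perm (Quo ψ R))) hb
    rw [rep_rep] at h3
    have h4 := rep_pow (τ.toEquiv : Equiv.Perm (Quo ψ R)) 1 (rep (τ.toEquiv : Equiv.Perm (Quo ψ R)) a)
    rw [pow_one, rep_rep] at h4
    show τ _ = _
    rw [hτ, ← hb, h3]
    exact h4
  have h3 := (card_mul_le_rank hE hN t S hdisj).trans
    ((rank_ad_sub_le ψ t).trans (finrank_range_bracket_le hnil))
  rw [← hρ'] at h3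
  have hsum := card_moved_add (σ := σ) (e := e)
  rw [← hmoved, ← hSc, ← hFdef, ← hNdef] at hsum
  have hρn : 2 * ρ ≤ n := half_arith h2 hρle
  obtain ⟨d, hd⟩ := Nat.exists_eq_add_of_le hρn
  have hkey : d * d ≤ F * k := index_arith hd hnk (by simpa using hsum) h3
  have hnd : n ≤ (2 * h - 1) * d := rank_arith h2 hd hρle
  have hqh : 2 ^ e - 1 = 2 * h - 1 := by rw [hq]
  rw [hqh]
  set Q := 2 * h - 1 with hQ
  refine ⟨?_, fun heq => ?_⟩
  · refine Nat.le_of_mul_le_mul_right ?_ hk
    rw [← hnk]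
    calc n * n ≤ (Q * d) * (Q * d) := Nat.mul_le_mul hnd hnd
      _ = Q ^ 2 * (d * d) := by ring
      _ ≤ Q ^ 2 * (F * k) := Nat.mul_le_mul_left _ hkey
      _ = Q ^ 2 * F * k := by ring
  -- equality
  have hQd : Q * d ≤ n := Nat.mul_self_le_mul_self_iff.1 (by
    calc Q * d * (Q * d) = Q ^ 2 * (d * d) := by ring
      _ ≤ Q ^ 2 * (F * k) := Nat.mul_le_mul_left _ hkey
      _ = Q ^ 2 * F * k := by ring
      _ ≤ N * k := Nat.mul_le_mul_right k heq
      _ = n * n := hnk.symm)
  have hmax : (h - 1) * n ≤ Q * ρ := max_arith h2 hd hQd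
  have hcomm := sq_le_commutant_of_eq (N := N₀) (h := h) h2 hN₀q (by rw [← hn]; exact hmax)
  rw [← hn] at hcomm
  have hker : LinearMap.ker (bracket N₀) ≤ LinearMap.ker (ad ψ x - 1) := by
    intro A hA
    rw [LinearMap.mem_ker, bracket_apply, hN₀, sub_mul, mul_sub, one_mul, mul_one,
      sub_sub_sub_cancel_right, sub_eq_zero] at hA
    rw [LinearMap.mem_ker, LinearMap.sub_apply, Module.End.one_apply, ad_apply, hA, mul_assoc,
      mul_map_inv, mul_one, sub_self]
  have h5 := (Submodule.finrank_mono hker).trans (finrank_fixed_le hE hN x)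
  set p : Equiv.Perm (Quo ψ R) := σ.toEquiv with hp
  have h6 : n * n ≤ Q * ((Finset.univ.image (rep p)).card * k) :=
    hcomm.trans (Nat.mul_le_mul_left _ h5)
  set C := Finset.univ.filter fun m => (σ ^ 2 ^ (e - 1)) m = m with hC
  have hCcard : C.card = F := by
    rw [hFdef, Nat.card_eq_fintype_card, Fintype.card_of_subtype C fun m => by
      simp [hC, mem_halfFixed]]
  have hsplit : (Finset.univ.image (rep p)).card ≤
      ((moved σ e).image (rep p)).card + (C.image (rep p)).card := by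
    refine le_trans (Finset.card_le_card ?_) (Finset.card_union_le _ _)
    intro m hm
    obtain ⟨a, -, rfl⟩ := Finset.mem_image.1 hm
    by_cases ha : (σ ^ 2 ^ (e - 1)) a = a
    · exact Finset.mem_union_right _ (Finset.mem_image_of_mem _ (by simp [hC, ha]))
    · exact Finset.mem_union_left _ (Finset.mem_image_of_mem _ ((mem_moved σ e).2 ha))
  have hfree := card_moved hσq
  rw [hmoved] at hSc
  rw [← hp, hq] at hfree
  set a₁ := ((moved σ e).image (rep p)).card
  set b₁ := (C.image (rep p)).card with hb₁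
  have hFb : F ≤ b₁ := by
    have h7 : N * k ≤ Q * ((a₁ + b₁) * k) := by
      rw [← hnk]; exact h6.trans (Nat.mul_le_mul_left _ (Nat.mul_le_mul_right k hsplit))
    have h8 : N ≤ Q * (a₁ + b₁) := Nat.le_of_mul_le_mul_right (by rwa [mul_assoc]) hk
    have h9 : 2 * h * a₁ + F = N := by rw [hfree, ← hsum, hSc]
    exact orbit_arith (by omega) h9 heq h8
  intro m hm
  have hinj : Set.InjOn (rep p) C := Finset.injOn_of_card_image_eq
    (le_antisymm Finset.card_image_le (by rw [hCcard]; exact hFb))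
  have hCinv : σ m ∈ C := by
    simp only [hC, Finset.mem_filter, Finset.mem_univ, true_and]
    rw [← MulAut.mul_apply, ← pow_succ, pow_succ', MulAut.mul_apply, hm]
  refine hinj hCinv (Finset.mem_filter.2 ⟨Finset.mem_univ _, hm⟩) ?_
  have := rep_pow p 1 m
  rwa [pow_one] at this

variable [IsAlgClosed K]

/-- The case of scalar abelian normal subgroups. -/
theorem tPrim [CharP K 2] [Nontrivial V] {H : Type w} [Group H] [Finite H]
    (hsol : Group.IsSolvable H) (ψ : H →* Module.End K V) (hψ : Function.Injective ψ)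
    (hsc : ∀ A : Subgroup H, A.Normal → (∀ a ∈ A, ∀ b ∈ A, a * b = b * a) →
      ∀ a ∈ A, ∃ r : K, ψ a = r • 1)
    (x : H) (e : ℕ) (hX : TGood V e (ψ x)) : x ^ 2 ^ (e - 1) ∈ Top 2 H := by
  classical
  haveI : Fact (Nat.Prime 2) := ⟨Nat.prime_two⟩
  obtain ⟨R, hE, hact, htop, hsqf⟩ := exists_prim (c := 2) hsol hψ hsc
  by_cases h1 : hE.act (x ^ 2 ^ (e - 1)) = 1
  · exact htop _ (hact _ h1)
  have he : 2 ≤ e := by
    by_contra he
    refine h1 ?_
    obtain ⟨v, hv⟩ := exists_ne (0 : V)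
    rcases (show e = 0 ∨ e = 1 by omega) with rfl | rfl
    · exact absurd (by simpa using hX v) hv
    · haveI : CharP (Module.End K V) 2 :=
        charP_of_injective_algebraMap (FaithfulSMul.algebraMap_injective K _) 2
      have h := tGood_sum hX
      rw [show (2 : ℕ) ^ 1 = 2 from rfl, geom_sum_two, CharTwo.add_eq_zero] at h
      rw [show x = 1 from hψ (by rw [map_one]; first | exact h | exact h.symm), one_pow, map_one]
  haveI : Fintype (Quo ψ R) := Fintype.ofFinite _
  have hN := hE.card_quo_ne_zero (c := 2)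
  have hpow : x ^ 2 ^ e = 1 := hψ (by rw [map_pow, (tGood_closed).pow_eq hX, map_one])
  have hQodd : Odd (Fintype.card (Quo ψ R)) := by
    rw [Ne, CharP.cast_eq_zero_iff K 2] at hN
    exact Nat.odd_iff.2 (Nat.two_dvd_ne_zero.1 hN)
  letI : CommGroup (Quo ψ R) :=
    { (inferInstance : Group (Quo ψ R)) with mul_comm := hE.quo_mul_comm }
  set σ := hE.act x with hσ
  have hσq : σ ^ 2 ^ e = 1 := by rw [hσ, ← map_pow, hpow, map_one]
  set τ := hE.act (x ^ 2 ^ (e - 1)) with hτ
  have hτσ : τ = σ ^ 2 ^ (e - 1) := map_pow _ _ _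
  have hττ : ∀ m, τ (τ m) = m := fun m => by
    rw [← MulAut.mul_apply, hτσ, ← pow_add, show 2 ^ (e - 1) + 2 ^ (e - 1) = 2 ^ e by
      rw [← two_mul, ← pow_succ']; congr 1; omega, hσq]
    rfl
  have hστ : ∀ m, τ (σ m) = σ (τ m) := fun m => by
    rw [← MulAut.mul_apply, ← MulAut.mul_apply, hτσ, ← pow_succ, pow_succ']
  have htwo : ∀ m : Quo ψ R, m * m = 1 → m = 1 := fun m hm => by
    have h2 := hQodd.of_dvd_nat (orderOf_dvd_card (x := m))
    rcases (Nat.dvd_prime Nat.prime_two).1 (orderOf_dvd_of_pow_eq_one (show m ^ 2 = 1 by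
      rw [pow_two, hm])) with h3 | h3
    · exact orderOf_eq_one_iff.1 h3
    · rw [h3] at h2; exact absurd h2 (by decide)
  have hsurj : ∀ v : Quo ψ R, ∃ u, u * u = v := fun v => by
    obtain ⟨u, hu⟩ := Finite.surjective_of_injective (f := fun u : Quo ψ R => u * u)
      (fun a b (hab : a * a = b * b) => div_eq_one.1 (htwo _ (by
        rw [div_mul_div_comm, hab, div_self']))) v
    exact ⟨u, hu⟩
  let Wm : Subgroup (Quo ψ R) :=
    { carrier := {m | τ m = m⁻¹}
      one_mem' := by rw [Set.mem_setOf_eq, map_one, inv_one]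
      mul_mem' := fun {a b} (ha : τ a = a⁻¹) (hb : τ b = b⁻¹) => by
        show τ (a * b) = (a * b)⁻¹
        rw [map_mul, ha, hb, mul_inv]
      inv_mem' := fun {a} (ha : τ a = a⁻¹) => by
        show τ a⁻¹ = a⁻¹⁻¹
        rw [map_inv, ha] }
  have hcard : Fintype.card (Quo ψ R) = Nat.card (halfFixed σ e) * Nat.card Wm := by
    let φ : Quo ψ R →* Quo ψ R := MonoidHom.mk' (fun m => τ m * m⁻¹) fun a b => by
      simp only [map_mul, mul_inv, mul_mul_mul_comm]
    have hk : φ.ker = halfFixed σ e := by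
      ext m
      rw [MonoidHom.mem_ker, mem_halfFixed, ← hτσ]
      exact mul_inv_eq_one
    have hr : φ.range = Wm := by
      refine le_antisymm ?_ fun v hv => ?_
      · rintro _ ⟨m, rfl⟩
        show τ (τ m * m⁻¹) = (τ m * m⁻¹)⁻¹
        rw [map_mul, map_inv, hττ, mul_inv_rev, inv_inv]
      · obtain ⟨u, hu⟩ := hsurj v⁻¹
        refine ⟨u, ?_⟩
        have hu' : τ (u * u) = (u * u)⁻¹ := by rw [hu]; exact Wm.inv_mem hv
        have hτu : τ u * u = 1 := htwo _ (by
          rw [mul_mul_mul_comm, ← map_mul, hu', inv_mul_cancel])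
        show τ u * u⁻¹ = v
        rw [eq_inv_of_mul_eq_one_left hτu, ← mul_inv, hu, inv_inv]
    rw [← Nat.card_eq_fintype_card, ← hk, ← hr, ← Subgroup.index_ker, Subgroup.card_mul_index]
  obtain ⟨hbd, heq⟩ := index_bound hE hN he hX hpow
  rw [← hσ] at hbd heq
  have hF0 : 0 < Nat.card (halfFixed σ e) := Nat.card_pos
  have hWle : Nat.card Wm ≤ (2 ^ e - 1) ^ 2 := by
    refine Nat.le_of_mul_le_mul_left ?_ hF0
    rw [← hcard, mul_comm (Nat.card _)]
    exact hbd
  haveI : Nontrivial Wm := by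
    rw [Subgroup.nontrivial_iff_ne_bot]
    intro hb
    refine h1 (MulEquiv.ext fun m => ?_)
    have hmem : τ m * m⁻¹ ∈ Wm := show τ (τ m * m⁻¹) = (τ m * m⁻¹)⁻¹ by
      rw [map_mul, map_inv, hττ, mul_inv_rev, inv_inv]
    rw [hb, Subgroup.mem_bot, mul_inv_eq_one] at hmem
    exact hmem
  -- the pairing
  let B : Quo ψ R →* Quo ψ R →* Kˣ := MonoidHom.mk'
    (fun a => MonoidHom.toHomUnits
      { toFun := qpair ψ R a, map_one' := hE.qpair_one_right a, map_mul' := hE.qpair_mul_right a })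
    fun a b => MonoidHom.ext fun c => Units.ext (hE.qpair_mul_left a b c)
  have hB : ∀ a b, (B a b : K) = qpair ψ R a b := fun a b => rfl
  let β : Additive Wm →+ Additive Wm →+ Additive Kˣ :=
    AddMonoidHom.mk' (fun a => AddMonoidHom.mk'
        (fun b => Additive.ofMul (B (a.toMul : Quo ψ R) (b.toMul : Quo ψ R)))
        fun b c => congrArg Additive.ofMul (map_mul (B (a.toMul : Quo ψ R)) _ _))
      fun a b => AddMonoidHom.ext fun c => congrArg Additive.ofMul
        (DFunLike.congr_fun (map_mul B _ _) (c.toMul : Quo ψ R))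
  have hWinv : ∀ {m}, m ∈ Wm → σ m ∈ Wm := fun {m} (hm : τ m = m⁻¹) => show τ (σ m) = (σ m)⁻¹ by
    rw [hστ, hm, map_inv]
  let S : AddMonoid.End (Additive Wm) := AddMonoidHom.mk'
    (fun a => Additive.ofMul (⟨σ (a.toMul : Quo ψ R), hWinv a.toMul.2⟩ : Wm))
    fun a b => Additive.toMul.injective (Subtype.ext (map_mul σ _ _))
  have hSpow : ∀ (i : ℕ) (a : Additive Wm),
      ((((S ^ i : AddMonoid.End (Additive Wm))) a).toMul : Quo ψ R) = (σ ^ i) (a.toMul : Quo ψ R) := by
    intro i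
    induction i with
    | zero => intro a; rfl
    | succ i ih =>
      intro a
      rw [pow_succ', pow_succ', MulAut.mul_apply, ← ih]
      rfl
  have hext : ∀ a b : Additive Wm, (a.toMul : Quo ψ R) = (b.toMul : Quo ψ R) → a = b := fun a b h =>
    Additive.toMul.injective (Subtype.ext h)
  obtain ⟨hr, hWcard, hexp, ⟨s, hquad⟩, hnpow⟩ := plane_structure (W := Additive Wm) (σ := S) he
    (AddMonoidHom.ext fun a => hext _ _ ((hSpow _ a).trans (by rw [← hτσ]; exact a.toMul.2)))
    (by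
      show Odd (Nat.card Wm)
      rw [← Nat.card_eq_fintype_card] at hQodd
      exact hQodd.of_dvd_nat Wm.card_subgroup_dvd_card)
    hWle β
    (fun a b => congrArg Additive.ofMul (Units.ext (hE.qpair_act x _ _)))
    (fun b hb => hext _ _ (by
      refine hE.eq_one_of_qpair fun m => ?_
      have hW : ∀ a ∈ Wm, qpair ψ R a (b.toMul : Quo ψ R) = 1 := fun a ha => by
        rw [← hB]
        exact congrArg (fun z : Additive Kˣ => ((z.toMul : Kˣ) : K)) (hb (Additive.ofMul ⟨a, ha⟩))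
      have hkey : qpair ψ R m (b.toMul : Quo ψ R) = 1 := by
        obtain ⟨u, hu⟩ := hsurj m
        -- split `m` as a fixed point times an inverted one
        have h2 : m = u * τ u * (u * (τ u)⁻¹) := by
          rw [mul_mul_mul_comm, hu, mul_inv_cancel, mul_one]
        have hc : τ (u * τ u) = u * τ u := by rw [map_mul, hττ, mul_comm]
        have hcb : qpair ψ R (u * τ u) (b.toMul : Quo ψ R) = 1 := by
          have h3 := hE.qpair_act (x ^ 2 ^ (e - 1)) (u * τ u) (b.toMul : Quo ψ R)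
          rw [← hτ, hc, show τ (b.toMul : Quo ψ R) = (b.toMul : Quo ψ R)⁻¹ from b.toMul.2] at h3
          have h4 : qpair ψ R (u * τ u) (b.toMul : Quo ψ R) ^ 2 = 1 := by
            rw [pow_two]
            conv_lhs => arg 2; rw [← h3]
            rw [← hE.qpair_mul_right, mul_inv_cancel, hE.qpair_one_right]
          have h5 : (qpair ψ R (u * τ u) (b.toMul : Quo ψ R) - 1) ^ 2 = 0 := by
            rw [sub_pow_char, h4, one_pow, sub_self]
          exact sub_eq_zero.1 (pow_eq_zero_iff two_ne_zero |>.1 h5)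
        rw [h2, hE.qpair_mul_left, hcb, hW _ ?_, one_mul]
        show τ (u * (τ u)⁻¹) = (u * (τ u)⁻¹)⁻¹
        rw [map_mul, map_inv, hττ, mul_inv_rev, inv_inv]
      have h6 := hE.qpair_swap m (b.toMul : Quo ψ R)
      rwa [hkey, one_mul] at h6))
  haveI : Fact (2 ^ e - 1).Prime := ⟨hr⟩
  have hq4 : 2 ^ 2 ≤ 2 ^ e := Nat.pow_le_pow_right two_pos he
  have hfix : ∀ m, τ m = m → σ m = m := by
    intro m hm
    refine heq ?_ m (by rw [← hτσ]; exact hm)
    rw [hcard, show Nat.card Wm = (2 ^ e - 1) ^ 2 from hWcard, mul_comm]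
  obtain ⟨w₀, hw₀⟩ := exists_ne (0 : Additive Wm)
  have hsmul : ∀ (i : ℕ) (a : Additive Wm),
      ((i • a).toMul : Quo ψ R) = (a.toMul : Quo ψ R) ^ i := fun i a => rfl
  have hRodd : ∀ g, hE.act g = 1 → Odd (orderOf g) := by
    intro g hg
    rw [← Nat.not_even_iff_odd]
    intro hev
    obtain ⟨d, hd⟩ := hev.two_dvd
    have hy : orderOf (g ^ d) = 2 := by
      have hd0 : d ≠ 0 := fun h0 => (orderOf_pos g).ne' (by rw [hd, h0, mul_zero])
      rw [orderOf_pow_of_dvd hd0 ⟨2, by rw [hd, mul_comm]⟩, hd, Nat.mul_div_cancel _ (by omega)]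
    have hy2 : g ^ d * g ^ d = 1 := by rw [← pow_two, ← hy, pow_orderOf_eq_one]
    obtain ⟨r, hr2⟩ : (⟨g ^ d, pow_mem (hact g hg) d⟩ : R) ∈ scal ψ R := by
      rw [← QuotientGroup.eq_one_iff]
      refine htwo _ ?_
      rw [← QuotientGroup.mk_mul, show (⟨g ^ d, pow_mem (hact g hg) d⟩ : R) * ⟨g ^ d, _⟩ = 1 from
        Subtype.ext hy2, QuotientGroup.mk_one]
    have hrr : r ^ 2 = 1 := by
      have h := congrArg ψ hy2
      rw [map_mul, show ψ (g ^ d) = r • 1 from hr2, map_one, smul_mul_smul_comm, one_mul] at h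
      rw [pow_two]
      exact smul_left_injective K (one_ne_zero (α := Module.End K V)) (h.trans (one_smul K _).symm)
    have hr1 : r = 1 := by
      have h5 : (r - 1) ^ 2 = 0 := by rw [sub_pow_char, hrr, one_pow, sub_self]
      exact sub_eq_zero.1 (pow_eq_zero_iff two_ne_zero |>.1 h5)
    have hone : g ^ d = 1 := hψ (by rw [show ψ (g ^ d) = r • 1 from hr2, hr1, one_smul, map_one])
    rw [hone, orderOf_one] at hy
    exact absurd hy (by omega)
  refine mem_top_of_plane hsol hE.act hsqf hRodd (r := 2 ^ e - 1) (by omega) he (by omega) x hpow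
    hfix (fun m hm => ?_) s (fun m hm => ?_) (m₀ := (w₀.toMul : Quo ψ R)) (fun h => hw₀ (hext _ _ h))
    w₀.toMul.2 (fun i h => hnpow w₀ hw₀ i (hext _ _ (by rw [hsmul]; exact h))) ?_
  · exact (hsmul _ (Additive.ofMul (⟨m, hm⟩ : Wm))).symm.trans
      (congrArg (fun a : Additive Wm => (a.toMul : Quo ψ R)) (hexp _))
  · exact (congrArg (fun a : Additive Wm => (a.toMul : Quo ψ R))
      (hquad (Additive.ofMul (⟨m, hm⟩ : Wm)))).trans (hsmul _ _)
  · exact hWle

end

/-- An element annihilated by the geometric sum has its half power in `Top 2 H`. -/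
theorem mem_top_of_geom_sum [IsAlgClosed K] [CharP K 2] {V : Type v} [AddCommGroup V] [Module K V]
    [FiniteDimensional K V] {H : Type w} [Group H] [Finite H] (hsol : Group.IsSolvable H)
    (ψ : H →* Module.End K V) (hψ : Function.Injective ψ) (x : H) (e : ℕ)
    (hx : TGood V e (ψ x)) : x ^ 2 ^ (e - 1) ∈ Top 2 H :=
  haveI : Fact (Nat.Prime 2) := ⟨Nat.prime_two⟩
  mem_top_of_good (c := 2) TGood tGood_closed
    (fun {V} _ _ _ _ {H} _ _ hsol ψ hψ _ hsc x e hx => tPrim hsol ψ hψ hsc x e hx)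
    (finrank K V) le_rfl hsol ψ hψ x e hx

end CfsgLib.FGS74.GrossLen
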