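import Cfsg.Agent.FGS74.GrossLen.Orbits
import Mathlib.FieldTheory.Finite.Basic
import Mathlib.GroupTheory.Perm.Cycle.Basic

/-!
# A small module with an element of two-power order inverting it and preserving a pairing

If `σ ^ 2 ^ (e - 1) = -1` on an abelian group of odd order at most `(2 ^ e - 1) ^ 2` carrying an
invariant nondegenerate pairing, then `r = 2 ^ e - 1` is prime, the group has order `r ^ 2` and `σ`
has an integral quadratic equation `σ ^ 2 + 1 = s σ`.
-/

set_option autoImplicit false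
set_option linter.style.haveILetI false

namespace CfsgLib.FGS74.GrossLen

universe u v

/-- A point fixed by a proper power is fixed by the half power. -/
theorem pow_half_fixed {α : Type*} {p : Equiv.Perm α} {e : ℕ} (hp : p ^ 2 ^ e = 1) {a : α} {i : ℕ}
    (hi : 0 < i) (hiq : i < 2 ^ e) (h : (p ^ i) a = a) : (p ^ 2 ^ (e - 1)) a = a := by
  obtain ⟨l, hl, hgcd⟩ := (Nat.dvd_prime_pow Nat.prime_two).1 (Nat.gcd_dvd_right i (2 ^ e))
  let S := MulAction.stabilizer (Equiv.Perm α) a
  have hiS : p ^ i ∈ S := h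
  have hlS : p ^ 2 ^ l ∈ S := by
    rw [← hgcd, ← zpow_natCast, Nat.gcd_eq_gcd_ab, zpow_add, zpow_mul, zpow_mul, zpow_natCast,
      zpow_natCast, hp, one_zpow, mul_one]
    exact zpow_mem hiS _
  have hle : l ≤ e - 1 := by
    have h1 := Nat.gcd_le_left (2 ^ e) hi
    rw [hgcd] at h1
    have := (Nat.pow_lt_pow_iff_right (Nat.lt_succ_self 1)).1 (h1.trans_lt hiq)
    omega
  have : p ^ 2 ^ (e - 1) ∈ S := by
    rw [show 2 ^ (e - 1) = 2 ^ l * 2 ^ (e - 1 - l) by rw [← pow_add]; congr 1; omega, pow_mul]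
    exact pow_mem hlS _
  exact this

/-- A power of a prime one less than a power of two. -/
theorem eq_one_of_pow_add_one_eq {r l e : ℕ} (hr : Odd r) (he : 2 ≤ e) (h : r ^ l + 1 = 2 ^ e) :
    r + 1 = 2 ^ e := by
  obtain ⟨r', rfl⟩ := hr
  rcases Nat.even_or_odd l with ⟨i, rfl⟩ | hl
  · exfalso
    have h1 : (2 * r' + 1) ^ (i + i) % 4 = 1 := by
      rw [← two_mul, pow_mul, Nat.pow_mod, show (2 * r' + 1) ^ 2 % 4 = 1 by
        rw [show (2 * r' + 1) ^ 2 = 4 * (r' * r' + r') + 1 by ring, Nat.mul_add_mod]]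
      simp
    have h2 : 2 ^ e % 4 = 0 := Nat.mod_eq_zero_of_dvd
      (show 2 ^ 2 ∣ 2 ^ e from pow_dvd_pow 2 he) |> id
    omega
  · obtain ⟨a, ha, hra⟩ := (Nat.dvd_prime_pow Nat.prime_two).1
      (h ▸ (by simpa using hl.nat_add_dvd_pow_add_pow (2 * r' + 1) 1) :
        2 * r' + 1 + 1 ∣ 2 ^ e)
    rcases ha.eq_or_lt with rfl | hlt
    · omega
    exfalso
    obtain ⟨b, rfl⟩ : ∃ b, a = b + 1 := ⟨a - 1, by
      rcases Nat.eq_zero_or_pos a with rfl | ha0
      · simp at hra
      · omega⟩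
    obtain ⟨i, rfl⟩ := hl
    set r := 2 * r' + 1 with hr
    have hb : 2 ^ (b + 1) = 2 * 2 ^ b := pow_succ' 2 b
    have hsq : r ^ 2 ≡ 1 [MOD 2 ^ (b + 2)] := by
      obtain ⟨z, hz⟩ : ∃ z, 2 ^ b = z + 1 := ⟨2 ^ b - 1, by have := Nat.one_le_two_pow (n := b); omega⟩
      have hr2 : r = 2 * z + 1 := by omega
      rw [hr2, show (2 * z + 1) ^ 2 = 1 + z * (4 * (z + 1)) by ring, ← hz,
        show 4 * 2 ^ b = 2 ^ (b + 2) by ring]
      exact Nat.modEq_zero_iff_dvd.2 ⟨z, mul_comm _ _⟩ |>.add_left 1 |>.trans (by rw [add_zero])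
    have h3 : r ^ (2 * i + 1) ≡ r [MOD 2 ^ (b + 2)] := by
      rw [show r ^ (2 * i + 1) = (r ^ 2) ^ i * r by rw [← pow_mul, ← pow_succ]]
      simpa using (hsq.pow i).mul_right r
    have h4 : 2 ^ (b + 1) ≡ 2 ^ e [MOD 2 ^ (b + 2)] := by
      rw [← hra, ← h]
      exact (h3.symm).add_right 1
    have h5 : 2 ^ e ≡ 0 [MOD 2 ^ (b + 2)] := Nat.modEq_zero_iff_dvd.2 (pow_dvd_pow 2 (by omega))
    have h6 := (Nat.pow_dvd_pow_iff_le_right (show 1 < 2 by norm_num)).1
      (Nat.modEq_zero_iff_dvd.1 (h4.trans h5))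
    omega

/-- A finite commutative domain with an involution inverting an element of order `2 ^ e`. -/
theorem field_structure {A : Type u} [CommRing A] [IsDomain A] [Finite A] {r e : ℕ} (hr : r.Prime)
    (hr2 : r ≠ 2) (hrA : (r : A) = 0) {a : A} (he : 2 ≤ e) (hord : orderOf a = 2 ^ e)
    (star : A →+* A) (hstar : star a = a ^ (2 ^ e - 1)) (hcard : Nat.card A ≤ (2 ^ e - 1) ^ 2) :
    r = 2 ^ e - 1 ∧ Nat.card A = (2 ^ e - 1) ^ 2 ∧ ∃ s : ℕ, a * a + 1 = (s : A) * a := by
  classical
  haveI := Fact.mk hr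
  cases nonempty_fintype A
  rw [Nat.card_eq_fintype_card] at hcard ⊢
  set q := 2 ^ e with hq
  have hq4 : 4 ≤ q := (show 2 ^ 2 ≤ 2 ^ e from Nat.pow_le_pow_right two_pos he)
  have haq : a ^ q = 1 := hord ▸ pow_orderOf_eq_one a
  have hainv : a * a ^ (q - 1) = 1 := by rw [← pow_succ', Nat.sub_add_cancel (by omega), haq]
  have hne : a ≠ a ^ (q - 1) := by
    intro h
    have h1 : a ^ 2 = 1 := by
      rw [pow_two]
      conv_lhs => arg 2; rw [h]
      exact hainv
    have h2 := Nat.le_of_dvd two_pos (orderOf_dvd_of_pow_eq_one h1)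
    omega
  have hstar2 : star (a ^ (q - 1)) = a := by
    rw [map_pow, hstar, ← pow_mul, show (q - 1) * (q - 1) = q * (q - 2) + 1 by
      obtain ⟨z, hz⟩ : ∃ z, q = z + 2 := ⟨q - 2, by omega⟩
      rw [hz, show z + 2 - 1 = z + 1 by omega, Nat.add_sub_cancel]; ring,
      pow_succ, pow_mul, haq, one_pow, one_mul]
  let A₀ : Subring A := RingHom.eqLocus star (RingHom.id A)
  have ha₀ : a ∉ A₀ := fun h => hne ((show star a = a from h).symm.trans hstar)
  have hs₀ : a + a ^ (q - 1) ∈ A₀ := show star _ = _ by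
    rw [map_add, hstar, hstar2, add_comm]; rfl
  haveI : Fintype A₀ := Fintype.ofFinite _
  set Q := Fintype.card A₀ with hQ
  letI : Field A₀ := Fintype.fieldOfDomain A₀
  have hQ1 : 1 < Q := Fintype.one_lt_card
  have hfix : ∀ y ∈ A₀, y ^ Q = y := fun y hy =>
    congrArg Subtype.val (FiniteField.pow_card (⟨y, hy⟩ : A₀))
  have hQ2 : Q * Q ≤ Fintype.card A := by
    rw [hQ, ← Fintype.card_prod]
    refine Fintype.card_le_of_injective (fun y : A₀ × A₀ => (y.1 : A) + y.2 * a) fun y y' h => ?_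
    have h1 := congrArg star h
    simp only [map_add, map_mul, hstar] at h1
    rw [show star (y.1 : A) = y.1 from y.1.2, show star (y'.1 : A) = y'.1 from y'.1.2,
      show star (y.2 : A) = y.2 from y.2.2, show star (y'.2 : A) = y'.2 from y'.2.2] at h1
    have h2 : ((y.2 : A) - y'.2) * (a - a ^ (q - 1)) = 0 := by
      simp only [mul_sub, sub_mul] at h ⊢
      linear_combination h - h1
    rcases mul_eq_zero.1 h2 with h3 | h3
    · have h4 := sub_eq_zero.1 h3
      simp only [h4, add_left_inj] at h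
      exact Prod.ext (Subtype.ext h) (Subtype.ext h4)
    · exact absurd (sub_eq_zero.1 h3) hne
  haveI : CharP A₀ r := (CharP.charP_iff_prime_eq_zero hr).2 (Subtype.ext (by simpa using hrA))
  haveI : CharP A r := (CharP.charP_iff_prime_eq_zero hr).2 hrA
  haveI : ExpChar A r := ExpChar.prime hr
  obtain ⟨l, -, hl⟩ := FiniteField.card A₀ r
  have hroot : (a ^ Q - a) * (a ^ Q - a ^ (q - 1)) = 0 := by
    have hf : ∀ y z : A, (y + z) ^ Q = y ^ Q + z ^ Q := fun y z => by
      rw [hQ, hl]; exact add_pow_char_pow y z r _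
    have h1 : a * (a + a ^ (q - 1)) = a ^ 2 + 1 := by rw [mul_add, hainv, pow_two]
    have h2 := congrArg (· ^ Q) h1
    simp only [mul_pow, hfix _ hs₀, hf, one_pow, ← pow_mul, mul_comm 2 Q] at h2
    rw [pow_mul] at h2
    linear_combination -h2 + hainv
  have hinvQ : a ^ (Q + 1) = 1 := by
    rcases mul_eq_zero.1 hroot with h | h
    · exfalso
      refine ha₀ ?_
      let P : Polynomial A := Polynomial.X ^ Q - Polynomial.X
      have hdeg : P.natDegree = Q := by
        rw [Polynomial.natDegree_sub_eq_left_of_natDegree_lt (by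
          rw [Polynomial.natDegree_X_pow, Polynomial.natDegree_X]; exact hQ1),
          Polynomial.natDegree_X_pow]
      have hP : P ≠ 0 := fun h0 => by
        rw [h0, Polynomial.natDegree_zero] at hdeg
        omega
      let Z : Finset A := insert a (Finset.univ.image ((↑) : A₀ → A))
      by_contra hmem
      have hZ : Z.card = Q + 1 := by
        rw [Finset.card_insert_of_notMem (fun h => by
          obtain ⟨y, -, hy⟩ := Finset.mem_image.1 h
          exact hmem (hy ▸ y.2)), Finset.card_image_of_injective _ Subtype.val_injective,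
          Finset.card_univ]
      have h5 := Polynomial.card_le_degree_of_subset_roots (p := P) (Z := Z) (fun y hy => by
        rw [Finset.mem_val] at hy
        rw [Polynomial.mem_roots hP, Polynomial.IsRoot.def]
        simp only [P, Polynomial.eval_sub, Polynomial.eval_pow, Polynomial.eval_X, sub_eq_zero]
        rcases Finset.mem_insert.1 hy with rfl | hy
        · exact sub_eq_zero.1 h
        · obtain ⟨z, -, rfl⟩ := Finset.mem_image.1 hy
          exact hfix _ z.2)
      rw [hZ, hdeg] at h5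
      omega
    · rw [pow_succ, sub_eq_zero.1 h, mul_comm, hainv]
  have hdvd : q ∣ Q + 1 := hord ▸ orderOf_dvd_of_pow_eq_one hinvQ
  have hQle : Q ≤ q - 1 := Nat.mul_self_le_mul_self_iff.1 (hQ2.trans (pow_two (q - 1) ▸ hcard))
  have hQeq : Q = q - 1 := by
    have := Nat.le_of_dvd (Nat.succ_pos Q) hdvd
    omega
  have hl1 : r + 1 = 2 ^ e := eq_one_of_pow_add_one_eq (r := r) (l := l) (hr.odd_of_ne_two hr2) he
    (by rw [← hl, ← hQ, hQeq]; omega)
  have hrq : r = q - 1 := by omega
  refine ⟨hrq, le_antisymm hcard (by rw [pow_two, ← hQeq]; exact hQ2), ?_⟩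
  have hbij : Function.Bijective (ZMod.castHom dvd_rfl A₀ : ZMod r →+* A₀) := by
    refine ((Fintype.bijective_iff_injective_and_card _).2 ⟨RingHom.injective _, ?_⟩)
    rw [ZMod.card, ← hQ, hQeq, hrq]
  obtain ⟨c, hc⟩ := hbij.2 ⟨_, hs₀⟩
  refine ⟨c.val, ?_⟩
  have h1 : ((c.val : ℕ) : A₀) = ⟨_, hs₀⟩ := by
    rw [← hc, ← map_natCast (ZMod.castHom dvd_rfl A₀ : ZMod r →+* A₀) c.val, ZMod.natCast_zmod_val]
  have hc' : (c.val : A) = a + a ^ (q - 1) := by
    rw [← map_natCast A₀.subtype c.val, h1]; rfl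
  rw [hc']
  linear_combination -hainv

variable {W : Type u} [AddCommGroup W] [Finite W] {K : Type v} [CommMonoid K]

theorem plane_structure {σ : AddMonoid.End W} {e : ℕ} (he : 2 ≤ e)
    (hσ : σ ^ 2 ^ (e - 1) = -1) (hodd : Odd (Nat.card W)) [Nontrivial W]
    (hcard : Nat.card W ≤ (2 ^ e - 1) ^ 2) (β : W →+ W →+ Additive Kˣ)
    (hinv : ∀ a b, β (σ a) (σ b) = β a b) (hnd : ∀ b, (∀ a, β a b = 0) → b = 0) :
    (2 ^ e - 1).Prime ∧ Nat.card W = (2 ^ e - 1) ^ 2 ∧ (∀ w : W, (2 ^ e - 1) • w = 0) ∧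
      (∃ s : ℕ, ∀ w : W, σ (σ w) + w = s • σ w) ∧ ∀ w : W, w ≠ 0 → ∀ i : ℕ, σ w ≠ i • w := by
  classical
  cases nonempty_fintype W
  set q := 2 ^ e with hq
  have hh : 2 ^ e = 2 * 2 ^ (e - 1) := by rw [← pow_succ']; congr 1; omega
  have hq4 : 4 ≤ q := (show 2 ^ 2 ≤ 2 ^ e from Nat.pow_le_pow_right two_pos he)
  have hσq : σ ^ q = 1 := by
    rw [hq, hh, mul_comm, pow_mul, hσ, pow_two, neg_mul_neg, one_mul]
  -- the permutation
  let p : Equiv.Perm W :=
    { toFun := σ
      invFun := fun w => (σ ^ (q - 1) : AddMonoid.End W) w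
      left_inv := fun w => by
        show (σ ^ (q - 1) * σ) w = w
        rw [← pow_succ, Nat.sub_add_cancel (by omega), hσq]; rfl
      right_inv := fun w => by
        show (σ * σ ^ (q - 1)) w = w
        rw [← pow_succ', Nat.sub_add_cancel (by omega), hσq]; rfl }
  have hp : ∀ (i : ℕ) w, (p ^ i) w = (σ ^ i) w := by
    intro i
    induction i with
    | zero => intro w; rfl
    | succ i ih => intro w; rw [pow_succ', Equiv.Perm.mul_apply, ih, pow_succ']; rfl
  have hpq : p ^ q = 1 := Equiv.ext fun w => by rw [hp, hσq]; rfl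
  have htwo : ∀ w : W, w + w = 0 → w = 0 := by
    intro w hw
    have h1 : addOrderOf w ∣ 2 := addOrderOf_dvd_of_nsmul_eq_zero (by rw [two_nsmul, hw])
    have h2 := hodd.of_dvd_nat (addOrderOf_dvd_natCard w)
    rcases (Nat.dvd_prime Nat.prime_two).1 h1 with h3 | h3
    · exact AddMonoid.addOrderOf_eq_one_iff.1 h3
    · rw [h3] at h2
      exact absurd h2 (by decide)
  have hfree : ∀ w : W, w ≠ 0 → ∀ i, 0 < i → i < q → (p ^ i) w ≠ w := by
    intro w hw i hi hiq h
    have h1 := pow_half_fixed hpq hi hiq h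
    rw [hp, hσ] at h1
    exact hw (htwo w (by
      conv_lhs => arg 1; rw [← h1]
      exact neg_add_cancel w))
  -- invariant subgroups
  have hmod : ∀ U : AddSubgroup W, (∀ w ∈ U, σ w ∈ U) → ∃ k, Nat.card U = q * k + 1 := by
    intro U hU
    let S : Finset W := (Finset.univ.filter fun w => w ∈ U).erase 0
    have hS : ∀ w ∈ S, p w ∈ S := by
      intro w hw
      simp only [S, Finset.mem_erase, Finset.mem_filter, Finset.mem_univ, true_and] at hw ⊢
      exact ⟨fun h => hw.1 (p.injective (h.trans (map_zero σ).symm)), hU w hw.2⟩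
    refine ⟨(S.image (rep p)).card, ?_⟩
    rw [card_free p hS (by omega) (fun w _ => by rw [hpq]; rfl)
      (fun w hw => hfree w (Finset.mem_erase.1 hw).1),
      Finset.card_erase_of_mem (by simp [zero_mem]), Nat.card_eq_fintype_card, Fintype.card_subtype,
      Nat.sub_add_cancel]
    exact Finset.card_pos.2 ⟨0, by simp [zero_mem]⟩
  have hirr : ∀ U : AddSubgroup W, (∀ w ∈ U, σ w ∈ U) → U = ⊥ ∨ U = ⊤ := by
    intro U hU
    by_contra! hUne
    obtain ⟨k, hk⟩ := hmod U hU
    obtain ⟨m, hm⟩ := hmod ⊤ fun w _ => AddSubgroup.mem_top _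
    rw [AddSubgroup.card_top] at hm
    have hidx := U.card_mul_index
    have hk0 : k ≠ 0 := by
      rintro rfl
      exact hUne.1 (AddSubgroup.eq_bot_of_card_eq U (by simpa using hk))
    have hi1 : U.index ≠ 1 := fun h => hUne.2 (AddSubgroup.index_eq_one.1 h)
    rw [hk, hm] at hidx
    have hi2 : U.index % q = 1 := by
      have := congrArg (· % q) hidx
      simpa [Nat.add_mod, Nat.mul_mod, Nat.mod_eq_of_lt (show 1 < q by omega)] using this
    have hi3 : q + 1 ≤ U.index := by
      have := Nat.div_add_mod U.index q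
      rcases Nat.eq_zero_or_pos (U.index / q) with h0 | h0
      · rw [h0, mul_zero, zero_add] at this; omega
      · have := Nat.mul_le_mul_left q h0
        omega
    have h1 : (q + 1) * (q + 1) ≤ Nat.card W := by
      rw [hm, ← hidx]
      exact Nat.mul_le_mul (by nlinarith [Nat.pos_of_ne_zero hk0]) hi3
    have h2 : (q - 1) * (q - 1) < (q + 1) * (q + 1) := Nat.mul_self_lt_mul_self (by omega)
    rw [pow_two] at hcard
    omega
  -- the exponent
  have hne : Nat.card W ≠ 1 := fun h => by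
    have := Finite.one_lt_card (α := W)
    omega
  obtain ⟨r, hr, hrW⟩ := Nat.exists_prime_and_dvd hne
  haveI := Fact.mk hr
  obtain ⟨z, hz⟩ := exists_prime_addOrderOf_dvd_card' (G := W) r hrW
  have hexp : ∀ w : W, r • w = 0 := by
    let U : AddSubgroup W := (nsmulAddMonoidHom (α := W) r).ker
    have hU : U = ⊤ := by
      refine (hirr U fun w (hw : r • w = 0) => show r • σ w = 0 by
        rw [← map_nsmul, hw, map_zero]).resolve_left fun h => ?_
      have h1 : z ∈ U := show r • z = 0 by rw [← hz]; exact addOrderOf_nsmul_eq_zero z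
      rw [h, AddSubgroup.mem_bot] at h1
      rw [h1, addOrderOf_zero] at hz
      exact hr.one_lt.ne hz
    exact fun w => show w ∈ U from hU ▸ AddSubgroup.mem_top w
  -- the commutative ring generated by `σ`
  let φ : Polynomial ℤ →+* AddMonoid.End W := (Polynomial.aeval σ).toRingHom
  have hφX : φ Polynomial.X = σ := Polynomial.aeval_X σ
  let ψ : Polynomial ℤ →+* AddMonoid.End W := (Polynomial.aeval (σ ^ (q - 1))).toRingHom
  have hψX : ψ Polynomial.X = σ ^ (q - 1) := Polynomial.aeval_X _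
  have hadj1 : ∀ a b, β (σ a) b = β a ((σ ^ (q - 1)) b) := by
    intro a b
    conv_lhs => rw [show b = σ ((σ ^ (q - 1)) b) by
      show b = (σ * σ ^ (q - 1)) b
      rw [← pow_succ', Nat.sub_add_cancel (by omega), hσq]; rfl]
    exact hinv _ _
  have hadj : ∀ f : Polynomial ℤ, ∀ a b, β (φ f a) b = β a (ψ f b) := by
    intro f
    induction f using Polynomial.induction_on with
    | C n =>
      intro a b
      have h1 : φ (Polynomial.C n) = n • 1 := by simp [φ, Algebra.algebraMap_eq_smul_one]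
      have h2 : ψ (Polynomial.C n) = n • 1 := by simp [ψ, Algebra.algebraMap_eq_smul_one]
      rw [h1, h2]
      show β (n • a) b = β a (n • b)
      rw [map_zsmul, map_zsmul, AddMonoidHom.zsmul_apply]
    | add f g hf hg =>
      intro a b
      rw [map_add, map_add]
      show β (φ f a + φ g a) b = β a (ψ f b + ψ g b)
      rw [map_add, AddMonoidHom.add_apply, map_add, hf, hg]
    | monomial n c ih =>
      intro a b
      rw [pow_succ, ← mul_assoc, map_mul, map_mul ψ, hφX, hψX]
      show β (φ _ (σ a)) b = _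
      rw [ih, hadj1, show ψ (Polynomial.C c * Polynomial.X ^ n) * σ ^ (q - 1) =
        σ ^ (q - 1) * ψ (Polynomial.C c * Polynomial.X ^ n) by
          rw [← hψX, ← map_mul, mul_comm, map_mul]]
      rfl
  have hcomm : ∀ f, Commute (φ f) σ := fun f => by
    rw [← hφX]; exact (mul_comm f Polynomial.X ▸ (map_mul φ f Polynomial.X).symm).trans (map_mul φ _ _)
  set I := RingHom.ker φ with hI
  haveI hIp : I.IsPrime := by
    refine ⟨fun h => ?_, fun {f g} hfg => ?_⟩
    · have h1 : φ 1 = 0 := RingHom.mem_ker.1 ((Ideal.eq_top_iff_one _).1 h)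
      rw [map_one] at h1
      obtain ⟨w, hw⟩ := exists_ne (0 : W)
      exact hw (DFunLike.congr_fun h1 w)
    · by_contra! hno
      have hg : (φ g).range = ⊤ := by
        refine (hirr _ ?_).resolve_left fun h => hno.2 ?_
        · rintro _ ⟨w, rfl⟩
          exact ⟨σ w, (DFunLike.congr_fun (hcomm g).eq w : φ g (σ w) = σ (φ g w))⟩
        · exact RingHom.mem_ker.2 ((AddMonoidHom.range_eq_bot_iff).1 h)
      refine hno.1 (RingHom.mem_ker.2 (AddMonoidHom.ext fun w => ?_))
      obtain ⟨v, rfl⟩ : w ∈ (φ g).range := hg ▸ AddSubgroup.mem_top w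
      have h1 := DFunLike.congr_fun (RingHom.mem_ker.1 hfg) v
      rw [map_mul] at h1
      exact h1
  let A := Polynomial ℤ ⧸ I
  let ι : A →+* AddMonoid.End W := RingHom.kerLift φ
  have hι : Function.Injective ι := RingHom.kerLift_injective φ
  haveI : Finite (AddMonoid.End W) := Finite.of_injective (fun f : AddMonoid.End W => (f : W → W))
    DFunLike.coe_injective
  haveI : Finite A := Finite.of_injective ι hι
  cases nonempty_fintype A
  let mk : Polynomial ℤ →+* A := Ideal.Quotient.mk I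
  set a : A := mk Polynomial.X with ha
  have hιa : ι a = σ := hφX
  have hker : I ≤ RingHom.ker (mk.comp (Polynomial.aeval (Polynomial.X ^ (q - 1))).toRingHom) := by
    intro f hf
    rw [RingHom.mem_ker]
    refine hι (?_ : ι _ = ι 0)
    rw [map_zero]
    have hcomp : ι.comp (mk.comp (Polynomial.aeval (Polynomial.X ^ (q - 1))).toRingHom) = ψ := by
      refine Polynomial.ringHom_ext (fun n => by simp) ?_
      show ι (mk (Polynomial.aeval (Polynomial.X ^ (q - 1)) Polynomial.X)) = ψ Polynomial.X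
      rw [Polynomial.aeval_X, map_pow, map_pow, hψX, ← hιa, ha]
    rw [show ι _ = ψ f from RingHom.congr_fun hcomp f]
    refine AddMonoidHom.ext fun b => hnd _ fun c => ?_
    refine (hadj f c b).symm.trans ?_
    rw [RingHom.mem_ker.1 hf]
    show β 0 b = 0
    rw [map_zero, AddMonoidHom.zero_apply]
  let star : A →+* A := Ideal.Quotient.lift I _ fun f hf => RingHom.mem_ker.1 (hker hf)
  have hstar : star a = a ^ (q - 1) := by
    show mk (Polynomial.aeval (Polynomial.X ^ (q - 1)) Polynomial.X) = _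
    rw [Polynomial.aeval_X, map_pow]
  have haq : a ^ q = 1 := hι (by rw [map_pow, hιa, hσq, map_one])
  obtain ⟨w₀, hw₀⟩ := exists_ne (0 : W)
  have hah : ι (a ^ 2 ^ (e - 1)) = -1 := by rw [map_pow, hιa, hσ]
  haveI : IsDomain A := Ideal.Quotient.isDomain I
  have hord : orderOf a = 2 ^ e := by
    have hnot : ¬ a ^ 2 ^ (e - 1) = 1 := fun h => by
      rw [h, map_one] at hah
      have h3 : w₀ = -w₀ := DFunLike.congr_fun hah w₀
      refine hw₀ (htwo w₀ ?_)
      conv_lhs => arg 1; rw [h3]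
      exact neg_add_cancel w₀
    rw [show e = e - 1 + 1 by omega]
    exact orderOf_eq_prime_pow hnot (by rwa [Nat.sub_add_cancel (by omega : 1 ≤ e)])
  have hle : Nat.card A ≤ Nat.card W := by
    refine Nat.card_le_card_of_injective (fun y => ι y w₀) fun y y' hyy => ?_
    obtain ⟨f, hf⟩ := Ideal.Quotient.mk_surjective (y - y')
    have h1 : φ f w₀ = 0 := by
      rw [show φ f = ι (y - y') by rw [← hf]; rfl, map_sub]
      exact sub_eq_zero.2 hyy
    have h2 : (φ f).ker = ⊤ := (hirr _ fun w (hw : φ f w = 0) => show φ f (σ w) = 0 by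
      rw [show φ f (σ w) = σ (φ f w) from DFunLike.congr_fun (hcomm f).eq w, hw, map_zero]
      ).resolve_left fun h => hw₀ ((AddSubgroup.mem_bot).1 (h ▸ h1))
    refine sub_eq_zero.1 (hι (AddMonoidHom.ext fun w => ?_))
    rw [map_zero, ← hf]
    exact (show w ∈ (φ f).ker from h2 ▸ AddSubgroup.mem_top w)
  have hrA : (r : A) = 0 := hι (by
    rw [map_natCast, map_zero]
    exact AddMonoidHom.ext fun w => (AddMonoid.End.natCast_apply r w).trans (hexp w))
  have hr2 : r ≠ 2 := fun h2 => by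
    subst h2
    exact absurd (hodd.of_dvd_nat hrW) (by decide)
  obtain ⟨hrq, hAcard, s, hs⟩ :=
    field_structure hr hr2 hrA he hord star hstar (hle.trans hcard)
  have hWcard : Nat.card W = (2 ^ e - 1) ^ 2 := le_antisymm hcard (hAcard ▸ hle)
  refine ⟨hrq ▸ hr, hWcard, fun w => hrq ▸ hexp w, ⟨s, fun w => ?_⟩, ?_⟩
  · have h3 := DFunLike.congr_fun (congrArg ι hs) w
    rw [map_add, map_mul, map_mul, map_one, map_natCast, hιa] at h3
    exact h3.trans (AddMonoid.End.natCast_apply _ _)
  · intro w hw i hi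
    have hU : AddSubgroup.zmultiples w = ⊤ := by
      refine (hirr _ fun v hv => ?_).resolve_left fun h => hw ?_
      · obtain ⟨k, rfl⟩ := AddSubgroup.mem_zmultiples_iff.1 hv
        rw [map_zsmul, hi]
        exact zsmul_mem (nsmul_mem (AddSubgroup.mem_zmultiples w) i) k
      · have := AddSubgroup.mem_zmultiples w
        rwa [h, AddSubgroup.mem_bot] at this
    have h1 : Nat.card W ≤ r := by
      rw [← AddSubgroup.card_top (G := W), ← hU, Nat.card_zmultiples]
      exact Nat.le_of_dvd hr.pos (addOrderOf_dvd_of_nsmul_eq_zero (hexp w))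
    rw [hWcard, ← hrq] at h1
    nlinarith [hr.two_le]

end CfsgLib.FGS74.GrossLen
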