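import Cfsg.Agent.FGS74.GrossLen.Orbits
import Cfsg.Agent.FGS74.GrossLen.PlaneField

/-!
# Orbits of the points moved by the involution in a cyclic two-group
-/

set_option autoImplicit false
set_option linter.style.haveILetI false

namespace CfsgLib.FGS74.GrossLen

universe u

variable {M : Type u} [Group M] [Fintype M] [DecidableEq M] (σ : MulAut M) (e : ℕ)

/-- The points moved by the half power. -/
def moved : Finset M := Finset.univ.filter fun m => (σ ^ 2 ^ (e - 1)) m ≠ m

omit [Fintype M] [DecidableEq M] in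
theorem toEquiv_pow (i : ℕ) (m : M) : ((σ.toEquiv : Equiv.Perm M) ^ i) m = (σ ^ i) m := by
  induction i generalizing m with
  | zero => rfl
  | succ i ih => rw [pow_succ, pow_succ, Equiv.Perm.mul_apply, MulAut.mul_apply]; exact ih _

theorem mem_moved {m : M} : m ∈ moved σ e ↔ (σ ^ 2 ^ (e - 1)) m ≠ m := by simp [moved]

theorem moved_invariant {m : M} (hm : m ∈ moved σ e) : σ m ∈ moved σ e := by
  rw [mem_moved] at hm ⊢
  intro h
  refine hm (σ.injective ?_)
  rwa [← MulAut.mul_apply, ← pow_succ', pow_succ, MulAut.mul_apply]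

variable {σ e}

theorem moved_free (hq : σ ^ 2 ^ e = 1) {m : M} (hm : m ∈ moved σ e) {i : ℕ} (hi : 0 < i)
    (hiq : i < 2 ^ e) : (σ ^ i) m ≠ m := by
  intro h
  have hp : (σ.toEquiv : Equiv.Perm M) ^ 2 ^ e = 1 := Equiv.ext fun a => by
    rw [toEquiv_pow, hq]; rfl
  have := pow_half_fixed hp hi hiq (by rwa [toEquiv_pow])
  rw [toEquiv_pow] at this
  exact (mem_moved σ e).1 hm this

theorem card_moved (hq : σ ^ 2 ^ e = 1) :
    2 ^ e * ((moved σ e).image (rep (σ.toEquiv : Equiv.Perm M))).card = (moved σ e).card :=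
  card_free _ (fun _ ha => moved_invariant σ e ha) (pow_pos two_pos e)
    (fun a _ => by rw [toEquiv_pow, hq]; rfl)
    fun a ha i hi hiq h => moved_free hq ha hi hiq (by rwa [toEquiv_pow] at h)

/-- The subgroup of fixed points of the half power. -/
def halfFixed (σ : MulAut M) (e : ℕ) : Subgroup M :=
  MonoidHom.eqLocus (σ ^ 2 ^ (e - 1) : MulAut M).toMonoidHom (MonoidHom.id M)

omit [Fintype M] [DecidableEq M] in
theorem mem_halfFixed {m : M} : m ∈ halfFixed σ e ↔ (σ ^ 2 ^ (e - 1)) m = m := Iff.rfl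

theorem card_moved_add : (moved σ e).card + Nat.card (halfFixed σ e) = Fintype.card M := by
  classical
  rw [Nat.card_eq_fintype_card, ← Finset.card_univ (α := M),
    ← Finset.card_filter_add_card_filter_not (s := (Finset.univ : Finset M))
      (fun m => (σ ^ 2 ^ (e - 1)) m ≠ m), Fintype.card_of_subtype
      (Finset.univ.filter fun m => ¬ (σ ^ 2 ^ (e - 1)) m ≠ m) (fun m => by simp [mem_halfFixed])]
  rfl

end CfsgLib.FGS74.GrossLen
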