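import Cfsg.Agent.FGS74.GrossLen.Orbits

/-!
# Endomorphisms graded by a group of class two with scalar centre

`R` is normal, its commutators act as scalars and only scalar elements commute with all of `R`.
Then `End V = ⊕ ψ(a) C` over `a ∈ M = R / scalars`, `C` the commutant of `R`.
-/

set_option autoImplicit false
set_option linter.style.haveILetI false

open Module
open scoped commutatorElement

namespace CfsgLib.FGS74.GrossLen

universe u v w

variable {K : Type u} [Field K] {V : Type v} [AddCommGroup V] [Module K V] {H : Type w} [Group H]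

/-- The hypotheses on `R`. -/
structure IsExt (ψ : H →* Module.End K V) (R : Subgroup H) : Prop where
  normal : R.Normal
  comm_scalar : ∀ a ∈ R, ∀ b ∈ R, ∃ r : K, ψ ⁅a, b⁆ = r • 1
  nondeg : ∀ a ∈ R, (∀ b ∈ R, ψ a * ψ b = ψ b * ψ a) → ∃ r : K, ψ a = r • 1

variable (ψ : H →* Module.End K V) (R : Subgroup H)

theorem mul_map_inv (a : H) : ψ a * ψ a⁻¹ = 1 := by rw [← map_mul, mul_inv_cancel, map_one]

theorem map_inv_mul (a : H) : ψ a⁻¹ * ψ a = 1 := by rw [← map_mul, inv_mul_cancel, map_one]

/-- Conjugation of endomorphisms. -/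
def ad (h : H) : Module.End K (Module.End K V) :=
  (LinearMap.mulLeft K (ψ h)).comp (LinearMap.mulRight K (ψ h⁻¹))

theorem ad_apply (h : H) (A : Module.End K V) : ad ψ h A = ψ h * A * ψ h⁻¹ := by
  rw [ad, LinearMap.comp_apply, LinearMap.mulRight_apply, LinearMap.mulLeft_apply, mul_assoc]

theorem ad_one : ad ψ 1 = 1 := LinearMap.ext fun A => by simp [ad_apply]

theorem ad_mul (g h : H) : ad ψ (g * h) = ad ψ g * ad ψ h := LinearMap.ext fun A => by
  simp [ad_apply, Module.End.mul_apply, mul_assoc]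

theorem ad_pow (h : H) (i : ℕ) : ad ψ (h ^ i) = ad ψ h ^ i := by
  induction i with
  | zero => rw [pow_zero, pow_zero, ad_one]
  | succ i ih => rw [pow_succ, pow_succ, ad_mul, ih]

theorem ad_mul_map (h a : H) (A : Module.End K V) :
    ad ψ h (ψ a * A) = ψ (h * a * h⁻¹) * ad ψ h A := by
  simp only [ad_apply, map_mul, mul_assoc]
  rw [← mul_assoc (ψ h⁻¹) (ψ h), map_inv_mul, one_mul]

theorem ad_eq_self_of_scalar {z : H} {r : K} (hz : ψ z = r • 1) (A : Module.End K V) :
    ad ψ z A = A := by
  have h1 : r • ψ z⁻¹ = 1 := by rw [← mul_map_inv ψ z, hz, smul_mul_assoc, one_mul]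
  rw [ad_apply, hz, smul_mul_assoc, one_mul, smul_mul_assoc, ← mul_smul_comm, h1, mul_one]

theorem scalar_inv {z : H} {r : K} (hz : ψ z = r • 1) : ψ z⁻¹ = r⁻¹ • 1 := by
  by_cases h0 : r = 0
  · have h1 := mul_map_inv ψ z
    rw [hz, h0, zero_smul, zero_mul] at h1
    rw [← mul_one (ψ z⁻¹), ← h1, mul_zero, h0, inv_zero, zero_smul]
  · have h1 := map_inv_mul ψ z
    rw [hz, mul_smul_comm, mul_one] at h1
    rw [← h1, smul_smul, inv_mul_cancel₀ h0, one_smul]

/-- The scalar elements of `R`. -/
def scal : Subgroup R where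
  carrier := {z | ∃ r : K, ψ z = r • 1}
  one_mem' := ⟨1, by simp⟩
  mul_mem' := by
    rintro y z ⟨r, hr⟩ ⟨s, hs⟩
    exact ⟨r * s, by rw [Subgroup.coe_mul, map_mul, hr, hs, smul_mul_smul_comm, one_mul]⟩
  inv_mem' := by
    rintro z ⟨r, hr⟩
    exact ⟨r⁻¹, scalar_inv ψ hr⟩

theorem mem_scal {z : R} : z ∈ scal ψ R ↔ ∃ r : K, ψ z = r • 1 := Iff.rfl

theorem scal_conj {h z : H} {r : K} (hz : ψ z = r • 1) : ψ (h * z * h⁻¹) = r • 1 := by
  rw [map_mul, map_mul, hz, mul_smul_comm, mul_one, smul_mul_assoc, mul_map_inv]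

instance scal_normal : (scal ψ R).Normal :=
  ⟨fun _ ⟨r, hr⟩ g => ⟨r, by rw [Subgroup.coe_mul, Subgroup.coe_mul, Subgroup.coe_inv]; exact scal_conj ψ hr⟩⟩

/-- `R` modulo its scalar elements. -/
abbrev Quo : Type w := R ⧸ scal ψ R

open Classical in
/-- The commutator scalar. -/
noncomputable def pair (a b : R) : K :=
  if h : ∃ r : K, ψ ⁅(a : H), (b : H)⁆ = r • 1 then h.choose else 0

/-- The commutator scalar on the quotient. -/
noncomputable def qpair (m k : Quo ψ R) : K := pair ψ R m.out k.out

variable {ψ R}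

namespace IsExt

variable (hE : IsExt ψ R)
include hE

theorem mul_swap (a b : R) : ψ a * ψ b = pair ψ R a b • (ψ b * ψ a) := by
  have h : ψ ⁅(a : H), (b : H)⁆ = pair ψ R a b • 1 := by
    rw [pair, dif_pos (hE.comm_scalar a a.2 b b.2)]
    exact (hE.comm_scalar a a.2 b b.2).choose_spec
  calc ψ a * ψ b = ψ (⁅(a : H), (b : H)⁆ * ((b : H) * a)) := by
        rw [← map_mul, commutatorElement_def]; congr 1; group
    _ = _ := by rw [map_mul, h, smul_mul_assoc, one_mul, map_mul]

theorem quo_mul_comm (m k : Quo ψ R) : m * k = k * m := by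
  induction m using QuotientGroup.induction_on with
  | _ a =>
    induction k using QuotientGroup.induction_on with
    | _ b =>
      rw [← QuotientGroup.mk_mul, ← QuotientGroup.mk_mul, QuotientGroup.eq,
        show (a * b)⁻¹ * (b * a) = ⁅b⁻¹, a⁻¹⁆ by rw [commutatorElement_def]; group, mem_scal]
      obtain ⟨r, hr⟩ := hE.comm_scalar _ (inv_mem b.2) _ (inv_mem a.2)
      exact ⟨r, hr⟩

variable [Nontrivial V]

theorem pair_eq {a b : R} {r : K} (h : ψ a * ψ b = r • (ψ b * ψ a)) : pair ψ R a b = r := by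
  have h1 := (hE.mul_swap a b).symm.trans h
  have h2 := congrArg (fun A => A * (ψ (a : H)⁻¹ * ψ (b : H)⁻¹)) h1
  simp only [smul_mul_assoc, mul_assoc] at h2
  rw [← mul_assoc (ψ a) (ψ (a : H)⁻¹), mul_map_inv, one_mul, mul_map_inv] at h2
  exact smul_left_injective K (one_ne_zero (α := Module.End K V)) h2

theorem pair_ne_zero (a b : R) : pair ψ R a b ≠ 0 := by
  intro h
  have h1 := hE.mul_swap a b
  rw [h, zero_smul, ← map_mul] at h1
  have h2 := mul_map_inv ψ ((a : H) * b)
  rw [h1, zero_mul] at h2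
  exact zero_ne_one h2

theorem pair_mul_right (a b b' : R) :
    pair ψ R a (b * b') = pair ψ R a b * pair ψ R a b' := by
  refine hE.pair_eq ?_
  rw [Subgroup.coe_mul, map_mul, ← mul_assoc, hE.mul_swap a b, smul_mul_assoc, mul_assoc,
    hE.mul_swap a b', mul_smul_comm, smul_smul, ← mul_assoc]

theorem pair_mul_left (a a' b : R) :
    pair ψ R (a * a') b = pair ψ R a b * pair ψ R a' b := by
  refine hE.pair_eq ?_
  rw [Subgroup.coe_mul, map_mul, mul_assoc, hE.mul_swap a' b, mul_smul_comm, ← mul_assoc,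
    hE.mul_swap a b, smul_mul_assoc, smul_smul, mul_comm (pair ψ R a' b), mul_assoc]

theorem pair_self (a : R) : pair ψ R a a = 1 := hE.pair_eq (by rw [one_smul])

theorem pair_swap (a b : R) : pair ψ R a b * pair ψ R b a = 1 := by
  have h1 := hE.pair_mul_left a b (a * b)
  rw [hE.pair_self, hE.pair_mul_right, hE.pair_mul_right, hE.pair_self, hE.pair_self, one_mul,
    mul_one] at h1
  exact h1.symm

theorem pair_scal_right (a : R) {z : R} (hz : z ∈ scal ψ R) : pair ψ R a z = 1 := by
  obtain ⟨r, hr⟩ := hz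
  exact hE.pair_eq (by rw [hr, one_smul, mul_smul_comm, mul_one, smul_mul_assoc, one_mul])

theorem pair_scal_left {z : R} (hz : z ∈ scal ψ R) (b : R) : pair ψ R z b = 1 := by
  obtain ⟨r, hr⟩ := hz
  exact hE.pair_eq (by rw [hr, one_smul, mul_smul_comm, mul_one, smul_mul_assoc, one_mul])

theorem qpair_mk (a b : R) :
    qpair ψ R (a : Quo ψ R) (b : Quo ψ R) = pair ψ R a b := by
  obtain ⟨z, hz⟩ := QuotientGroup.mk_out_eq_mul (scal ψ R) a
  obtain ⟨y, hy⟩ := QuotientGroup.mk_out_eq_mul (scal ψ R) b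
  rw [qpair, hz, hy, hE.pair_mul_left, hE.pair_mul_right, hE.pair_scal_left z.2,
    hE.pair_scal_right a y.2, mul_one, mul_one]

theorem qpair_mul_left (m m' k : Quo ψ R) :
    qpair ψ R (m * m') k = qpair ψ R m k * qpair ψ R m' k := by
  induction m using QuotientGroup.induction_on with
  | _ a =>
    induction m' using QuotientGroup.induction_on with
    | _ a' =>
      induction k using QuotientGroup.induction_on with
      | _ b => rw [← QuotientGroup.mk_mul, hE.qpair_mk, hE.qpair_mk, hE.qpair_mk, hE.pair_mul_left]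

theorem qpair_mul_right (m k k' : Quo ψ R) :
    qpair ψ R m (k * k') = qpair ψ R m k * qpair ψ R m k' := by
  induction m using QuotientGroup.induction_on with
  | _ a =>
    induction k using QuotientGroup.induction_on with
    | _ b =>
      induction k' using QuotientGroup.induction_on with
      | _ b' => rw [← QuotientGroup.mk_mul, hE.qpair_mk, hE.qpair_mk, hE.qpair_mk, hE.pair_mul_right]

theorem qpair_self (m : Quo ψ R) : qpair ψ R m m = 1 := hE.pair_self _

theorem qpair_swap (m k : Quo ψ R) : qpair ψ R m k * qpair ψ R k m = 1 := hE.pair_swap _ _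

theorem qpair_one_left (k : Quo ψ R) : qpair ψ R 1 k = 1 := by
  induction k using QuotientGroup.induction_on with
  | _ b => rw [← QuotientGroup.mk_one, hE.qpair_mk, hE.pair_scal_left (one_mem _)]

theorem qpair_one_right (k : Quo ψ R) : qpair ψ R k 1 = 1 := by
  induction k using QuotientGroup.induction_on with
  | _ b => rw [← QuotientGroup.mk_one, hE.qpair_mk, hE.pair_scal_right b (one_mem _)]

theorem eq_one_of_qpair {m : Quo ψ R} (h : ∀ k, qpair ψ R m k = 1) : m = 1 := by
  induction m using QuotientGroup.induction_on with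
  | _ a =>
    rw [QuotientGroup.eq_one_iff, mem_scal]
    refine hE.nondeg a a.2 fun b hb => ?_
    have h1 := h ((⟨b, hb⟩ : R) : Quo ψ R)
    rw [hE.qpair_mk] at h1
    have h2 := hE.mul_swap a ⟨b, hb⟩
    rw [h1, one_smul] at h2
    exact h2

omit [Nontrivial V]

theorem scal_map_eq (h : H) :
    (scal ψ R).map ((haveI := hE.normal; (MulAut.conjNormal h : MulAut R)) : R →* R) = scal ψ R := by
  haveI := hE.normal
  ext z
  rw [Subgroup.mem_map]
  constructor
  · rintro ⟨y, ⟨r, hr⟩, rfl⟩
    exact ⟨r, by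
      show ψ ((MulAut.conjNormal h y : R) : H) = r • 1
      rw [MulAut.conjNormal_apply]; exact scal_conj ψ hr⟩
  · rintro ⟨r, hr⟩
    refine ⟨MulAut.conjNormal h⁻¹ z, ⟨r, by rw [MulAut.conjNormal_apply]; exact scal_conj ψ hr⟩, ?_⟩
    show (MulAut.conjNormal h : MulAut R) (MulAut.conjNormal h⁻¹ z) = z
    rw [← MulAut.mul_apply, ← map_mul, mul_inv_cancel, map_one, MulAut.one_apply]

/-- Conjugation on `R` modulo scalars. -/
noncomputable def act : H →* MulAut (Quo ψ R) where
  toFun h := QuotientGroup.congr _ _ (haveI := hE.normal; (MulAut.conjNormal h : MulAut R))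
    (hE.scal_map_eq h)
  map_one' := by
    ext m
    induction m using QuotientGroup.induction_on
    simp
  map_mul' g h := by
    ext m
    induction m using QuotientGroup.induction_on
    simp [MulAut.mul_apply]

theorem act_mk (h : H) (a : R) :
    hE.act h (a : Quo ψ R) =
      ((⟨h * a * h⁻¹, hE.normal.conj_mem _ a.2 h⟩ : R) : Quo ψ R) := by
  haveI := hE.normal
  exact congrArg (fun b : R => (b : Quo ψ R)) (Subtype.ext (MulAut.conjNormal_apply h a) :
    (MulAut.conjNormal h : MulAut R) a = ⟨h * a * h⁻¹, hE.normal.conj_mem _ a.2 h⟩)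

variable [Nontrivial V]

theorem qpair_act (h : H) (m k : Quo ψ R) :
    qpair ψ R (hE.act h m) (hE.act h k) = qpair ψ R m k := by
  induction m using QuotientGroup.induction_on with
  | _ a =>
    induction k using QuotientGroup.induction_on with
    | _ b =>
      rw [hE.act_mk, hE.act_mk, hE.qpair_mk, hE.qpair_mk]
      refine hE.pair_eq ?_
      have h1 := congrArg (ad ψ h) (hE.mul_swap a b)
      rw [map_smul, ad_mul_map, ad_mul_map, ad_apply, ad_apply] at h1
      simpa [map_mul, mul_assoc] using h1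

/-- The character `k ↦ [m, k]`. -/
noncomputable def chr (m : Quo ψ R) : Quo ψ R →* K where
  toFun k := qpair ψ R k m
  map_one' := hE.qpair_one_left m
  map_mul' k k' := hE.qpair_mul_left k k' m

theorem chr_ne_one {m : Quo ψ R} (hm : m ≠ 1) : hE.chr m ≠ 1 := by
  intro h
  refine hm (hE.eq_one_of_qpair fun k => ?_)
  have h1 : qpair ψ R k m = 1 := DFunLike.congr_fun h k
  have h2 := hE.qpair_swap m k
  rwa [h1, mul_one] at h2

end IsExt

section Graded

open scoped Classical

variable (ψ R)

/-- The commutant of `R`. -/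
def commutant : Submodule K (Module.End K V) where
  carrier := {A | ∀ a : R, ψ a * A = A * ψ a}
  add_mem' := fun {A B} hA hB a => by rw [mul_add, add_mul, hA a, hB a]
  zero_mem' := fun a => by rw [mul_zero, zero_mul]
  smul_mem' := fun r A hA a => by rw [mul_smul_comm, smul_mul_assoc, hA a]

variable [Fintype (Quo ψ R)]

/-- The projection on the commutant. -/
noncomputable def avg : Module.End K (Module.End K V) :=
  (Fintype.card (Quo ψ R) : K)⁻¹ • ∑ m : Quo ψ R, ad ψ (m.out : H)

/-- The coefficient at `m`. -/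
noncomputable def coef (m : Quo ψ R) : Module.End K (Module.End K V) :=
  (avg ψ R).comp (LinearMap.mulLeft K (ψ (m.out : H)⁻¹))

variable {ψ R}

theorem ad_out (m : Quo ψ R) {a : R} (h : (a : Quo ψ R) = m) (A : Module.End K V) :
    ad ψ (m.out : H) A = ad ψ (a : H) A := by
  subst h
  obtain ⟨⟨z, r, hr⟩, hz⟩ := QuotientGroup.mk_out_eq_mul (scal ψ R) a
  rw [hz, Subgroup.coe_mul, ad_mul, Module.End.mul_apply, ad_eq_self_of_scalar ψ hr]

theorem avg_mem (A : Module.End K V) : avg ψ R A ∈ commutant ψ R := by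
  intro a
  have h1 : ad ψ (a : H) (avg ψ R A) = avg ψ R A := by
    simp only [avg, LinearMap.smul_apply, LinearMap.sum_apply, map_smul, map_sum]
    refine congrArg _ (Fintype.sum_equiv (Equiv.mulLeft ((a : R) : Quo ψ R)) _ _ fun m => ?_)
    rw [← Module.End.mul_apply, ← ad_mul, ← Subgroup.coe_mul]
    exact (ad_out _ (by rw [QuotientGroup.mk_mul, QuotientGroup.out_eq']; rfl) A).symm
  conv_rhs => rw [← h1, ad_apply, mul_assoc, map_inv_mul, mul_one]

theorem coef_mem (m : Quo ψ R) (A : Module.End K V) : coef ψ R m A ∈ commutant ψ R :=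
  avg_mem _

variable (hE : IsExt ψ R) [Nontrivial V] (hN : (Fintype.card (Quo ψ R) : K) ≠ 0)
include hE

omit [Nontrivial V] in
theorem ad_map (a b : R) :
    ad ψ (a : H) (ψ (b : H)) = pair ψ R a b • ψ (b : H) := by
  rw [ad_apply, hE.mul_swap, smul_mul_assoc, mul_assoc, mul_map_inv, mul_one]

include hN

theorem sum_qpair (k : Quo ψ R) :
    (Fintype.card (Quo ψ R) : K)⁻¹ * ∑ m, qpair ψ R m k = if k = 1 then 1 else 0 := by
  classical
  split_ifs with hk
  · subst hk
    rw [Finset.sum_congr rfl fun m _ => hE.qpair_one_right m, Finset.sum_const, Finset.card_univ,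
      nsmul_one, inv_mul_cancel₀ hN]
  · rw [show ∑ m, qpair ψ R m k = ∑ m, hE.chr k m from rfl,
      sum_hom_units_eq_zero _ (hE.chr_ne_one hk), mul_zero]

theorem avg_mul_of_mem (b : R) {c : Module.End K V} (hc : c ∈ commutant ψ R) :
    avg ψ R (ψ (b : H) * c) = (if (b : Quo ψ R) = 1 then (1 : K) else 0) • (ψ (b : H) * c) := by
  rw [← sum_qpair hE hN, Finset.mul_sum, Finset.sum_smul]
  simp only [avg, LinearMap.smul_apply, LinearMap.sum_apply, Finset.smul_sum]
  refine Finset.sum_congr rfl fun m _ => ?_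
  have h1 : ad ψ (m.out : H) c = c := by
    rw [ad_apply, hc m.out, mul_assoc, mul_map_inv, mul_one]
  rw [ad_mul_map, h1, show ψ ((m.out : H) * b * (m.out : H)⁻¹) = ad ψ (m.out : H) (ψ (b : H)) by
      rw [ad_apply, map_mul, map_mul], ad_map hE, smul_mul_assoc, smul_smul, ← hE.qpair_mk,
    QuotientGroup.out_eq']

theorem coef_map (m : Quo ψ R) (b : R) {c : Module.End K V} (hc : c ∈ commutant ψ R) :
    coef ψ R m (ψ (b : H) * c) =
      (if (b : Quo ψ R) = m then (1 : K) else 0) • (ψ ((m.out : H)⁻¹ * b) * c) := by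
  have h1 : (ψ (m.out : H)⁻¹ * (ψ (b : H) * c)) = ψ (((m.out)⁻¹ * b : R) : H) * c := by
    rw [Subgroup.coe_mul, map_mul, ← mul_assoc]
    rfl
  rw [coef, LinearMap.comp_apply, LinearMap.mulLeft_apply, h1, avg_mul_of_mem hE hN _ hc]
  congr 2
  rw [QuotientGroup.mk_mul, QuotientGroup.mk_inv, QuotientGroup.out_eq', inv_mul_eq_one]
  exact propext eq_comm

theorem coef_out (m k : Quo ψ R) {c : Module.End K V} (hc : c ∈ commutant ψ R) :
    coef ψ R m (ψ (k.out : H) * c) = if k = m then c else 0 := by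
  rw [coef_map hE hN m k.out hc, QuotientGroup.out_eq']
  split_ifs with h
  · subst h; rw [one_smul, inv_mul_cancel, map_one, one_mul]
  · rw [zero_smul]

theorem sum_coef (A : Module.End K V) : ∑ m, ψ (m.out : H) * coef ψ R m A = A := by
  classical
  have h1 : ∀ m k : Quo ψ R, ψ (m.out : H) * ad ψ (k.out : H) (ψ (m.out : H)⁻¹ * A) =
      qpair ψ R k m⁻¹ • ad ψ (k.out : H) A := by
    intro m k
    rw [ad_mul_map, show ψ ((k.out : H) * (m.out : H)⁻¹ * (k.out : H)⁻¹) =
        ad ψ (k.out : H) (ψ (((m.out)⁻¹ : R) : H)) by rw [ad_apply, map_mul, map_mul]; rfl,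
      ad_map hE, smul_mul_assoc, mul_smul_comm, ← mul_assoc, Subgroup.coe_inv, mul_map_inv, one_mul,
      ← hE.qpair_mk, QuotientGroup.out_eq', QuotientGroup.mk_inv, QuotientGroup.out_eq']
  simp only [coef, avg, LinearMap.comp_apply, LinearMap.mulLeft_apply, LinearMap.smul_apply,
    LinearMap.sum_apply, mul_smul_comm, Finset.mul_sum, h1]
  rw [← Finset.smul_sum, Finset.sum_comm]
  have h2 : ∀ k : Quo ψ R, ∑ m : Quo ψ R, qpair ψ R k m⁻¹ • ad ψ (k.out : H) A =
      (∑ m : Quo ψ R, qpair ψ R m k) • ad ψ (k.out : H) A := by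
    intro k
    rw [← Finset.sum_smul]
    congr 1
    refine Finset.sum_congr rfl fun m _ => ?_
    have e1 := hE.qpair_swap k m
    have e2 : qpair ψ R k m * qpair ψ R k m⁻¹ = 1 := by
      rw [← hE.qpair_mul_right, mul_inv_cancel, hE.qpair_one_right]
    exact mul_left_cancel₀ (hE.pair_ne_zero _ _) (e2.trans e1.symm)
  simp only [h2, Finset.smul_sum, smul_smul, sum_qpair hE hN]
  rw [Finset.sum_eq_single 1 (fun k _ hk => by rw [if_neg hk, zero_smul])
    (fun h => absurd (Finset.mem_univ _) h), if_pos rfl, one_smul,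
    ad_out (1 : Quo ψ R) (QuotientGroup.mk_one _) A, Subgroup.coe_one, ad_one, Module.End.one_apply]

theorem finrank_end :
    finrank K (Module.End K V) = Fintype.card (Quo ψ R) * finrank K (commutant ψ R) := by
  classical
  let f : Module.End K V →ₗ[K] (Quo ψ R → commutant ψ R) :=
    LinearMap.pi fun m => (coef ψ R m).codRestrict _ (coef_mem m)
  have hf : Function.Bijective f := by
    constructor
    · intro A B h
      rw [← sum_coef hE hN A, ← sum_coef hE hN B]
      refine Finset.sum_congr rfl fun m _ => ?_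
      rw [show coef ψ R m A = coef ψ R m B from congrArg Subtype.val (congrFun h m)]
    · intro g
      refine ⟨∑ k, ψ (k.out : H) * (g k : Module.End K V), funext fun m => Subtype.ext ?_⟩
      show coef ψ R m _ = _
      rw [map_sum, Finset.sum_congr rfl fun k _ => coef_out hE hN m k (g k).2, Finset.sum_ite_eq']
      simp
  by_cases hfin : Module.Finite K (commutant ψ R)
  · rw [(LinearEquiv.ofBijective f hf).finrank_eq, Module.finrank_pi_fintype, Finset.sum_const,
      Finset.card_univ, smul_eq_mul]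
  · have h0 : finrank K (commutant ψ R) = 0 := Module.finrank_of_not_finite hfin
    rw [h0, mul_zero]
    refine Module.finrank_of_not_finite fun h => hfin ?_
    haveI := h
    exact Module.Finite.of_surjective ((avg ψ R).codRestrict _ avg_mem) fun c => ⟨c.1, Subtype.ext (by
      show avg ψ R c = c
      have := avg_mul_of_mem hE hN 1 c.2
      rwa [Subgroup.coe_one, map_one, one_mul, QuotientGroup.mk_one, if_pos rfl, one_smul] at this)⟩

theorem coef_ad (h : H) (m : Quo ψ R) (A : Module.End K V) :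
    ∃ r : K, coef ψ R (hE.act h m) (ad ψ h A) = r • ad ψ h (coef ψ R m A) := by
  classical
  have hcC : ∀ c ∈ commutant ψ R, ad ψ h c ∈ commutant ψ R := by
    intro c hc a
    have h1 := congrArg (ad ψ h) (hc ⟨h⁻¹ * a * h, by
      simpa using hE.normal.conj_mem _ a.2 h⁻¹⟩)
    rw [ad_mul_map] at h1
    have h2 : h * (h⁻¹ * (a : H) * h) * h⁻¹ = a := by group
    rw [h2] at h1
    rw [h1, ad_apply, ad_apply]
    calc ψ h * (c * ψ (h⁻¹ * (a : H) * h)) * ψ h⁻¹
        = ψ h * c * ψ (h⁻¹ * (a : H) * h * h⁻¹) := by simp only [map_mul, mul_assoc]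
      _ = _ := by rw [mul_inv_cancel_right]; simp only [map_mul, mul_assoc]
  set b : R := ⟨h * (m.out : H) * h⁻¹, hE.normal.conj_mem _ m.out.2 h⟩ with hb
  have hbm : (b : Quo ψ R) = hE.act h m := by
    conv_rhs => rw [← QuotientGroup.out_eq' m, hE.act_mk]
  obtain ⟨r, hr⟩ : ∃ r : K, ψ (((hE.act h m).out : H)⁻¹ * b) = r • 1 := by
    have h3 : ((hE.act h m).out)⁻¹ * b ∈ scal ψ R := by
      rw [← QuotientGroup.eq, QuotientGroup.out_eq', hbm]
    exact h3
  refine ⟨r, ?_⟩
  conv_lhs => rw [← sum_coef hE hN A, map_sum, map_sum]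
  rw [Finset.sum_eq_single m]
  · rw [ad_mul_map, show (h * (m.out : H) * h⁻¹) = (b : H) from rfl,
      coef_map hE hN _ b (hcC _ (coef_mem m A)), if_pos hbm, one_smul, hr, smul_mul_assoc, one_mul]
  · intro k _ hk
    rw [ad_mul_map]
    have := coef_map hE hN (hE.act h m) ⟨h * (k.out : H) * h⁻¹, hE.normal.conj_mem _ k.out.2 h⟩
      (hcC _ (coef_mem k A))
    rw [this, if_neg, zero_smul]
    intro he
    rw [← hE.act_mk, QuotientGroup.out_eq'] at he
    exact hk ((hE.act h).injective he)
  · exact fun h' => absurd (Finset.mem_univ _) h'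

theorem coef_ad_eq_zero {h : H} {m : Quo ψ R} {A : Module.End K V}
    (hA : coef ψ R m A = 0) : coef ψ R (hE.act h m) (ad ψ h A) = 0 := by
  obtain ⟨r, hr⟩ := coef_ad hE hN h m A
  rw [hr, hA, map_zero, smul_zero]

variable [FiniteDimensional K V]

/-- Pairs moved by `h` contribute to the rank of `ad h - 1`. -/
theorem card_mul_le_rank (h : H) (S : Finset (Quo ψ R))
    (hS : ∀ m ∈ S, hE.act h m ∉ S) :
    S.card * finrank K (commutant ψ R) ≤ finrank K (LinearMap.range (ad ψ h - 1)) := by
  classical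
  let F : ((m : S) → commutant ψ R) →ₗ[K] Module.End K V :=
    ∑ m : S, (LinearMap.mulLeft K (ψ ((m : Quo ψ R).out : H))).comp
      ((commutant ψ R).subtype.comp (LinearMap.proj m))
  have hF : ∀ g, F g = ∑ m : S, ψ ((m : Quo ψ R).out : H) * (g m : Module.End K V) := fun g => by
    simp [F]
  let G : ((m : S) → commutant ψ R) →ₗ[K] LinearMap.range (ad ψ h - 1) :=
    (ad ψ h - 1).rangeRestrict.comp F
  have hG : Function.Injective G := by
    rw [injective_iff_map_eq_zero]
    intro g hg
    funext k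
    have h1 : ad ψ h (F g) = F g := sub_eq_zero.1 (congrArg Subtype.val hg)
    have h2 := congrArg (coef ψ R (k : Quo ψ R)) h1
    have hk' : ∀ m : Quo ψ R, m ∉ S → coef ψ R m (F g) = 0 := by
      intro m hm
      rw [hF, map_sum]
      refine Finset.sum_eq_zero fun j _ => ?_
      rw [coef_out hE hN m j (g j).2, if_neg fun e : (j : Quo ψ R) = m => hm (e ▸ j.2)]
    have h3 : coef ψ R (k : Quo ψ R) (ad ψ h (F g)) = 0 := by
      rw [show (k : Quo ψ R) = hE.act h ((hE.act h).symm k) by simp]
      exact coef_ad_eq_zero hE hN (hk' _ fun hm => hS _ hm (by simp))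
    rw [h3, hF, map_sum, Finset.sum_eq_single k (fun j _ hj => by
      rw [coef_out hE hN _ _ (g j).2, if_neg fun e => hj (Subtype.ext e)])
      (fun h' => absurd (Finset.mem_univ _) h'), coef_out hE hN _ _ (g k).2, if_pos rfl] at h2
    exact Subtype.ext h2.symm
  have := LinearMap.finrank_le_finrank_of_injective hG
  rwa [Module.finrank_pi_fintype, Finset.sum_const, Finset.card_univ, Fintype.card_coe,
    smul_eq_mul] at this

/-- Fixed endomorphisms are determined at one point of each orbit. -/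
theorem finrank_fixed_le [DecidableEq (Quo ψ R)] (h : H) :
    finrank K (LinearMap.ker (ad ψ h - 1)) ≤
      (Finset.univ.image (rep ((hE.act h).toEquiv : Equiv.Perm (Quo ψ R)))).card *
        finrank K (commutant ψ R) := by
  set σ : Equiv.Perm (Quo ψ R) := (hE.act h).toEquiv
  set O := Finset.univ.image (rep σ)
  let G : LinearMap.ker (ad ψ h - 1) →ₗ[K] ((m : O) → commutant ψ R) :=
    (LinearMap.pi fun m : O => (coef ψ R (m : Quo ψ R)).codRestrict _ (coef_mem (m : Quo ψ R))).comp
      (Submodule.subtype _)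
  have hG : Function.Injective G := by
    rw [injective_iff_map_eq_zero]
    rintro ⟨A, hA⟩ hg
    refine Subtype.ext ?_
    have hfix : ad ψ h A = A := sub_eq_zero.1 (LinearMap.mem_ker.1 hA)
    have hpow : ∀ (i : ℕ) m, coef ψ R m A = 0 → coef ψ R ((σ ^ i) m) A = 0 := by
      intro i
      induction i with
      | zero => intro m hm; simpa
      | succ i ih =>
        intro m hm
        rw [pow_succ', Equiv.Perm.mul_apply]
        have := coef_ad_eq_zero hE hN (h := h) (ih m hm)
        rwa [hfix] at this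
    show A = 0
    rw [← sum_coef hE hN A]
    refine Finset.sum_eq_zero fun m _ => ?_
    obtain ⟨i, hi⟩ := exists_pow_rep σ m
    have h0 : coef ψ R (rep σ m) A = 0 :=
      congrArg Subtype.val (congrFun hg ⟨rep σ m, Finset.mem_image_of_mem _ (Finset.mem_univ _)⟩)
    have := hpow i _ h0
    rw [hi] at this
    rw [this, mul_zero]
  have := LinearMap.finrank_le_finrank_of_injective hG
  rwa [Module.finrank_pi_fintype, Finset.sum_const, Finset.card_univ, Fintype.card_coe,
    smul_eq_mul] at this

/-- Free orbits of even length give eigenvalue `-1`. -/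
theorem free_le_finrank_neg [DecidableEq (Quo ψ R)] (h : H) {q : ℕ} (hq : Even q) (hq0 : 0 < q)
    (hadq : ad ψ h ^ q = 1) {S : Finset (Quo ψ R)}
    (hfree : ∀ m ∈ S, ∀ i, 0 < i → i < q → (hE.act h ^ i) m ≠ m)
    (hrep : ∀ m ∈ S, rep ((hE.act h).toEquiv : Equiv.Perm (Quo ψ R)) m = m) :
    S.card * finrank K (commutant ψ R) ≤ finrank K (LinearMap.ker (ad ψ h + 1)) := by
  set σ : Equiv.Perm (Quo ψ R) := (hE.act h).toEquiv with hσdef
  have hσ : ∀ (i : ℕ) m, (σ ^ i) m = (hE.act h ^ i) m := by
    intro i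
    induction i with
    | zero => intro m; simp
    | succ i ih => intro m; rw [pow_succ', pow_succ', Equiv.Perm.mul_apply, MulAut.mul_apply, ih]; rfl
  let F : ((m : S) → commutant ψ R) →ₗ[K] Module.End K V :=
    ∑ m : S, (LinearMap.mulLeft K (ψ ((m : Quo ψ R).out : H))).comp
      ((commutant ψ R).subtype.comp (LinearMap.proj m))
  have hF : ∀ g, F g = ∑ m : S, ψ ((m : Quo ψ R).out : H) * (g m : Module.End K V) := fun g => by
    simp [F]
  set P : Module.End K (Module.End K V) := ∑ i ∈ Finset.range q, (-ad ψ h) ^ i with hP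
  have hker : ∀ A, P A ∈ LinearMap.ker (ad ψ h + 1) := by
    intro A
    rw [LinearMap.mem_ker, ← Module.End.mul_apply]
    have h1 : (ad ψ h + 1) * P = 0 := by
      have h2 := mul_geom_sum (-ad ψ h) q
      rw [← hP, show (-ad ψ h) ^ q = ad ψ h ^ q from Even.neg_pow hq (ad ψ h), hadq, sub_self] at h2
      have h3 : ad ψ h + 1 = -(-ad ψ h - 1) := by abel
      rw [h3]
      exact (LinearMap.ext fun w => by
        rw [Module.End.mul_apply, LinearMap.neg_apply, ← Module.End.mul_apply, h2, LinearMap.zero_apply, neg_zero])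
    rw [h1, LinearMap.zero_apply]
  let G : ((m : S) → commutant ψ R) →ₗ[K] LinearMap.ker (ad ψ h + 1) :=
    (P.comp F).codRestrict _ fun g => hker _
  have hG : Function.Injective G := by
    rw [injective_iff_map_eq_zero]
    intro g hg
    funext k
    have h1 : P (F g) = 0 := congrArg Subtype.val hg
    have h2 := congrArg (coef ψ R (k : Quo ψ R)) h1
    rw [map_zero, hP, LinearMap.sum_apply, map_sum, Finset.sum_eq_single 0] at h2
    · rw [pow_zero, Module.End.one_apply, hF, map_sum, Finset.sum_eq_single k (fun j _ hj => by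
        rw [coef_out hE hN _ _ (g j).2, if_neg fun e => hj (Subtype.ext e)])
        (fun h' => absurd (Finset.mem_univ _) h'), coef_out hE hN _ _ (g k).2, if_pos rfl] at h2
      exact Subtype.ext h2
    · intro i hi hi0
      rw [show (-ad ψ h) ^ i = (-1) ^ i * ad ψ h ^ i from neg_pow (ad ψ h) i, ← ad_pow,
        Module.End.mul_apply]
      have hsc : ∀ B : Module.End K V,
          coef ψ R (k : Quo ψ R) (((-1 : Module.End K (Module.End K V)) ^ i) B) =
            (-1 : K) ^ i • coef ψ R (k : Quo ψ R) B := fun B => by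
        rw [show (-1 : Module.End K (Module.End K V)) ^ i = (-1 : K) ^ i • 1 by
          rw [← neg_one_smul K (1 : Module.End K (Module.End K V)), smul_pow, one_pow],
          LinearMap.smul_apply, Module.End.one_apply, map_smul]
      rw [hsc]
      have hz : coef ψ R (k : Quo ψ R) (ad ψ (h ^ i) (F g)) = 0 := by
        rw [show (k : Quo ψ R) = hE.act (h ^ i) ((hE.act (h ^ i)).symm k) by simp]
        refine coef_ad_eq_zero hE hN ?_
        rw [hF, map_sum]
        refine Finset.sum_eq_zero fun j _ => ?_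
        rw [coef_out hE hN _ _ (g j).2, if_neg]
        intro e
        have h3 : (hE.act h ^ i) (j : Quo ψ R) = k := by
          rw [← map_pow, e, MulEquiv.apply_symm_apply]
        have h4 : (j : Quo ψ R) = k := by
          rw [← hrep _ j.2, ← hrep _ k.2, ← h3, ← hσ, rep_pow]
        rw [h4] at h3
        exact hfree _ k.2 i (by omega) (Finset.mem_range.1 hi) h3
      rw [hz, smul_zero]
    · exact fun h' => absurd (Finset.mem_range.2 hq0) h'
  have := LinearMap.finrank_le_finrank_of_injective hG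
  rwa [Module.finrank_pi_fintype, Finset.sum_const, Finset.card_univ, Fintype.card_coe,
    smul_eq_mul] at this

end Graded

end CfsgLib.FGS74.GrossLen
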