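import Cfsg.Agent.FGS74.GrossLen.LCase
import Mathlib.FieldTheory.IsAlgClosed.AlgebraicClosure
import Mathlib.LinearAlgebra.TensorProduct.Basis

/-!
# From a plane in the graded group to `Top`

A group acts on an abelian group `M` of squarefree exponent with odd kernel; `x` moves only a plane
of the `r`-part, with equation `σ ^ 2 + 1 = s σ`. The representation on the `r`-part over an
algebraic closure of the prime field satisfies `LGood`.
-/

set_option autoImplicit false
set_option linter.style.haveILetI false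

open Module
open scoped TensorProduct

namespace CfsgLib.FGS74.GrossLen

universe w

/-- An element whose image lies in the term, along a map with odd kernel. -/
theorem mem_top_of_hom_odd {c r : ℕ} [hr : Fact r.Prime] (hr2 : r ≠ 2) {H : Type w} [Group H]
    [Finite H] {S : Type w} [Group S] [Finite S] (f : H →* S)
    (hker : ∀ g, f g = 1 → Odd (orderOf g)) {t : H} (ht : f t ∈ Top r S) : t ∈ Top c H := by
  haveI : (Top r S).Normal := top_normal
  refine le_top_of_nice (D := (Top r S).comap f) ?_ ht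
  intro a b ha hb
  set g : (Top r S).comap f →* Top r S := (f.comp ((Top r S).comap f).subtype).codRestrict _
    fun z => z.2 with hg
  obtain ⟨m, hm, hmem⟩ := nice_top (g a) (g b) (odd_orderOf_map g ha) (odd_orderOf_map g hb)
  obtain ⟨k, hk⟩ := CfsgLib.PLocal.isPGroup_pCore r (Top r S) ⟨_, hmem⟩
  have h1 : g ((a * b) ^ (m * r ^ k)) = 1 := by
    rw [map_pow, pow_mul, map_mul]
    exact congrArg Subtype.val hk
  have h2 : Odd (orderOf ((a * b) ^ (m * r ^ k))) := by
    rw [← orderOf_injective _ ((Top r S).comap f).subtype_injective]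
    exact hker _ (congrArg Subtype.val h1)
  refine ⟨m * r ^ k * orderOf ((a * b) ^ (m * r ^ k)),
    (hm.mul (hr.out.odd_of_ne_two hr2).pow).mul h2, ?_⟩
  rw [pow_mul, pow_orderOf_eq_one]
  exact one_mem _

variable {M : Type w} [CommGroup M]

/-- The action on the elements of order dividing `r`, as endomorphisms. -/
def torsionEnd (r : ℕ) [Module (ZMod r) (Additive (powMonoidHom r : M →* M).ker)]
    {N : Type w} [Group N] (act : N →* MulAut M) :
    N →* Module.End (ZMod r) (Additive (powMonoidHom r : M →* M).ker) where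
  toFun g := AddMonoidHom.toZModLinearMap r (AddMonoidHom.mk' (fun u =>
    Additive.ofMul (⟨act g (u.toMul : M), by
      rw [MonoidHom.mem_ker, powMonoidHom_apply, ← map_pow,
        show (u.toMul : M) ^ r = 1 from u.toMul.2, map_one]⟩ : (powMonoidHom r : M →* M).ker))
    fun u v => by
      apply Additive.toMul.injective
      exact Subtype.ext (map_mul (act g) _ _))
  map_one' := LinearMap.ext fun u => by
    apply Additive.toMul.injective
    ext
    show act 1 (u.toMul : M) = _
    rw [map_one]; rfl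
  map_mul' g g' := LinearMap.ext fun u => by
    apply Additive.toMul.injective
    ext
    show act (g * g') (u.toMul : M) = act g (act g' (u.toMul : M))
    rw [map_mul]; rfl

/-- Linear algebra on the plane moved by `x`. -/
theorem lGood_baseChange {r e : ℕ} [hr : Fact r.Prime] (hr2 : r ≠ 2) (he : 2 ≤ e)
    (hre : 2 ^ e = r + 1) {W : Type w} [AddCommGroup W] [Module (ZMod r) W]
    (T : Module.End (ZMod r) W) (hT : T ^ 2 ^ e = 1)
    (hfix : ∀ u, (T ^ 2 ^ (e - 1)) u = u → T u = u) (s : ℕ)
    (hquad : ∀ u, (T ^ 2 ^ (e - 1)) u = -u → T (T u) + u = (s : ZMod r) • T u)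
    {w₀ : W} (hw₀ : w₀ ≠ 0) (hw₀τ : (T ^ 2 ^ (e - 1)) w₀ = -w₀)
    (hindep : ∀ a : ZMod r, T w₀ ≠ a • w₀)
    (hspan : ∀ u, (T ^ 2 ^ (e - 1)) u = -u → ∃ a b : ZMod r, u = a • T w₀ + b • w₀) :
    LGood r (AlgebraicClosure (ZMod r) ⊗[ZMod r] W) e (T.baseChange (AlgebraicClosure (ZMod r))) := by
  set L := AlgebraicClosure (ZMod r)
  haveI : CharP L r := charP_of_injective_algebraMap (algebraMap (ZMod r) L).injective r
  set τ := T ^ 2 ^ (e - 1) with hτ
  have hττ : ∀ u, τ (τ u) = u := by
    intro u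
    rw [← Module.End.mul_apply, hτ, ← pow_add, show 2 ^ (e - 1) + 2 ^ (e - 1) = 2 ^ e by
      rw [← two_mul, ← pow_succ']; congr 1; omega, hT]
    rfl
  have hTτ : ∀ u, τ (T u) = T (τ u) := fun u => by
    rw [← Module.End.mul_apply, ← Module.End.mul_apply, hτ, ← pow_succ, pow_succ']
  have hd : ∀ u, τ (T u - u) = -(T u - u) := by
    intro u
    have hp : T (u + τ u) = u + τ u := hfix _ (by rw [map_add, hττ, add_comm])
    rw [eq_neg_iff_add_eq_zero, map_sub, hTτ]
    calc T (τ u) - τ u + (T u - u) = T (u + τ u) - (u + τ u) := by rw [map_add]; abel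
      _ = 0 := by rw [hp, sub_self]
  obtain ⟨l, hl⟩ : ∃ l : L, l * l + 1 = (s : L) * l := by
    obtain ⟨l, hl⟩ := IsAlgClosed.exists_root
      (Polynomial.X ^ 2 - Polynomial.C (s : L) * Polynomial.X + Polynomial.C 1) (by
        have : (Polynomial.X ^ 2 - Polynomial.C (s : L) * Polynomial.X + Polynomial.C 1).degree = 2 := by
          compute_degree!
        rw [this]; decide)
    refine ⟨l, ?_⟩
    simp only [Polynomial.IsRoot, Polynomial.eval_add, Polynomial.eval_sub, Polynomial.eval_pow,
      Polynomial.eval_X, Polynomial.eval_mul, Polynomial.eval_C] at hl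
    linear_combination hl
  have hT2 : T (T w₀) = (s : ZMod r) • T w₀ - w₀ := by
    rw [eq_sub_iff_add_eq]
    exact hquad w₀ hw₀τ
  have hpowl : l ^ 2 ^ (e - 1) = -1 := by
    have hseq : ∀ i : ℕ, ∃ a b : ZMod r, (T ^ i) w₀ = a • T w₀ + b • w₀ ∧
        l ^ i = algebraMap (ZMod r) L a * l + algebraMap (ZMod r) L b := by
      intro i
      induction i with
      | zero => exact ⟨0, 1, by simp, by simp⟩
      | succ i ih =>
        obtain ⟨a, b, h1, h2⟩ := ih
        refine ⟨a * s + b, -a, ?_, ?_⟩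
        · rw [pow_succ', Module.End.mul_apply, h1, map_add, map_smul, map_smul, hT2]
          module
        · rw [pow_succ, h2, map_add, map_mul, map_natCast, map_neg]
          linear_combination algebraMap (ZMod r) L a * hl
    obtain ⟨a, b, h1, h2⟩ := hseq (2 ^ (e - 1))
    rw [← hτ, hw₀τ] at h1
    have ha : a = 0 := by
      by_contra ha
      refine hindep (a⁻¹ * (-1 - b)) ?_
      rw [← smul_smul, sub_smul, neg_smul, one_smul, h1, add_sub_cancel_right, smul_smul,
        inv_mul_cancel₀ ha, one_smul]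
    subst ha
    rw [zero_smul, zero_add, ← neg_one_smul (ZMod r) w₀] at h1
    have hb : b = -1 := smul_left_injective (ZMod r) hw₀ h1.symm
    rw [h2, hb]
    simp
  obtain ⟨h0, hl1, -, hll, -, -⟩ := root_facts (K := L) hr2 he hpowl
  set c : L := 1 + l + l⁻¹ with hc
  have hcs : c = algebraMap (ZMod r) L (1 + (s : ZMod r)) := by
    rw [map_add, map_one, map_natCast, hc, add_assoc]
    congr 1
    have := mul_inv_cancel₀ h0
    apply mul_left_cancel₀ h0
    linear_combination hl + this
  set X := T.baseChange L with hX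
  have hsm : ∀ (a : ZMod r) (u : W) (b : L),
      b ⊗ₜ[ZMod r] (a • u) = algebraMap (ZMod r) L a • (b ⊗ₜ[ZMod r] u) := fun a u b => by
    rw [TensorProduct.tmul_smul, algebraMap_smul]
  have hcubic : ∀ v, X (X (X v)) - c • X (X v) + c • X v - v = 0 := by
    intro v
    induction v using TensorProduct.induction_on with
    | zero => simp
    | tmul b u =>
      rw [hX, LinearMap.baseChange_tmul, LinearMap.baseChange_tmul, LinearMap.baseChange_tmul,
        hcs, ← hsm, ← hsm, ← TensorProduct.tmul_sub, ← TensorProduct.tmul_add,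
        ← TensorProduct.tmul_sub]
      have h := hquad _ (hd u)
      simp only [map_sub] at h
      suffices h0 : T (T (T u)) - (1 + (s : ZMod r)) • T (T u) + (1 + (s : ZMod r)) • T u - u = 0 by
        rw [h0, TensorProduct.tmul_zero]
      calc T (T (T u)) - (1 + (s : ZMod r)) • T (T u) + (1 + (s : ZMod r)) • T u - u
          = (T (T (T u)) - T (T u) + (T u - u)) - (s : ZMod r) • (T (T u) - T u) := by module
        _ = 0 := by rw [h, sub_self]
    | add a b ha hb =>
      have h := congrArg₂ (· + ·) ha hb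
      simp only [add_zero] at h
      rw [← h, map_add, map_add, map_add, smul_add, smul_add]
      abel
  set e1 : L ⊗[ZMod r] W := 1 ⊗ₜ w₀ with he1
  have hrange : ∀ v, X v - v ∈ Submodule.span L {e1, X e1} := by
    intro v
    induction v using TensorProduct.induction_on with
    | zero => simp
    | tmul b u =>
      obtain ⟨a, a', ha⟩ := hspan _ (hd u)
      rw [show X (b ⊗ₜ[ZMod r] u) = b ⊗ₜ[ZMod r] T u from rfl, ← TensorProduct.tmul_sub, ha,
        TensorProduct.tmul_add, hsm, hsm]
      have h1 : ∀ u : W, b ⊗ₜ[ZMod r] u = b • ((1 : L) ⊗ₜ[ZMod r] u) := fun u => by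
        rw [TensorProduct.smul_tmul', smul_eq_mul, mul_one]
      rw [h1, h1 w₀, show (1 : L) ⊗ₜ[ZMod r] T w₀ = X e1 from rfl]
      exact add_mem
        (Submodule.smul_mem _ _ (Submodule.smul_mem _ _ (Submodule.subset_span (Or.inr rfl))))
        (Submodule.smul_mem _ _ (Submodule.smul_mem _ _ (Submodule.subset_span (Or.inl rfl))))
    | add a b ha hb =>
      rw [map_add, add_sub_add_comm]
      exact add_mem ha hb
  have hquadE : ∀ μ ν : L, μ * ν = 1 → μ + ν = (s : L) →
      X (X e1 - ν • e1) = μ • (X e1 - ν • e1) := by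
    intro μ ν hmn hsum
    have h2 : X (X e1) = (s : L) • X e1 - e1 := by
      rw [he1, hX, LinearMap.baseChange_tmul, LinearMap.baseChange_tmul, hT2, TensorProduct.tmul_sub,
        hsm, map_natCast]
    rw [map_sub, map_smul, h2, smul_sub, smul_smul, hmn, one_smul, ← hsum, add_smul]
    abel
  have hline : ∀ μ ν : L, μ * ν = 1 → μ + ν = (s : L) → μ ≠ 1 → μ ≠ ν →
      finrank L (LinearMap.ker (X - μ • 1)) ≤ 1 := by
    intro μ ν hmn hsum hμ1 hμν
    have hle : LinearMap.ker (X - μ • 1) ≤ Submodule.span L {X e1 - ν • e1} := by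
      intro v hv
      rw [LinearMap.mem_ker, LinearMap.sub_apply, sub_eq_zero] at hv
      replace hv : X v = μ • v := hv
      have h1 := hrange v
      rw [hv, show μ • v - v = (μ - 1) • v by module] at h1
      have h2 : v ∈ Submodule.span L {e1, X e1} := by
        have := Submodule.smul_mem _ (μ - 1)⁻¹ h1
        rwa [smul_smul, inv_mul_cancel₀ (sub_ne_zero.2 hμ1), one_smul] at this
      obtain ⟨α, β, hab⟩ := Submodule.mem_span_pair.1 h2
      have h3 : (μ - ν) • v = (α + β * μ) • (X e1 - ν • e1) := by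
        have h4 : X v - ν • v = (α + β * μ) • (X e1 - ν • e1) := by
          have h5 := hquadE μ ν hmn hsum
          calc X v - ν • v = α • (X e1 - ν • e1) + β • X (X e1 - ν • e1) := by
                rw [← hab, map_add, map_smul, map_smul, map_sub, map_smul]
                module
            _ = _ := by rw [h5, smul_smul, ← add_smul]
        rw [← h4, hv]
        module
      rw [show v = ((μ - ν)⁻¹ * (α + β * μ)) • (X e1 - ν • e1) by
        rw [← smul_smul, ← h3, smul_smul, inv_mul_cancel₀ (sub_ne_zero.2 hμν), one_smul]]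
      exact Submodule.smul_mem _ _ (Submodule.mem_span_singleton_self _)
    refine (Submodule.finrank_mono hle).trans ?_
    exact (finrank_span_le_card _).trans (by simp)
  have hsum : l + l⁻¹ = (s : L) := by
    rw [map_add, map_one, map_natCast, hc, add_assoc] at hcs
    exact add_left_cancel hcs
  refine ⟨he, hre, ?_, l, hpowl, hcubic, hline l l⁻¹ (mul_inv_cancel₀ h0) hsum hl1 hll,
    hline l⁻¹ l (inv_mul_cancel₀ h0) (by rw [add_comm, hsum]) (fun h => hl1 (inv_eq_one.1 h)) hll.symm⟩
  rw [hX]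
  show Module.End.baseChangeHom (ZMod r) L W T ^ 2 ^ e = 1
  rw [← map_pow, hT, map_one]

theorem baseChange_injective {r : ℕ} [Fact r.Prime] {W : Type w} [AddCommGroup W]
    [Module (ZMod r) W] (T T' : Module.End (ZMod r) W)
    (h : T.baseChange (AlgebraicClosure (ZMod r)) = T'.baseChange (AlgebraicClosure (ZMod r))) :
    T = T' := by
  refine LinearMap.ext fun u => ?_
  let b := Module.Free.chooseBasis (ZMod r) W
  have h1 := LinearMap.congr_fun h ((1 : AlgebraicClosure (ZMod r)) ⊗ₜ u)
  rw [LinearMap.baseChange_tmul, LinearMap.baseChange_tmul] at h1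
  refine b.repr.injective (Finsupp.ext fun i => ?_)
  have h2 := congrArg (fun z => (b.baseChange (AlgebraicClosure (ZMod r))).repr z i) h1
  simp only [Module.Basis.baseChange_repr_tmul] at h2
  refine (algebraMap (ZMod r) (AlgebraicClosure (ZMod r))).injective ?_
  simpa [Algebra.algebraMap_eq_smul_one] using h2

/-- The conclusion from the plane. -/
theorem mem_top_of_plane {H : Type w} [Group H] [Finite H] (hsol : Group.IsSolvable H) [Fintype M]
    (act : H →* MulAut M) (hsqf : Squarefree (Monoid.exponent M))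
    (hker : ∀ g, act g = 1 → Odd (orderOf g)) {r e : ℕ} [hr : Fact r.Prime] (hr2 : r ≠ 2)
    (he : 2 ≤ e) (hre : 2 ^ e = r + 1) (x : H) (hx : x ^ 2 ^ e = 1)
    (hfix : ∀ m, act (x ^ 2 ^ (e - 1)) m = m → act x m = m)
    (hrtor : ∀ m, act (x ^ 2 ^ (e - 1)) m = m⁻¹ → m ^ r = 1) (s : ℕ)
    (hquad : ∀ m, act (x ^ 2 ^ (e - 1)) m = m⁻¹ → act x (act x m) * m = act x m ^ s)
    {m₀ : M} (hm₀ : m₀ ≠ 1) (hm₀τ : act (x ^ 2 ^ (e - 1)) m₀ = m₀⁻¹)
    (hnpow : ∀ i : ℕ, act x m₀ ≠ m₀ ^ i)
    (hcard : Nat.card {m : M // act (x ^ 2 ^ (e - 1)) m = m⁻¹} ≤ r ^ 2) :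
    x ^ 2 ^ (e - 1) ∈ Top 2 H := by
  classical
  set n := Monoid.exponent M with hn
  have hrn : r ∣ n := by
    rw [← orderOf_eq_prime (hrtor _ hm₀τ) hm₀]
    exact Monoid.order_dvd_exponent m₀
  obtain ⟨n', hn'⟩ := hrn
  have hcop : Nat.Coprime r n' := Nat.coprime_of_squarefree_mul (hn' ▸ hsqf)
  let N : Subgroup H :=
    { carrier := {g | ∀ m : M, m ^ n' = 1 → act g m = m}
      one_mem' := fun m _ => by rw [map_one]; rfl
      mul_mem' := fun {a b} ha hb m hm => by
        rw [map_mul, MulAut.mul_apply, hb m hm, ha m hm]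
      inv_mem' := fun {a} ha m hm => by
        rw [map_inv]
        exact (MulEquiv.symm_apply_eq _).2 (ha m hm).symm }
  haveI hNn : N.Normal := ⟨fun a ha g m hm => by
    rw [map_mul, map_mul, MulAut.mul_apply, MulAut.mul_apply, ha _ (by rw [← map_pow, hm, map_one]),
      ← MulAut.mul_apply, ← map_mul, mul_inv_cancel, map_one]; rfl⟩
  set τ := act (x ^ 2 ^ (e - 1)) with hτ
  have hττ : ∀ m, τ (τ m) = m := fun m => by
    rw [← MulAut.mul_apply, hτ, ← map_mul, ← pow_add, show 2 ^ (e - 1) + 2 ^ (e - 1) = 2 ^ e by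
      rw [← two_mul, ← pow_succ']; congr 1; omega, hx, map_one]
    rfl
  have hxN : x ∈ N := by
    intro m hm
    refine hfix m ?_
    have h1 : τ (τ m * m⁻¹) = (τ m * m⁻¹)⁻¹ := by
      rw [map_mul, map_inv, hττ, mul_inv_rev, inv_inv]
    have h2 := hrtor _ h1
    have h3 : (τ m * m⁻¹) ^ n' = 1 := by
      rw [mul_pow, ← map_pow, inv_pow, hm, map_one, inv_one, mul_one]
    have h4 : orderOf (τ m * m⁻¹) ∣ Nat.gcd r n' :=
      Nat.dvd_gcd (orderOf_dvd_of_pow_eq_one h2) (orderOf_dvd_of_pow_eq_one h3)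
    rw [hcop.gcd_eq_one, Nat.dvd_one, orderOf_eq_one_iff, mul_inv_eq_one] at h4
    exact h4
  let P := (powMonoidHom r : M →* M).ker
  haveI : Module (ZMod r) (Additive P) := AddCommGroup.zmodModule fun u => by
    apply Additive.toMul.injective
    exact Subtype.ext (u.toMul : P).2
  haveI : Finite (Additive P) := inferInstanceAs (Finite P)
  let f : N →* Module.End (ZMod r) (Additive P) := torsionEnd r (act.comp N.subtype)
  let F : N →* Module.End (AlgebraicClosure (ZMod r)) (AlgebraicClosure (ZMod r) ⊗[ZMod r] Additive P) :=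
    (Module.End.baseChangeHom (ZMod r) (AlgebraicClosure (ZMod r)) (Additive P)).toRingHom.toMonoidHom.comp f
  have hFker : ∀ g, g ∈ F.ker → Odd (orderOf g) := by
    intro g hg
    rw [← orderOf_injective _ N.subtype_injective]
    refine hker _ (MulEquiv.ext fun m => ?_)
    rw [MulAut.one_apply]
    have h1 : f g = 1 := baseChange_injective _ _
      ((MonoidHom.mem_ker.1 hg).trans (map_one (Module.End.baseChangeHom (ZMod r)
        (AlgebraicClosure (ZMod r)) (Additive P))).symm)
    have hP : ∀ z : M, z ^ r = 1 → act (g : H) z = z := fun z hz =>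
      congrArg (fun u : Additive P => (u.toMul : M))
        (LinearMap.congr_fun h1 (Additive.ofMul (⟨z, hz⟩ : P)))
    have hr1 : (m ^ r) ^ n' = 1 := by
      rw [← pow_mul, ← hn', hn, Monoid.pow_exponent_eq_one]
    have hr2' : (m ^ n') ^ r = 1 := by
      rw [← pow_mul, mul_comm, ← hn', hn, Monoid.pow_exponent_eq_one]
    have hm : m = (m ^ r) ^ r.gcdA n' * (m ^ n') ^ r.gcdB n' := by
      rw [← zpow_natCast m r, ← zpow_natCast m n', ← zpow_mul, ← zpow_mul, ← zpow_add,
        ← Nat.gcd_eq_gcd_ab, hcop.gcd_eq_one, Nat.cast_one, zpow_one]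
    show act (g : H) m = m
    conv_lhs => rw [hm, map_mul, map_zpow, map_zpow, g.2 _ hr1, hP _ hr2']
    exact hm.symm
  haveI : F.ker.Normal := inferInstance
  haveI : Group.IsSolvable (N ⧸ F.ker) :=
    Group.isSolvable_of_surjective (QuotientGroup.mk'_surjective _)
  haveI : CharP (AlgebraicClosure (ZMod r)) r :=
    charP_of_injective_algebraMap (algebraMap (ZMod r) _).injective r
  haveI : Fact (Nat.Prime 2) := ⟨Nat.prime_two⟩
  refine mem_top_of_normal (c := 2) (B := N) (t := (⟨x, hxN⟩ : N) ^ 2 ^ (e - 1)) ?_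
  refine mem_top_of_hom_odd (r := r) hr2 (QuotientGroup.mk' F.ker)
    (fun g hg => hFker g ((QuotientGroup.eq_one_iff _).1 hg)) ?_
  rw [map_pow]
  refine mem_top_of_LGood (K := AlgebraicClosure (ZMod r)) hr2 inferInstance (kerLift' F)
    (kerLift'_injective F) _ e ?_
  show LGood r _ e ((f ⟨x, hxN⟩).baseChange (AlgebraicClosure (ZMod r)))
  set T := f ⟨x, hxN⟩ with hT
  have hTpow : ∀ (i : ℕ) u, (((T ^ i) u).toMul : M) = act (x ^ i) (u.toMul : M) := fun i u => by
    rw [hT, ← map_pow]; rfl
  let toP : ∀ m : M, m ^ r = 1 → Additive P := fun m hm => Additive.ofMul (⟨m, hm⟩ : P)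
  have hext : ∀ u v : Additive P, (u.toMul : M) = (v.toMul : M) → u = v := fun u v h =>
    Additive.toMul.injective (Subtype.ext h)
  have hnsmul : ∀ (k : ℕ) (u : Additive P), (((k : ZMod r) • u).toMul : M) = (u.toMul : M) ^ k :=
    fun k u => by rw [Nat.cast_smul_eq_nsmul]; rfl
  refine lGood_baseChange hr2 he hre T ?_ ?_ s ?_ (w₀ := toP m₀ (hrtor _ hm₀τ)) ?_ ?_ ?_ ?_
  · refine LinearMap.ext fun u => hext _ _ ?_
    rw [hTpow, hx, map_one]; rfl
  · intro u hu
    refine hext _ _ ?_
    show act x (u.toMul : M) = _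
    exact hfix _ (by rw [← hTpow, hu])
  · intro u hu
    refine hext _ _ ?_
    rw [hnsmul]
    exact hquad _ (by rw [← hTpow, hu]; rfl)
  · exact fun h => hm₀ (congrArg (fun u : Additive P => (u.toMul : M)) h)
  · refine hext _ _ ?_
    rw [hTpow]
    exact hm₀τ
  · intro a h
    refine hnpow a.val ?_
    have h' := congrArg (fun u : Additive P => (u.toMul : M)) h
    rw [← ZMod.natCast_zmod_val a, hnsmul] at h'
    exact h'
  · intro u hu
    set w₀ := toP m₀ (hrtor _ hm₀τ) with hw
    have hneg : ∀ a b : ZMod r, (T ^ 2 ^ (e - 1)) (a • T w₀ + b • w₀) = -(a • T w₀ + b • w₀) := by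
      intro a b
      have h0 : (T ^ 2 ^ (e - 1)) w₀ = -w₀ := hext _ _ (by rw [hTpow]; exact hm₀τ)
      rw [map_add, map_smul, map_smul, h0, ← Module.End.mul_apply, ← pow_succ, pow_succ',
        Module.End.mul_apply, h0, map_neg]
      module
    let S := {m : M // τ m = m⁻¹}
    let g : ZMod r × ZMod r → S := fun p => ⟨((p.1 • T w₀ + p.2 • w₀).toMul : M), by
      rw [hτ, ← hTpow, hneg]; rfl⟩
    have hginj : Function.Injective g := by
      rintro ⟨a, b⟩ ⟨a', b'⟩ h
      have h1 : a • T w₀ + b • w₀ = a' • T w₀ + b' • w₀ := hext _ _ (congrArg Subtype.val h :)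
      have hne : w₀ ≠ 0 := fun h0 => hm₀ (congrArg (fun u : Additive P => (u.toMul : M)) h0)
      have ha : a = a' := by
        by_contra hne'
        refine hnpow ((a - a')⁻¹ * (b' - b)).val ?_
        have h2 : T w₀ = ((a - a')⁻¹ * (b' - b)) • w₀ := by
          rw [← smul_smul, sub_smul, show b' • w₀ - b • w₀ = a • T w₀ - a' • T w₀ by
            rw [sub_eq_sub_iff_add_eq_add, add_comm]; exact h1.symm,
            ← sub_smul, smul_smul, inv_mul_cancel₀ (sub_ne_zero.2 hne'), one_smul]
        have h3 := congrArg (fun u : Additive P => (u.toMul : M)) h2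
        rw [← ZMod.natCast_zmod_val ((a - a')⁻¹ * (b' - b)), hnsmul] at h3
        exact h3
      subst ha
      exact Prod.ext rfl (smul_left_injective (ZMod r) hne (add_left_cancel h1))
    have hbij : Function.Bijective g := by
      refine hginj.bijective_of_nat_card_le ?_
      rw [Nat.card_prod, Nat.card_zmod, ← pow_two]
      exact hcard
    obtain ⟨⟨a, b⟩, hab⟩ := hbij.2 ⟨(u.toMul : M), by rw [hτ, ← hTpow, hu]; rfl⟩
    exact ⟨a, b, hext _ _ (congrArg Subtype.val hab :).symm⟩

end CfsgLib.FGS74.GrossLen
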