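import Cfsg.Prelude.Def_Local
import Cfsg.Agent.PLocal.Cores

/-!
# The term `O_{c, 2', 2}`

`Top c H` is the preimage of `O_{2',2}(H / O_c(H))`. It is the largest normal subgroup in which the
product of two elements of odd order has an odd power in the `c`-core (`Nice`).
-/

set_option autoImplicit false
set_option linter.style.haveILetI false

namespace CfsgLib.FGS74.GrossLen

open Subgroup
open scoped commutatorElement

universe u v w

/-- An odd power of a product of two elements of odd order lies in the `c`-core. -/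
def Nice (c : ℕ) (D : Type v) [Group D] : Prop :=
  ∀ a b : D, Odd (orderOf a) → Odd (orderOf b) → ∃ m : ℕ, Odd m ∧ (a * b) ^ m ∈ Cfsg.pCore c D

/-- The preimage of `O_{2',2}(H / O_c(H))`. -/
def Top (c : ℕ) (H : Type u) [Group H] : Subgroup H :=
  (Cfsg.pPrimePCore 2 (H ⧸ Cfsg.pCore c H)).comap (QuotientGroup.mk' (Cfsg.pCore c H))

variable {c : ℕ} {H : Type u} [Group H] [Finite H]

theorem pPrimePCore_normal' (p : ℕ) (H : Type u) [Group H] : (Cfsg.pPrimePCore p H).Normal := by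
  unfold Cfsg.pPrimePCore
  infer_instance

theorem top_normal : (Top c H).Normal := by
  haveI := pPrimePCore_normal' 2 (H ⧸ Cfsg.pCore c H)
  unfold Top
  infer_instance

theorem exists_odd_pow_eq {x : H} : ∃ (s m : ℕ), Odd m ∧ orderOf x = 2 ^ s * m := by
  obtain ⟨s, m, hm, h⟩ := Nat.exists_eq_two_pow_mul_odd (orderOf_pos x).ne'
  exact ⟨s, m, hm, h⟩

omit [Finite H] in
theorem odd_orderOf_map {K : Type w} [Group K] (f : H →* K) {a : H} (ha : Odd (orderOf a)) :
    Odd (orderOf (f a)) := ha.of_dvd_nat (orderOf_map_dvd f a)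

theorem nice_top : Nice c (Top c H) := by
  intro a b ha hb
  set Q := H ⧸ Cfsg.pCore c H
  let q : Top c H →* Q := (QuotientGroup.mk' (Cfsg.pCore c H)).comp (Top c H).subtype
  have hmem : ∀ x : Top c H, Odd (orderOf x) → q x ∈ Cfsg.pPrimeCore 2 Q := by
    intro x hx
    have h1 : QuotientGroup.mk' (Cfsg.pPrimeCore 2 Q) (q x) ∈ Cfsg.pCore 2 (Q ⧸ Cfsg.pPrimeCore 2 Q) :=
      x.2
    obtain ⟨k, hk⟩ := CfsgLib.PLocal.isPGroup_pCore 2 (Q ⧸ Cfsg.pPrimeCore 2 Q) ⟨_, h1⟩
    have h2 := odd_orderOf_map ((QuotientGroup.mk' (Cfsg.pPrimeCore 2 Q)).comp q) hx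
    have h3 : orderOf ((QuotientGroup.mk' (Cfsg.pPrimeCore 2 Q)).comp q x) ∣ 2 ^ k :=
      orderOf_dvd_of_pow_eq_one (congrArg Subtype.val hk)
    have h4 : orderOf ((QuotientGroup.mk' (Cfsg.pPrimeCore 2 Q)).comp q x) = 1 :=
      Nat.eq_one_of_dvd_coprimes ((Nat.coprime_two_left.2 h2).pow_left k) h3 dvd_rfl
    exact (QuotientGroup.eq_one_iff _).1 (orderOf_eq_one_iff.1 h4)
  set K := Cfsg.pPrimeCore 2 Q
  have hKo : Odd (Nat.card K) :=
    Nat.coprime_two_right.1 (CfsgLib.PLocal.coprime_card_pPrimeCore 2 Q)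
  refine ⟨Nat.card K, hKo, CfsgLib.PLocal.pCore_subgroupOf_le (Top c H) ?_⟩
  have h5 := pow_card_eq_one' (x := (⟨q a * q b, mul_mem (hmem a ha) (hmem b hb)⟩ : K))
  have h6 : q ((a * b) ^ Nat.card K) = 1 := by
    rw [map_pow, map_mul]
    exact congrArg Subtype.val h5
  exact mem_subgroupOf.2 ((QuotientGroup.eq_one_iff _).1 h6)

theorem le_top_of_nice {D : Subgroup H} [hD : D.Normal] (hn : Nice c D) : D ≤ Top c H := by
  set Q := H ⧸ Cfsg.pCore c H
  let q : D →* Q := (QuotientGroup.mk' (Cfsg.pCore c H)).comp D.subtype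
  have hcore : ∀ z ∈ Cfsg.pCore c D, q z = 1 := fun z hz =>
    (QuotientGroup.eq_one_iff _).2 (CfsgLib.PLocal.pCore_map_subtype_le D ⟨z, hz, rfl⟩)
  have hlift : ∀ y : Q, y ∈ q.range → Odd (orderOf y) → ∃ z : D, Odd (orderOf z) ∧ q z = y := by
    rintro _ ⟨z, rfl⟩ hy
    obtain ⟨s, m, hm, hz⟩ := exists_odd_pow_eq (x := z)
    obtain ⟨v, hv⟩ := exists_pow_eq_self_of_coprime ((Nat.coprime_two_left.2 hy).pow_left s)
    refine ⟨(z ^ 2 ^ s) ^ v, ?_, by rw [map_pow, map_pow, hv]⟩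
    refine hm.of_dvd_nat (orderOf_dvd_of_pow_eq_one ?_)
    rw [← pow_mul, ← pow_mul, show 2 ^ s * (v * m) = 2 ^ s * m * v by ring, pow_mul, ← hz,
      pow_orderOf_eq_one, one_pow]
  let Kd : Subgroup Q :=
    { carrier := {y | y ∈ q.range ∧ Odd (orderOf y)}
      one_mem' := ⟨one_mem _, by simp⟩
      mul_mem' := by
        rintro y y' ⟨hy, hyo⟩ ⟨hy', hyo'⟩
        obtain ⟨z, hz, rfl⟩ := hlift y hy hyo
        obtain ⟨z', hz', rfl⟩ := hlift y' hy' hyo'
        obtain ⟨m, hm, hmem⟩ := hn z z' hz hz'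
        refine ⟨mul_mem hy hy', hm.of_dvd_nat (orderOf_dvd_of_pow_eq_one ?_)⟩
        rw [← map_mul, ← map_pow, hcore _ hmem]
      inv_mem' := by
        rintro y ⟨hy, hyo⟩
        exact ⟨inv_mem hy, by rwa [orderOf_inv]⟩ }
  haveI : Kd.Normal := by
    refine ⟨fun y ⟨⟨z, hz⟩, hyo⟩ g => ?_⟩
    obtain ⟨g, rfl⟩ := QuotientGroup.mk'_surjective _ g
    refine ⟨⟨⟨g * z * g⁻¹, hD.conj_mem _ z.2 g⟩, ?_⟩, ?_⟩
    · rw [← hz]
      show QuotientGroup.mk' _ (g * (z : H) * g⁻¹) = _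
      rw [map_mul, map_mul, map_inv]
      rfl
    · rwa [← MulAut.conj_apply, MulEquiv.orderOf_eq]
  have hKd : Kd ≤ Cfsg.pPrimeCore 2 Q := by
    refine CfsgLib.PLocal.le_pPrimeCore (Nat.coprime_two_right.2 (Nat.not_even_iff_odd.1 fun he => ?_))
    haveI := Fact.mk Nat.prime_two
    obtain ⟨y, hy⟩ := exists_prime_orderOf_dvd_card' (G := Kd) 2 he.two_dvd
    have h1 := y.2.2
    rw [orderOf_coe, hy] at h1
    exact Nat.not_even_iff_odd.2 h1 even_two
  set Qb := Q ⧸ Cfsg.pPrimeCore 2 Q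
  let qb : D →* Qb := (QuotientGroup.mk' (Cfsg.pPrimeCore 2 Q)).comp q
  have hp : IsPGroup 2 qb.range := by
    rintro ⟨_, z, rfl⟩
    obtain ⟨s, m, hm, hz⟩ := exists_odd_pow_eq (x := z)
    refine ⟨s, Subtype.ext ?_⟩
    show qb z ^ 2 ^ s = 1
    rw [← map_pow]
    refine (QuotientGroup.eq_one_iff _).2 (hKd ⟨⟨_, rfl⟩, ?_⟩)
    refine hm.of_dvd_nat (orderOf_dvd_of_pow_eq_one ?_)
    show q (z ^ 2 ^ s) ^ m = 1
    rw [← map_pow, ← pow_mul, ← hz, pow_orderOf_eq_one, map_one]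
  haveI : qb.range.Normal := by
    refine ⟨fun y ⟨z, hz⟩ g => ?_⟩
    obtain ⟨g, rfl⟩ := QuotientGroup.mk'_surjective _ g
    obtain ⟨g, rfl⟩ := QuotientGroup.mk'_surjective _ g
    refine ⟨⟨g * z * g⁻¹, hD.conj_mem _ z.2 g⟩, ?_⟩
    rw [← hz]
    show QuotientGroup.mk' _ (QuotientGroup.mk' _ (g * (z : H) * g⁻¹)) = _
    simp only [map_mul, map_inv]
    rfl
  intro d hd
  exact CfsgLib.PLocal.le_pCore hp ⟨⟨d, hd⟩, rfl⟩

/-- Detection by a family of homomorphisms with a `c`-group as common kernel. -/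
theorem mem_top_of_family [hc : Fact c.Prime] {ι : Sort v} {Q : ι → Type w} [∀ i, Group (Q i)]
    [∀ i, Finite (Q i)] (f : ∀ i, H →* Q i) (hker : IsPGroup c (⨅ i, (f i).ker : Subgroup H))
    {t : H} (ht : ∀ i, f i t ∈ Top c (Q i)) : t ∈ Top c H := by
  haveI : (normalClosure ({t} : Set H)).Normal := normalClosure_normal
  set D := normalClosure ({t} : Set H) with hDdef
  have hle : ∀ i (d : D), f i d ∈ Top c (Q i) := fun i d => by
    haveI := top_normal (c := c) (H := Q i)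
    exact normalClosure_le_normal (N := (Top c (Q i)).comap (f i))
      (Set.singleton_subset_iff.2 (ht i)) d.2
  let g : ∀ i, D →* Top c (Q i) := fun i => ((f i).comp D.subtype).codRestrict _ (hle i)
  refine le_top_of_nice (D := D) ?_ (subset_normalClosure (Set.mem_singleton t))
  intro a b ha hb
  obtain ⟨s, m₀, hm₀, hab⟩ := exists_odd_pow_eq (x := a * b)
  set P : Subgroup D := ⨅ i, (Cfsg.pCore c (Top c (Q i))).comap (g i) with hP
  haveI : P.Normal := normal_iInf_normal fun i => by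
    haveI : (Cfsg.pCore c (Top c (Q i))).Normal := inferInstance
    infer_instance
  have hPp : IsPGroup c P := by
    rintro ⟨z, hz⟩
    set k := (orderOf z).factorization c
    have h1 : (z : H) ^ c ^ k ∈ (⨅ i, (f i).ker : Subgroup H) := by
      refine mem_iInf.2 fun i => ?_
      obtain ⟨j, hj⟩ := CfsgLib.PLocal.isPGroup_pCore c (Top c (Q i)) ⟨g i z, mem_iInf.1 hz i⟩
      have h2 : orderOf (g i z) ∣ c ^ j := orderOf_dvd_of_pow_eq_one (congrArg Subtype.val hj)
      obtain ⟨l, -, hl⟩ := (Nat.dvd_prime_pow hc.out).1 h2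
      have h3 : c ^ l ∣ orderOf z := hl ▸ orderOf_map_dvd (g i) z
      have hlk : l ≤ k :=
        (hc.out.pow_dvd_iff_le_factorization (orderOf_pos z).ne').1 h3
      have h4 : g i z ^ c ^ k = 1 :=
        orderOf_dvd_iff_pow_eq_one.1 (hl ▸ pow_dvd_pow c hlk)
      rw [MonoidHom.mem_ker, map_pow]
      exact congrArg Subtype.val h4
    obtain ⟨k', hk'⟩ := hker ⟨_, h1⟩
    refine ⟨k + k', Subtype.ext (Subtype.ext ?_)⟩
    show (z : H) ^ c ^ (k + k') = 1
    rw [pow_add, pow_mul]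
    exact congrArg Subtype.val hk'
  refine ⟨m₀, hm₀, CfsgLib.PLocal.le_pCore hPp (mem_iInf.2 fun i => ?_)⟩
  obtain ⟨m, hm, hmem⟩ := nice_top (g i a) (g i b) (odd_orderOf_map _ ha) (odd_orderOf_map _ hb)
  rw [← map_mul, ← map_pow] at hmem
  have h1 : (a * b) ^ m.gcd (orderOf (a * b)) ∈ (Cfsg.pCore c (Top c (Q i))).comap (g i) := by
    rw [← zpow_natCast, Nat.gcd_eq_gcd_ab, zpow_add, zpow_mul, zpow_mul, zpow_natCast, zpow_natCast,
      pow_orderOf_eq_one, one_zpow, mul_one]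
    refine zpow_mem ?_ _
    exact hmem
  have h2 : m.gcd (orderOf (a * b)) ∣ m₀ := by
    rw [hab]
    refine Nat.Coprime.dvd_of_dvd_mul_left ?_ (Nat.gcd_dvd_right m (2 ^ s * m₀))
    exact ((Nat.coprime_two_left.2 hm).pow_left s).symm.coprime_dvd_left (Nat.gcd_dvd_left _ _)
  obtain ⟨w, hw⟩ := h2
  rw [hw, pow_mul]
  exact pow_mem h1 w

theorem mem_top_of_hom [Fact c.Prime] {K : Type w} [Group K] [Finite K] (f : H →* K)
    (hker : IsPGroup c f.ker) {t : H} (ht : f t ∈ Top c K) : t ∈ Top c H :=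
  mem_top_of_family (ι := Unit) (Q := fun _ => K) (fun _ => f) (by rwa [iInf_const]) fun _ => ht

theorem mem_top_of_injective [Fact c.Prime] {K : Type w} [Group K] [Finite K] (f : H →* K)
    (hf : Function.Injective f) {t : H} (ht : f t ∈ Top c K) : t ∈ Top c H :=
  mem_top_of_hom f (by rw [(MonoidHom.ker_eq_bot_iff f).2 hf]; exact IsPGroup.of_bot) ht

/-- The term passes up from a normal subgroup. -/
theorem mem_top_of_normal [Fact c.Prime] {B : Subgroup H} [B.Normal] {t : B} (ht : t ∈ Top c B) :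
    (t : H) ∈ Top c H := by
  have hn : ((Top c B).map B.subtype).Normal := by
    refine ⟨?_⟩
    rintro _ ⟨z, hz, rfl⟩ g
    refine ⟨MulAut.conjNormal g z, ?_, MulAut.conjNormal_apply g z⟩
    refine mem_top_of_injective (MulAut.conjNormal g⁻¹ : MulAut B).toMonoidHom
      (MulEquiv.injective _) ?_
    show (MulAut.conjNormal g⁻¹ : MulAut B) (MulAut.conjNormal g z) ∈ _
    rw [← MulAut.mul_apply, ← map_mul, inv_mul_cancel, map_one]
    exact hz
  refine le_top_of_nice (hD := hn) ?_ (mem_map_of_mem B.subtype ht)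
  intro a b ha hb
  let e := (Top c B).equivMapOfInjective B.subtype B.subtype_injective
  obtain ⟨m, hm, hmem⟩ := nice_top (c := c) (e.symm a) (e.symm b)
    (odd_orderOf_map e.symm.toMonoidHom ha) (odd_orderOf_map e.symm.toMonoidHom hb)
  refine ⟨m, hm, ?_⟩
  rw [← CfsgLib.PLocal.map_pCore_equiv e]
  refine ⟨_, hmem, ?_⟩
  show e ((e.symm a * e.symm b) ^ m) = _
  rw [map_pow, map_mul, e.apply_symm_apply, e.apply_symm_apply]

/-- Elements of a subgroup of class two, normal in the group, in which commutators are central. -/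
theorem mem_top_of_class_two [Fact c.Prime] {D : Subgroup H} [D.Normal]
    (hD : ∀ a ∈ D, ∀ b ∈ D, ∀ z ∈ D, Commute ⁅a, b⁆ z) {t : H} (ht : t ∈ D) : t ∈ Top c H := by
  refine le_top_of_nice (D := D) ?_ ht
  intro a b ha hb
  refine ⟨orderOf a * orderOf b, ha.mul hb, ?_⟩
  set m := orderOf a * orderOf b
  have hcz : ∀ z : D, Commute ⁅b, a⁆ z := fun z => Subtype.ext (hD b b.2 a a.2 z z.2)
  have hca : Commute ⁅b, a⁆ a := hcz a
  have hcb : Commute ⁅b, a⁆ b := hcz b
  have hba : ∀ k : ℕ, b ^ k * a = ⁅b, a⁆ ^ k * (a * b ^ k) := by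
    intro k
    induction k with
    | zero => simp
    | succ k ih =>
      calc b ^ (k + 1) * a = b ^ k * (⁅b, a⁆ * (a * b)) := by
            rw [pow_succ, mul_assoc, commutatorElement_def]; group
        _ = ⁅b, a⁆ * (b ^ k * a) * b := by
            rw [← mul_assoc, ← ((hcb.pow_right k)).eq]; group
        _ = _ := by rw [ih, pow_succ' ⁅b, a⁆, pow_succ]; group
  have hpow : ∀ k : ℕ, (a * b) ^ k = ⁅b, a⁆ ^ k.choose 2 * (a ^ k * b ^ k) := by
    intro k
    induction k with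
    | zero => simp
    | succ k ih =>
      have hmv : Commute (⁅b, a⁆ ^ k) (a ^ k) := hca.pow_pow k k
      calc (a * b) ^ (k + 1) = ⁅b, a⁆ ^ k.choose 2 * (a ^ k * (b ^ k * a) * b) := by
            rw [pow_succ, ih]; group
        _ = ⁅b, a⁆ ^ k.choose 2 * (⁅b, a⁆ ^ k * (a ^ k * a) * (b ^ k * b)) := by
            rw [hba]
            simp only [← mul_assoc]
            rw [mul_assoc _ (a ^ k) (⁅b, a⁆ ^ k), ← hmv.eq]
            simp only [← mul_assoc]
        _ = _ := by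
            rw [Nat.choose_succ_succ', Nat.choose_one_right, add_comm k, pow_add ⁅b, a⁆, pow_succ,
              pow_succ]
            group
  have hca1 : ⁅b, a⁆ ^ orderOf a = 1 := by
    have : ∀ k : ℕ, b * a ^ k = ⁅b, a⁆ ^ k * (a ^ k * b) := by
      intro k
      induction k with
      | zero => simp
      | succ k ih =>
        calc b * a ^ (k + 1) = ⁅b, a⁆ ^ k * a ^ k * (b * a) := by rw [pow_succ, ← mul_assoc, ih]; group
          _ = ⁅b, a⁆ ^ k * (a ^ k * ⁅b, a⁆) * (a * b) := by rw [commutatorElement_def]; group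
          _ = _ := by rw [← (hca.pow_right k).eq, pow_succ, pow_succ]; group
    have h := this (orderOf a)
    rw [pow_orderOf_eq_one, mul_one, one_mul] at h
    exact mul_eq_right.1 h.symm
  have hdvd : orderOf a ∣ m.choose 2 := by
    obtain ⟨k, hk⟩ : Odd m := ha.mul hb
    rw [Nat.choose_two_right, show m * (m - 1) / 2 = m * k by
      rw [hk, Nat.add_sub_cancel, show (2 * k + 1) * (2 * k) = 2 * ((2 * k + 1) * k) by ring,
        Nat.mul_div_cancel_left _ two_pos]]
    exact (dvd_mul_right _ _).mul_right _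
  obtain ⟨w, hw⟩ := hdvd
  rw [hpow, hw, pow_mul, hca1, one_pow, one_mul,
    orderOf_dvd_iff_pow_eq_one.1 (dvd_mul_right _ _), orderOf_dvd_iff_pow_eq_one.1 (dvd_mul_left _ _),
    mul_one]
  exact one_mem _

end CfsgLib.FGS74.GrossLen
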