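import Cfsg.Agent.FGS74.GrossLen.Ext
import Cfsg.Agent.FGS74.GrossLen.Top
import Mathlib.LinearAlgebra.LinearIndependent.Lemmas

/-!
# Groups in which abelian normal subgroups are scalar

A maximal normal subgroup with scalar commutators contains its centraliser, so it gives the grading
of `IsExt`; the group acts faithfully on it modulo scalars and modulo the subgroup itself.
-/

set_option autoImplicit false
set_option linter.style.haveILetI false

open Module
open scoped commutatorElement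

namespace CfsgLib.FGS74.GrossLen

universe u v w

variable {K : Type u} [Field K] {V : Type v} [AddCommGroup V] [Module K V] {H : Type w} [Group H]

/-- The scalar elements. -/
def scalSub (ψ : H →* Module.End K V) : Subgroup H where
  carrier := {z | ∃ r : K, ψ z = r • 1}
  one_mem' := ⟨1, by simp⟩
  mul_mem' := by
    rintro y z ⟨r, hr⟩ ⟨s, hs⟩
    exact ⟨r * s, by rw [map_mul, hr, hs, smul_mul_smul_comm, one_mul]⟩
  inv_mem' := by
    rintro z ⟨r, hr⟩
    exact ⟨r⁻¹, scalar_inv ψ hr⟩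

theorem scalSub_comm {ψ : H →* Module.End K V} (hψ : Function.Injective ψ) {z : H}
    (hz : z ∈ scalSub ψ) (h : H) : h * z = z * h := by
  obtain ⟨r, hr⟩ := hz
  refine hψ ?_
  rw [map_mul, map_mul, hr, mul_smul_comm, mul_one, smul_mul_assoc, one_mul]

theorem commutator_mul_eq {a b d d' : H} (h1 : Commute a d') (h2 : Commute d b) (h3 : Commute d d') :
    ⁅a * d, b * d'⁆ = ⁅a, b⁆ := by
  have e1 : d * (b * d') = b * d' * d := (h2.mul_right h3).eq
  rw [commutatorElement_def, commutatorElement_def]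
  calc a * d * (b * d') * (a * d)⁻¹ * (b * d')⁻¹
      = a * (d * (b * d')) * d⁻¹ * a⁻¹ * (b * d')⁻¹ := by group
    _ = a * b * (d' * a⁻¹) * d'⁻¹ * b⁻¹ := by rw [e1]; group
    _ = a * b * (a⁻¹ * d') * d'⁻¹ * b⁻¹ := by rw [h1.symm.inv_right.eq]
    _ = _ := by group

/-- A maximal normal subgroup with scalar commutators contains its centraliser. -/
theorem exists_ext_subgroup [Finite H] (hsol : Group.IsSolvable H) {ψ : H →* Module.End K V}
    (hψ : Function.Injective ψ)
    (hsc : ∀ A : Subgroup H, A.Normal → (∀ a ∈ A, ∀ b ∈ A, a * b = b * a) →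
      ∀ a ∈ A, ∃ r : K, ψ a = r • 1) :
    ∃ R : Subgroup H, IsExt ψ R ∧ ∀ h : H, (∀ a ∈ R, h * a = a * h) → h ∈ R := by
  classical
  obtain ⟨R, hR⟩ := exists_maximal_of_wellFoundedGT
    (fun R : Subgroup H => R.Normal ∧ ∀ a ∈ R, ∀ b ∈ R, ⁅a, b⁆ ∈ scalSub ψ)
    ⟨⊥, inferInstance, fun a ha b _ => by
      rw [Subgroup.mem_bot.1 ha, commutatorElement_one_left]; exact one_mem _⟩
  obtain ⟨hRn, hRc⟩ := hR.prop
  haveI := hRn
  let C : Subgroup H := Subgroup.centralizer (R : Set H)
  haveI hCn : C.Normal := Subgroup.normal_centralizer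
  have hmemC : ∀ {h : H}, h ∈ C ↔ ∀ a ∈ R, a * h = h * a := fun {h} =>
    Subgroup.mem_centralizer_iff
  have hCR : ∀ a ∈ C ⊓ R, a ∈ scalSub ψ :=
    hsc (C ⊓ R) inferInstance fun a ha b hb => (hmemC.1 ha.1 b hb.2).symm
  -- the derived series of the centraliser
  let D : ℕ → Subgroup H := fun k => k.rec C fun _ P => ⁅P, P⁆
  have hDn : ∀ k, (D k).Normal := fun k => by
    induction k with
    | zero => exact hCn
    | succ k ih => exact Subgroup.commutator_normal _ _
  have hDC : ∀ k, D k ≤ C := fun k => by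
    induction k with
    | zero => exact le_rfl
    | succ k ih =>
      haveI := hDn k
      exact (Subgroup.commutator_le_left _ _).trans ih
  have hDle : ∀ k, D k ≤ derivedSeries H k := fun k => by
    induction k with
    | zero => rw [derivedSeries_zero]; exact le_top
    | succ k ih => rw [derivedSeries_succ]; exact Subgroup.commutator_mono ih ih
  obtain ⟨n, hn⟩ := hsol.solvable
  have hsucc : ∀ k, D (k + 1) ≤ scalSub ψ → D k ≤ scalSub ψ := by
    intro k hk
    haveI := hDn k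
    have hle : R ⊔ D k ≤ R := by
      refine hR.2 (y := R ⊔ D k) ⟨@Subgroup.sup_normal H _ R (D k) hRn (hDn k), ?_⟩ le_sup_left
      intro a ha b hb
      rw [← SetLike.mem_coe, @Subgroup.mul_normal H _ R (D k) (hDn k), Set.mem_mul] at ha hb
      obtain ⟨a, ha, d, hd, rfl⟩ := ha
      obtain ⟨b, hb, d', hd', rfl⟩ := hb
      have hc : ∀ p ∈ R, ∀ q ∈ D k, Commute p q := fun p hp q hq => hmemC.1 (hDC k hq) p hp
      have hdd : ⁅d, d'⁆ ∈ scalSub ψ := hk (Subgroup.commutator_mem_commutator hd hd')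
      have key : ⁅a * d, b * d'⁆ = ⁅a, b⁆ * ⁅d, d'⁆ := by
        have e1 : Commute a d := hc a ha d hd
        have e2 : Commute a d' := hc a ha d' hd'
        have e3 : Commute b d := hc b hb d hd
        have e4 : Commute b d' := hc b hb d' hd'
        rw [commutatorElement_def, commutatorElement_def, commutatorElement_def]
        calc a * d * (b * d') * (a * d)⁻¹ * (b * d')⁻¹
            = a * (d * b) * (d' * d⁻¹) * a⁻¹ * d'⁻¹ * b⁻¹ := by group
          _ = a * b * (d * d' * d⁻¹ * (a⁻¹ * d'⁻¹)) * b⁻¹ := by rw [← e3.eq]; group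
          _ = a * b * ((d * d' * d⁻¹ * d'⁻¹) * a⁻¹) * b⁻¹ := by
              rw [e2.inv_inv.eq]; group
          _ = a * b * (a⁻¹ * (d * d' * d⁻¹ * d'⁻¹)) * b⁻¹ := by
              rw [((e1.mul_right e2).mul_right e1.inv_right |>.mul_right e2.inv_right).inv_left.symm.eq]
          _ = a * b * a⁻¹ * ((d * d' * d⁻¹ * d'⁻¹) * b⁻¹) := by group
          _ = a * b * a⁻¹ * (b⁻¹ * (d * d' * d⁻¹ * d'⁻¹)) := by
              rw [((e3.mul_right e4).mul_right e3.inv_right |>.mul_right e4.inv_right).inv_left.symm.eq]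
          _ = _ := by group
      rw [key]
      exact mul_mem (hRc a ha b hb) hdd
    intro a ha
    exact hCR a ⟨hDC k ha, hle (Subgroup.mem_sup_right ha)⟩
  have hCs : C ≤ scalSub ψ := by
    have : ∀ k, D k ≤ scalSub ψ → D 0 ≤ scalSub ψ := fun k => by
      induction k with
      | zero => exact id
      | succ k ih => exact fun h => ih (hsucc k h)
    refine this n ((hDle n).trans ?_)
    rw [hn]
    exact bot_le
  have hZR : scalSub ψ ≤ R := by
    haveI : (scalSub ψ).Normal := ⟨fun z hz g => by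
      rwa [scalSub_comm hψ hz g, mul_inv_cancel_right]⟩
    refine le_sup_right.trans (hR.2 (y := R ⊔ scalSub ψ) ⟨Subgroup.sup_normal R (scalSub ψ), ?_⟩ le_sup_left)
    intro a ha b hb
    rw [← SetLike.mem_coe, Subgroup.mul_normal, Set.mem_mul] at ha hb
    obtain ⟨a, ha, d, hd, rfl⟩ := ha
    obtain ⟨b, hb, d', hd', rfl⟩ := hb
    have hz : ∀ {z : H}, z ∈ scalSub ψ → ∀ h, Commute z h := fun hz h => (scalSub_comm hψ hz h).symm
    rw [commutator_mul_eq (hz hd' a).symm (hz hd b) (hz hd d')]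
    exact hRc a ha b hb
  refine ⟨R, ⟨hRn, hRc, fun a ha hab => ?_⟩, fun h hh => hZR (hCs (hmemC.2 fun a ha => (hh a ha).symm))⟩
  exact hCs (hmemC.2 fun b hb => hψ (by rw [map_mul, map_mul, hab b hb]))

namespace IsExt

variable {ψ : H →* Module.End K V} {R : Subgroup H} (hE : IsExt ψ R) [Nontrivial V]
include hE

theorem qpair_pow_left (m k : Quo ψ R) (i : ℕ) : qpair ψ R (m ^ i) k = qpair ψ R m k ^ i := by
  induction i with
  | zero => rw [pow_zero, pow_zero, hE.qpair_one_left]
  | succ i ih => rw [pow_succ, pow_succ, hE.qpair_mul_left, ih]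

theorem qpair_pow_right (m k : Quo ψ R) (i : ℕ) : qpair ψ R m (k ^ i) = qpair ψ R m k ^ i := by
  induction i with
  | zero => rw [pow_zero, pow_zero, hE.qpair_one_right]
  | succ i ih => rw [pow_succ, pow_succ, hE.qpair_mul_right, ih]

theorem card_quo_ne_zero {c : ℕ} [hc : Fact c.Prime] [CharP K c] [Finite H] [Fintype (Quo ψ R)] :
    (Fintype.card (Quo ψ R) : K) ≠ 0 := by
  intro h0
  rw [CharP.cast_eq_zero_iff K c] at h0
  obtain ⟨m, hm⟩ := exists_prime_orderOf_dvd_card c h0
  have h1 : m = 1 := hE.eq_one_of_qpair fun k => by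
    have h2 : qpair ψ R m k ^ c = 1 := by
      rw [← hE.qpair_pow_left, ← hm, pow_orderOf_eq_one, hE.qpair_one_left]
    have h3 : (qpair ψ R m k - 1) ^ c = 0 := by
      rw [sub_pow_char, h2, one_pow, sub_self]
    exact sub_eq_zero.1 (pow_eq_zero_iff hc.out.ne_zero |>.1 h3)
  rw [h1, orderOf_one] at hm
  exact hc.out.one_lt.ne hm

/-- An invariant isotropic subgroup is trivial. -/
theorem eq_bot_of_isotropic (hψ : Function.Injective ψ)
    (hsc : ∀ A : Subgroup H, A.Normal → (∀ a ∈ A, ∀ b ∈ A, a * b = b * a) →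
      ∀ a ∈ A, ∃ r : K, ψ a = r • 1)
    {W : Subgroup (Quo ψ R)} (hinv : ∀ h, ∀ m ∈ W, hE.act h m ∈ W)
    (hiso : ∀ m ∈ W, ∀ k ∈ W, qpair ψ R m k = 1) : W = ⊥ := by
  haveI := hE.normal
  let P : Subgroup H := (W.comap (QuotientGroup.mk' (scal ψ R))).map R.subtype
  have hPn : P.Normal := ⟨by
    rintro _ ⟨a, ha, rfl⟩ g
    refine ⟨⟨g * a * g⁻¹, hE.normal.conj_mem _ a.2 g⟩, ?_, rfl⟩
    have := hinv g _ ha
    rwa [show hE.act g (QuotientGroup.mk' (scal ψ R) a) = _ from hE.act_mk g a] at this⟩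
  have hPab : ∀ a ∈ P, ∀ b ∈ P, a * b = b * a := by
    rintro _ ⟨a, ha, rfl⟩ _ ⟨b, hb, rfl⟩
    refine hψ ?_
    rw [map_mul, map_mul, Subgroup.coe_subtype, hE.mul_swap, ← hE.qpair_mk]
    rw [show qpair ψ R (a : Quo ψ R) (b : Quo ψ R) = 1 from hiso _ ha _ hb, one_smul]
  rw [Subgroup.eq_bot_iff_forall]
  intro m hm
  induction m using QuotientGroup.induction_on with
  | _ a =>
    rw [QuotientGroup.eq_one_iff]
    exact hsc P hPn hPab a ⟨a, hm, rfl⟩

theorem pow_eq_one_of_sq (hψ : Function.Injective ψ)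
    (hsc : ∀ A : Subgroup H, A.Normal → (∀ a ∈ A, ∀ b ∈ A, a * b = b * a) →
      ∀ a ∈ A, ∃ r : K, ψ a = r • 1)
    {n : ℕ} (hn : ∀ m : Quo ψ R, m ^ (n * n) = 1) (m : Quo ψ R) : m ^ n = 1 := by
  let W : Subgroup (Quo ψ R) :=
    { carrier := Set.range fun m : Quo ψ R => m ^ n
      one_mem' := ⟨1, one_pow n⟩
      mul_mem' := by
        rintro _ _ ⟨a, rfl⟩ ⟨b, rfl⟩
        exact ⟨a * b, (show Commute a b from hE.quo_mul_comm a b).mul_pow n⟩
      inv_mem' := by
        rintro _ ⟨a, rfl⟩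
        exact ⟨a⁻¹, inv_pow a n⟩ }
  have hW : W = ⊥ := hE.eq_bot_of_isotropic hψ hsc
    (by rintro h _ ⟨a, rfl⟩; exact ⟨hE.act h a, (map_pow _ a n).symm⟩)
    (by
      rintro _ ⟨a, rfl⟩ _ ⟨b, rfl⟩
      rw [hE.qpair_pow_left, hE.qpair_pow_right, ← pow_mul, ← hE.qpair_pow_left, hn,
        hE.qpair_one_left])
  exact (Subgroup.mem_bot (G := Quo ψ R)).1 (hW ▸ ⟨m, rfl⟩)

theorem squarefree_exponent [Finite H] (hψ : Function.Injective ψ)
    (hsc : ∀ A : Subgroup H, A.Normal → (∀ a ∈ A, ∀ b ∈ A, a * b = b * a) →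
      ∀ a ∈ A, ∃ r : K, ψ a = r • 1) : Squarefree (Monoid.exponent (Quo ψ R)) := by
  rw [Nat.squarefree_iff_prime_squarefree]
  rintro p hp ⟨w, hw⟩
  have h1 : ∀ m : Quo ψ R, m ^ (p * w) = 1 := hE.pow_eq_one_of_sq hψ hsc fun m => by
    refine orderOf_dvd_iff_pow_eq_one.1 ((Monoid.order_dvd_exponent m).trans ?_)
    rw [hw]
    exact ⟨w, by ring⟩
  have h2 := Monoid.exponent_dvd_of_forall_pow_eq_one h1
  have h3 : 0 < Monoid.exponent (Quo ψ R) := Monoid.exponent_pos.2 Monoid.ExponentExists.of_finite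
  have h4 := Nat.le_of_dvd (by
    rcases Nat.eq_zero_or_pos w with rfl | hw0
    · simp at hw; omega
    · exact Nat.mul_pos hp.pos hw0) h2
  rw [hw] at h4
  have hw0 : 0 < p * w := by
    rcases Nat.eq_zero_or_pos w with rfl | hw0
    · simp at hw; omega
    · exact Nat.mul_pos hp.pos hw0
  nlinarith [hp.two_le]

/-- An element acting trivially on `R` modulo scalars lies in `R`. -/
theorem mem_of_act_eq_one [Finite H] (hψ : Function.Injective ψ)
    (hC : ∀ h : H, (∀ a ∈ R, h * a = a * h) → h ∈ R)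
    {h : H} (hh : hE.act h = 1) : h ∈ R := by
  classical
  haveI : Fintype (Quo ψ R) := Fintype.ofFinite _
  have hex : ∀ a : R, ∃ r : K, ψ h * ψ (a : H) = r • (ψ (a : H) * ψ h) := by
    intro a
    have h1 : ((⟨h * a * h⁻¹, hE.normal.conj_mem _ a.2 h⟩ : R) : Quo ψ R) = (a : Quo ψ R) := by
      rw [← hE.act_mk, hh, MulAut.one_apply]
    rw [QuotientGroup.eq_iff_div_mem, mem_scal] at h1
    obtain ⟨r, hr⟩ := h1
    refine ⟨r, ?_⟩
    rw [Subgroup.coe_div, div_eq_mul_inv] at hr
    calc ψ h * ψ (a : H) = ψ ((h * a * h⁻¹ * (a : H)⁻¹) * ((a : H) * h)) := by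
          rw [← map_mul]; congr 1; group
      _ = _ := by rw [map_mul, hr, smul_mul_assoc, one_mul, map_mul]
  choose γ hγ using hex
  have huniq : ∀ (a : R) (r : K), ψ h * ψ (a : H) = r • (ψ (a : H) * ψ h) → γ a = r := by
    intro a r hr
    have h2 := congrArg (fun A => A * (ψ h⁻¹ * ψ (a : H)⁻¹)) ((hγ a).symm.trans hr)
    simp only [smul_mul_assoc, mul_assoc] at h2
    rw [← mul_assoc (ψ h), mul_map_inv, one_mul, mul_map_inv] at h2
    exact smul_left_injective K (one_ne_zero (α := Module.End K V)) h2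
  let β₀ : R →* K :=
    { toFun := γ
      map_one' := huniq 1 1 (by rw [Subgroup.coe_one, map_one, one_smul, mul_one, one_mul])
      map_mul' := fun a b => huniq _ _ (by
        rw [Subgroup.coe_mul, map_mul, ← mul_assoc, hγ a, smul_mul_assoc, mul_assoc, hγ b,
          mul_smul_comm, smul_smul, mul_assoc]) }
  let β : Quo ψ R →* K := QuotientGroup.lift (scal ψ R) β₀ fun z ⟨r, hr⟩ =>
    huniq z 1 (by rw [hr, one_smul, mul_smul_comm, mul_one, smul_mul_assoc, one_mul])
  obtain ⟨m, hm⟩ : ∃ m, hE.chr m = β := by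
    by_contra hno
    push Not at hno
    have hinj : Function.Injective fun o : Option (Quo ψ R) => o.elim β hE.chr := by
      intro o o' he
      cases o with
      | none =>
        cases o' with
        | none => rfl
        | some m => exact absurd he.symm (hno m)
      | some m =>
        cases o' with
        | none => exact absurd he (hno m)
        | some m' =>
          have h1 : ∀ k, qpair ψ R k m = qpair ψ R k m' := fun k => DFunLike.congr_fun he k
          refine congrArg some (mul_inv_eq_one.1 (hE.eq_one_of_qpair fun k => ?_))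
          have h2 : qpair ψ R k (m * m'⁻¹) = 1 := by
            rw [hE.qpair_mul_right, h1, ← hE.qpair_mul_right, mul_inv_cancel, hE.qpair_one_right]
          have h3 := hE.qpair_swap (m * m'⁻¹) k
          rwa [h2, mul_one] at h3
    have h4 := ((linearIndependent_monoidHom (Quo ψ R) K).comp _ hinj).fintype_card_le_finrank
    rw [Fintype.card_option, Module.finrank_fintype_fun_eq_card] at h4
    omega
  have hmem : ∀ a ∈ R, (m.out : H) * h * a = a * ((m.out : H) * h) := by
    intro a ha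
    refine hψ ?_
    have h1 : γ ⟨a, ha⟩ = pair ψ R ⟨a, ha⟩ m.out := by
      have := DFunLike.congr_fun hm ((⟨a, ha⟩ : R) : Quo ψ R)
      rw [← hE.qpair_mk, QuotientGroup.out_eq']
      exact this.symm
    rw [map_mul, map_mul, map_mul, map_mul, mul_assoc, hγ ⟨a, ha⟩, ← mul_assoc (ψ a),
      hE.mul_swap ⟨a, ha⟩ m.out, mul_smul_comm, smul_mul_assoc, h1, ← mul_assoc]
  have h5 := hC _ hmem
  simpa using mul_mem (inv_mem m.out.2) h5

end IsExt

/-- The structure of a group in which abelian normal subgroups are scalar. -/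
theorem exists_prim {c : ℕ} [Fact c.Prime] [CharP K c] [Nontrivial V] [Finite H]
    (hsol : Group.IsSolvable H) {ψ : H →* Module.End K V} (hψ : Function.Injective ψ)
    (hsc : ∀ A : Subgroup H, A.Normal → (∀ a ∈ A, ∀ b ∈ A, a * b = b * a) →
      ∀ a ∈ A, ∃ r : K, ψ a = r • 1) :
    ∃ (R : Subgroup H) (hE : IsExt ψ R), (∀ h, hE.act h = 1 → h ∈ R) ∧
      (∀ h ∈ R, h ∈ Top c H) ∧ Squarefree (Monoid.exponent (Quo ψ R)) := by
  obtain ⟨R, hE, hC⟩ := exists_ext_subgroup hsol hψ hsc
  refine ⟨R, hE, fun h => hE.mem_of_act_eq_one hψ hC, fun h hh => ?_,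
    hE.squarefree_exponent hψ hsc⟩
  haveI := hE.normal
  refine mem_top_of_class_two (D := R) (fun a ha b hb z _ => ?_) hh
  exact (scalSub_comm hψ (hE.comm_scalar a ha b hb) z).symm

end CfsgLib.FGS74.GrossLen
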