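import Cfsg.Agent.FGS74.GrossLen.Top
import Cfsg.Agent.Perm.Module
import Cfsg.Agent.HallHigman.IrreduciblePGroup

/-!
# Reduction to groups in which abelian normal subgroups are scalar

A property `Good e X` of an operator, inherited by invariant subspaces, quotients and blocks,
implies `x ^ 2 ^ (e - 1) ∈ Top c H` as soon as it does so for irreducible groups with scalar abelian
normal subgroups.
-/

set_option autoImplicit false
set_option linter.style.haveILetI false

open Module

namespace CfsgLib.FGS74.GrossLen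

universe u v w

variable {K : Type u} [Field K]

/-- Inheritance of a property of operators. -/
structure Closed (Good : ∀ (V : Type v) [AddCommGroup V] [Module K V], ℕ → Module.End K V → Prop) :
    Prop where
  pow_eq : ∀ {V : Type v} [AddCommGroup V] [Module K V] {e : ℕ} {X : Module.End K V},
    Good V e X → X ^ 2 ^ e = 1
  restrict : ∀ {V : Type v} [AddCommGroup V] [Module K V] [FiniteDimensional K V] {e : ℕ}
    {X : Module.End K V}, Good V e X → ∀ (U : Submodule K V) (h : ∀ v ∈ U, X v ∈ U),
      Good U e (X.restrict h)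
  quotient : ∀ {V : Type v} [AddCommGroup V] [Module K V] [FiniteDimensional K V] {e : ℕ}
    {X : Module.End K V}, Good V e X → ∀ (U : Submodule K V) (h : U ≤ U.comap X),
      Good (V ⧸ U) e (U.mapQ U X h)
  orbit : ∀ {V : Type v} [AddCommGroup V] [Module K V] [FiniteDimensional K V] {e : ℕ}
    {X : Module.End K V}, Good V e X → ∀ (U : Submodule K V), U ≠ ⊥ → ∀ (j : ℕ), j ≤ e →
      ∀ (P : Module.End K V), (∀ v ∈ U, P v = v) →
      (∀ i < 2 ^ e, ¬ 2 ^ j ∣ i → ∀ v ∈ U, P ((X ^ i) v) = 0) →
      ∀ (h : ∀ v ∈ U, (X ^ 2 ^ j) v ∈ U),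
        j < e ∧ (Good U (e - j) ((X ^ 2 ^ j).restrict h) ∨
          ∃ r : K, ∀ v ∈ U, (X ^ 2 ^ (e - 1)) v = r • v)

variable {c : ℕ} [hc : Fact c.Prime] [CharP K c]

/-- The map induced on the quotient by the kernel, into a monoid. -/
def kerLift' {H : Type w} [Group H] {M : Type*} [Monoid M] (f : H →* M) : H ⧸ f.ker →* M :=
  QuotientGroup.lift f.ker f le_rfl

theorem kerLift'_injective {H : Type w} [Group H] {M : Type*} [Monoid M] (f : H →* M) :
    Function.Injective (kerLift' f) := by
  intro a b
  induction a using QuotientGroup.induction_on with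
  | _ a =>
    induction b using QuotientGroup.induction_on with
    | _ b =>
      intro h
      have h1 : f a = f b := h
      refine QuotientGroup.eq.2 ?_
      rw [MonoidHom.mem_ker, map_mul, ← h1, ← map_mul, inv_mul_cancel, map_one]

/-- The restriction to an invariant subspace. -/
def subRep {V : Type v} [AddCommGroup V] [Module K V] {H : Type w} [Group H]
    (ψ : H →* Module.End K V) (U : Submodule K V) (h : ∀ g, ∀ v ∈ U, ψ g v ∈ U) :
    H →* Module.End K U where
  toFun g := (ψ g).restrict (h g)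
  map_one' := LinearMap.ext fun v => Subtype.ext (by simp)
  map_mul' g g' := LinearMap.ext fun v => Subtype.ext (by simp [Module.End.mul_apply])

/-- The action on the quotient. -/
def quotRep {V : Type v} [AddCommGroup V] [Module K V] {H : Type w} [Group H]
    (ψ : H →* Module.End K V) (U : Submodule K V) (h : ∀ g, ∀ v ∈ U, ψ g v ∈ U) :
    H →* Module.End K (V ⧸ U) where
  toFun g := U.mapQ U (ψ g) (h g)
  map_one' := LinearMap.ext fun v => by
    induction v using Submodule.Quotient.induction_on
    simp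
  map_mul' g g' := LinearMap.ext fun v => by
    induction v using Submodule.Quotient.induction_on
    simp [Module.End.mul_apply]

/-- A normal `c`-subgroup acts trivially in an irreducible faithful representation. -/
theorem eq_bot_of_isPGroup {V : Type v} [AddCommGroup V] [Module K V] [Nontrivial V] {H : Type w}
    [Group H] [Finite H] {ψ : H →* Module.End K V} (hψ : Function.Injective ψ)
    (hirr : ∀ U : Submodule K V, (∀ g, ∀ v ∈ U, ψ g v ∈ U) → U = ⊥ ∨ U = ⊤)
    {P : Subgroup H} [hPn : P.Normal] (hP : IsPGroup c P) : P = ⊥ := by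
  obtain ⟨v, -, hv0, hv⟩ := CfsgLib.Perm.Module.exists_fixed_vector hP
    (ψ.comp P.subtype : Representation K P V) ⊤ (fun _ _ _ => Submodule.mem_top) top_ne_bot
  let F : Submodule K V :=
    { carrier := {w | ∀ a ∈ P, ψ a w = w}
      add_mem' := fun {x y} hx hy a ha => by rw [map_add, hx a ha, hy a ha]
      zero_mem' := fun a _ => map_zero _
      smul_mem' := fun r x hx a ha => by rw [map_smul, hx a ha] }
  have hF : F = ⊤ := by
    refine (hirr F fun g w hw a ha => ?_).resolve_left fun h => hv0 ?_
    · have h1 := congrArg (ψ g) (hw (g⁻¹ * a * g) (by simpa using hPn.conj_mem a ha g⁻¹))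
      rw [← Module.End.mul_apply, ← map_mul, show g * (g⁻¹ * a * g) = a * g by group, map_mul,
        Module.End.mul_apply] at h1
      exact h1
    · have : v ∈ F := fun a ha => hv ⟨a, ha⟩
      rw [h, Submodule.mem_bot] at this
      exact this
  rw [Subgroup.eq_bot_iff_forall]
  intro a ha
  refine hψ ((LinearMap.ext fun w => ?_).trans (map_one ψ).symm)
  exact (show w ∈ F from hF ▸ Submodule.mem_top) a ha

include hc in
theorem card_ne_zero_of_commutative {V : Type v} [AddCommGroup V] [Module K V] [Nontrivial V]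
    {H : Type w} [Group H] [Finite H] {ψ : H →* Module.End K V} (hψ : Function.Injective ψ)
    (hirr : ∀ U : Submodule K V, (∀ g, ∀ v ∈ U, ψ g v ∈ U) → U = ⊥ ∨ U = ⊤)
    {A : Subgroup H} [hA : A.Normal] (hab : ∀ a ∈ A, ∀ b ∈ A, a * b = b * a) :
    (Nat.card A : K) ≠ 0 := by
  intro h0
  rw [CharP.cast_eq_zero_iff K c] at h0
  let P : Subgroup H :=
    { carrier := {a | a ∈ A ∧ ∃ k : ℕ, a ^ c ^ k = 1}
      one_mem' := ⟨one_mem _, 0, one_pow _⟩
      mul_mem' := by
        rintro a b ⟨ha, k, hk⟩ ⟨hb, l, hl⟩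
        refine ⟨mul_mem ha hb, k + l, ?_⟩
        rw [(show Commute a b from hab a ha b hb).mul_pow, pow_add, pow_mul, hk, one_pow, one_mul,
          mul_comm, pow_mul, hl, one_pow]
      inv_mem' := by
        rintro a ⟨ha, k, hk⟩
        exact ⟨inv_mem ha, k, by rw [inv_pow, hk, inv_one]⟩ }
  haveI : P.Normal := ⟨fun a ⟨ha, k, hk⟩ g => ⟨hA.conj_mem a ha g, k, by rw [conj_pow, hk]; group⟩⟩
  have hP : IsPGroup c P := fun a => a.2.2.imp fun k hk => Subtype.ext hk
  have hbot := eq_bot_of_isPGroup hψ hirr hP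
  obtain ⟨a, ha⟩ := exists_prime_orderOf_dvd_card' (G := A) c h0
  have : (a : H) ∈ P := ⟨a.2, 1, by
    rw [pow_one, ← ha]; exact congrArg Subtype.val (pow_orderOf_eq_one a)⟩
  rw [hbot, Subgroup.mem_bot] at this
  rw [(Subtype.ext this : a = 1), orderOf_one] at ha
  exact hc.out.one_lt.ne ha

include hc in
theorem mem_top_of_two_normal {H : Type w} [Group H] [Finite H] (N₁ N₂ : Subgroup H)
    [N₁.Normal] [N₂.Normal] (hker : IsPGroup c (N₁ ⊓ N₂ : Subgroup H)) {t : H}
    (h₁ : QuotientGroup.mk' N₁ t ∈ Top c (H ⧸ N₁)) (h₂ : QuotientGroup.mk' N₂ t ∈ Top c (H ⧸ N₂)) :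
    t ∈ Top c H := by
  let f : Bool → Subgroup H := fun i => cond i N₁ N₂
  haveI hn : ∀ i, (f i).Normal := fun i => by cases i <;> assumption
  refine mem_top_of_family (Q := fun i => H ⧸ f i) (fun i => QuotientGroup.mk' (f i)) ?_ fun i => ?_
  · refine hker.to_le fun z hz => ?_
    have h := Subgroup.mem_iInf.1 hz
    have h1 := h true
    have h2 := h false
    rw [QuotientGroup.ker_mk'] at h1 h2
    exact ⟨h1, h2⟩
  · cases i
    · exact h₂
    · exact h₁

variable [IsAlgClosed K]

theorem mem_top_of_good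
    (Good : ∀ (V : Type v) [AddCommGroup V] [Module K V], ℕ → Module.End K V → Prop)
    (hG : Closed Good)
    (hprim : ∀ {V : Type v} [AddCommGroup V] [Module K V] [FiniteDimensional K V] [Nontrivial V]
      {H : Type w} [Group H] [Finite H], Group.IsSolvable H → ∀ ψ : H →* Module.End K V,
      Function.Injective ψ →
      (∀ U : Submodule K V, (∀ g, ∀ v ∈ U, ψ g v ∈ U) → U = ⊥ ∨ U = ⊤) →
      (∀ A : Subgroup H, A.Normal → (∀ a ∈ A, ∀ b ∈ A, a * b = b * a) →
        ∀ a ∈ A, ∃ r : K, ψ a = r • 1) →
      ∀ (x : H) (e : ℕ), Good V e (ψ x) → x ^ 2 ^ (e - 1) ∈ Top c H) :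
    ∀ (b : ℕ) {V : Type v} [AddCommGroup V] [Module K V] [FiniteDimensional K V],
      finrank K V ≤ b → ∀ {H : Type w} [Group H] [Finite H], Group.IsSolvable H →
      ∀ ψ : H →* Module.End K V, Function.Injective ψ →
      ∀ (x : H) (e : ℕ), Good V e (ψ x) → x ^ 2 ^ (e - 1) ∈ Top c H := by
  intro b
  induction b with
  | zero =>
    intro V _ _ _ hd H _ _ _ ψ hψ x e _
    haveI : Subsingleton V := Module.finrank_zero_iff.1 (Nat.le_zero.1 hd)
    have : x ^ 2 ^ (e - 1) = 1 := hψ (LinearMap.ext fun v => Subsingleton.elim _ _)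
    rw [this]
    exact one_mem _
  | succ b ih =>
    intro V _ _ _ hd H _ _ hsol ψ hψ x e hx
    rcases subsingleton_or_nontrivial V with hV | hV
    · have : x ^ 2 ^ (e - 1) = 1 := hψ (LinearMap.ext fun v => Subsingleton.elim _ _)
      rw [this]
      exact one_mem _
    by_cases hirr : ∀ U : Submodule K V, (∀ g, ∀ v ∈ U, ψ g v ∈ U) → U = ⊥ ∨ U = ⊤
    swap
    · push Not at hirr
      obtain ⟨U, hU, hUb, hUt⟩ := hirr
      -- the two constituents
      have hlt1 : finrank K U ≤ b := by
        have := Submodule.finrank_lt hUt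
        omega
      have hlt2 : finrank K (V ⧸ U) ≤ b := by
        have h1 := U.finrank_quotient_add_finrank
        have h2 : 0 < finrank K U := Nat.pos_of_ne_zero fun h => hUb (Submodule.finrank_eq_zero.1 h)
        omega
      set ψ₁ := subRep ψ U hU with hψ₁
      set ψ₂ := quotRep ψ U hU with hψ₂
      refine mem_top_of_two_normal ψ₁.ker ψ₂.ker ?_ ?_ ?_
      · intro z
        obtain ⟨h1, h2⟩ := Subgroup.mem_inf.1 z.2
        refine ⟨1, Subtype.ext (hψ ?_)⟩
        have hsq : (ψ (z : H) - 1) ^ 2 = 0 := LinearMap.ext fun v => by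
          have h3 : ψ (z : H) v - v ∈ U := by
            have := LinearMap.congr_fun (MonoidHom.mem_ker.1 h2) (Submodule.Quotient.mk v)
            exact (Submodule.Quotient.eq U).1 this
          have h4 : ψ (z : H) (ψ (z : H) v - v) = ψ (z : H) v - v :=
            congrArg Subtype.val (LinearMap.congr_fun (MonoidHom.mem_ker.1 h1) ⟨_, h3⟩)
          rw [pow_two, Module.End.mul_apply, LinearMap.sub_apply, LinearMap.sub_apply,
            Module.End.one_apply, Module.End.one_apply, h4, sub_self, LinearMap.zero_apply]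
        haveI : CharP (Module.End K V) c :=
          charP_of_injective_algebraMap (FaithfulSMul.algebraMap_injective K _) c
        have h5 : (ψ (z : H) - 1) ^ c = 0 := pow_eq_zero_of_le hc.out.two_le hsq
        rw [sub_pow_char_of_commute c (Commute.one_right _), one_pow, sub_eq_zero] at h5
        rw [SubmonoidClass.coe_pow, map_pow, pow_one, h5, OneMemClass.coe_one, map_one]
      · haveI : Group.IsSolvable (H ⧸ ψ₁.ker) :=
          Group.isSolvable_of_surjective (QuotientGroup.mk'_surjective _)
        rw [map_pow]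
        exact ih (V := U) hlt1 (H := H ⧸ ψ₁.ker) inferInstance (kerLift' ψ₁)
            (kerLift'_injective ψ₁) (QuotientGroup.mk' ψ₁.ker x) e (show Good U e (ψ₁ x) from hG.restrict hx U (hU x))
      · haveI : Group.IsSolvable (H ⧸ ψ₂.ker) :=
          Group.isSolvable_of_surjective (QuotientGroup.mk'_surjective _)
        rw [map_pow]
        exact ih (V := V ⧸ U) hlt2 (H := H ⧸ ψ₂.ker) inferInstance (kerLift' ψ₂)
            (kerLift'_injective ψ₂) (QuotientGroup.mk' ψ₂.ker x) e (show Good _ e (ψ₂ x) from hG.quotient hx U (hU x))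
    by_cases hsc : ∀ A : Subgroup H, A.Normal → (∀ a ∈ A, ∀ b ∈ A, a * b = b * a) →
        ∀ a ∈ A, ∃ r : K, ψ a = r • 1
    · exact hprim hsol ψ hψ hirr hsc x e hx
    push Not at hsc
    obtain ⟨A, hAn, hab, a₀, ha₀, ha₀s⟩ := hsc
    haveI := hAn
    classical
    cases nonempty_fintype A
    have hAK : (Fintype.card A : K) ≠ 0 := by
      rw [← Nat.card_eq_fintype_card]
      exact card_ne_zero_of_commutative hψ hirr hab
    -- eigenspaces of the characters of `A`
    let Vs : (A →* K) → Submodule K V := fun μ =>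
      { carrier := {v | ∀ a : A, ψ a v = μ a • v}
        add_mem' := fun {v w} hv hw a => by rw [map_add, hv a, hw a, smul_add]
        zero_mem' := fun a => by rw [map_zero, smul_zero]
        smul_mem' := fun r v hv a => by rw [map_smul, hv a, smul_comm] }
    let actc : H → (A →* K) → (A →* K) := fun g μ =>
      μ.comp (MulAut.conjNormal g⁻¹ : MulAut A).toMonoidHom
    have hactc : ∀ g μ (a : A), actc g μ a = μ (MulAut.conjNormal g⁻¹ a) := fun g μ a => rfl
    have hmap : ∀ g μ, ∀ v ∈ Vs μ, ψ g v ∈ Vs (actc g μ) := by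
      intro g μ v hv a
      rw [hactc, ← map_smul, ← hv, ← Module.End.mul_apply, ← map_mul, ← Module.End.mul_apply,
        ← map_mul, MulAut.conjNormal_apply]
      congr 2
      group
    have hactmul : ∀ g g' μ, actc (g * g') μ = actc g (actc g' μ) := fun g g' μ =>
      MonoidHom.ext fun a => by
        rw [hactc, hactc, hactc, mul_inv_rev, map_mul, MulAut.mul_apply]
    have hactone : ∀ μ, actc 1 μ = μ := fun μ => MonoidHom.ext fun a => by
      rw [hactc, inv_one, map_one, MulAut.one_apply]
    let e0 : (A →* K) → Module.End K V := fun μ =>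
      (Fintype.card A : K)⁻¹ • ∑ a : A, μ a⁻¹ • ψ a
    have he0 : ∀ μ ν, ∀ v ∈ Vs ν, e0 μ v = if μ = ν then v else 0 := by
      intro μ ν v hv
      let χ : A →* K :=
        { toFun := fun a => μ a⁻¹ * ν a
          map_one' := by simp
          map_mul' := fun p q => by
            rw [mul_inv_rev, map_mul, map_mul]
            ring }
      have h1 : e0 μ v = ((Fintype.card A : K)⁻¹ * ∑ a, χ a) • v := by
        simp only [e0, LinearMap.smul_apply, LinearMap.sum_apply]
        rw [mul_smul, Finset.sum_smul]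
        congr 1
        refine Finset.sum_congr rfl fun a _ => ?_
        rw [hv a, smul_smul]
        rfl
      rw [h1]
      split_ifs with h
      · subst h
        have : ∀ a, χ a = 1 := fun a => by
          show μ a⁻¹ * μ a = 1
          rw [← map_mul, inv_mul_cancel, map_one]
        simp [this, inv_mul_cancel₀ hAK]
      · rw [sum_hom_units_eq_zero χ, mul_zero, zero_smul]
        intro hh
        refine h (MonoidHom.ext fun a => ?_)
        have h2 : μ a⁻¹ * ν a = 1 := DFunLike.congr_fun hh a
        have h3 : μ a * μ a⁻¹ = 1 := by rw [← map_mul, mul_inv_cancel, map_one]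
        calc μ a = μ a * (μ a⁻¹ * ν a) := by rw [h2, mul_one]
          _ = ν a := by rw [← mul_assoc, h3, one_mul]
    -- some eigenspace is nonzero
    obtain ⟨μ₀, hμ₀⟩ : ∃ μ, Vs μ ≠ ⊥ := by
      obtain ⟨S, hS⟩ := exists_minimal_of_wellFoundedLT
        (fun W : Submodule K V => W ≠ ⊥ ∧ ∀ a : A, ∀ v ∈ W, ψ a v ∈ W)
        ⟨⊤, top_ne_bot, fun _ _ _ => Submodule.mem_top⟩
      obtain ⟨hSne, hSinv⟩ := hS.prop
      haveI : Nontrivial S := Submodule.nontrivial_iff_ne_bot.2 hSne
      have hSirr : ∀ W : Submodule K S, (∀ a : A, ∀ w ∈ W, subRep (ψ.comp A.subtype) S hSinv a w ∈ W) →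
          W = ⊥ ∨ W = ⊤ := by
        intro W hW
        by_cases hWb : W = ⊥
        · exact Or.inl hWb
        right
        have h1 := hS.2 (y := W.map S.subtype) ⟨fun h => hWb (Submodule.map_injective_of_injective
            S.injective_subtype (h.trans (Submodule.map_bot _).symm)), by
          rintro a _ ⟨w, hw, rfl⟩
          exact ⟨_, hW a w hw, rfl⟩⟩ (Submodule.map_subtype_le _ _)
        exact Submodule.map_injective_of_injective S.injective_subtype
          ((le_antisymm (Submodule.map_subtype_le _ _) h1).trans (Submodule.map_subtype_top S).symm)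
      have hsc' : ∀ a : A, ∃ r : K, subRep (ψ.comp A.subtype) S hSinv a = r • 1 := fun a =>
        CfsgLib.HallHigman.exists_eq_smul_one_of_commute _ hSirr _ fun a' => by
          show subRep (ψ.comp A.subtype) S hSinv a * subRep (ψ.comp A.subtype) S hSinv a' = _
          rw [← map_mul, ← map_mul]
          exact congrArg _ (Subtype.ext (hab a a.2 a' a'.2))
      choose μ hμ using hsc'
      have hinj : ∀ r r' : K, r • (1 : Module.End K S) = r' • 1 → r = r' := fun r r' h =>
        smul_left_injective K (one_ne_zero (α := Module.End K S)) h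
      refine ⟨⟨⟨μ, hinj _ _ (by rw [← hμ, map_one, one_smul])⟩,
        fun p q => hinj _ _ (by rw [← hμ, map_mul, hμ, hμ, smul_mul_smul_comm, one_mul])⟩, ?_⟩
      obtain ⟨v, hv, hv0⟩ := Submodule.exists_mem_ne_zero_of_ne_bot hSne
      refine fun h => hv0 ((Submodule.mem_bot K).1 (h ▸ ?_))
      intro a
      exact congrArg Subtype.val (LinearMap.congr_fun (hμ a) ⟨v, hv⟩)
    have hsum : ⨆ μ, Vs μ = ⊤ := by
      refine (hirr _ fun g => ?_).resolve_left fun h => hμ₀ (le_bot_iff.1 (h ▸ le_iSup Vs μ₀))
      intro v hv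
      have : (⨆ μ, Vs μ) ≤ (⨆ μ, Vs μ).comap (ψ g) := iSup_le fun μ w hw =>
        Submodule.mem_iSup_of_mem (actc g μ) (hmap g μ w hw)
      exact this hv
    have hproper : ∀ μ, finrank K (Vs μ) ≤ b := fun μ => by
      have h : Vs μ ≠ ⊤ := fun h => ha₀s (μ ⟨a₀, ha₀⟩) (LinearMap.ext fun v => by
        exact (show v ∈ Vs μ from h ▸ Submodule.mem_top) ⟨a₀, ha₀⟩)
      have := Submodule.finrank_lt h
      omega
    -- the base
    let B : Subgroup H :=
      { carrier := {g | ∀ μ, Vs μ ≠ ⊥ → actc g μ = μ}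
        one_mem' := fun μ _ => hactone μ
        mul_mem' := fun {g g'} hg hg' μ hμ => by rw [hactmul, hg' μ hμ, hg μ hμ]
        inv_mem' := fun {g} hg μ hμ => by
          conv_lhs => rw [← hg μ hμ]
          rw [← hactmul, inv_mul_cancel, hactone] }
    have hne_act : ∀ g μ, Vs μ ≠ ⊥ → Vs (actc g μ) ≠ ⊥ := by
      intro g μ hμ h
      obtain ⟨v, hv, hv0⟩ := Submodule.exists_mem_ne_zero_of_ne_bot hμ
      have h1 := hmap g μ v hv
      rw [h, Submodule.mem_bot] at h1
      refine hv0 ?_
      have h2 := congrArg (ψ g⁻¹) h1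
      rwa [map_zero, ← Module.End.mul_apply, ← map_mul, inv_mul_cancel, map_one,
        Module.End.one_apply] at h2
    haveI hBn : B.Normal := ⟨fun y hy g μ hμ => by
      rw [mul_assoc, hactmul, hactmul, hy _ (hne_act _ _ hμ), ← hactmul, mul_inv_cancel, hactone]⟩
    -- the orbit on one character
    have hxe : x ^ 2 ^ e = 1 := hψ (by rw [map_pow, hG.pow_eq hx, map_one])
    have horb : ∀ μ, Vs μ ≠ ⊥ → ∃ (j : ℕ) (h : ∀ v ∈ Vs μ, (ψ x ^ 2 ^ j) v ∈ Vs μ),
        actc (x ^ 2 ^ j) μ = μ ∧ j < e ∧ (Good (Vs μ) (e - j) ((ψ x ^ 2 ^ j).restrict h) ∨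
          ∃ r : K, ∀ v ∈ Vs μ, (ψ x ^ 2 ^ (e - 1)) v = r • v) := by
      intro μ hμ
      let St : Subgroup H :=
        { carrier := {g | actc g μ = μ}
          one_mem' := hactone μ
          mul_mem' := fun {g g'} (hg : actc g μ = μ) (hg' : actc g' μ = μ) => by
            show actc (g * g') μ = μ
            rw [hactmul, hg', hg]
          inv_mem' := fun {g} (hg : actc g μ = μ) => by
            show actc g⁻¹ μ = μ
            conv_lhs => rw [← hg]
            rw [← hactmul, inv_mul_cancel, hactone] }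
      have hexj : ∃ j, x ^ 2 ^ j ∈ St := ⟨e, by rw [hxe]; exact one_mem _⟩
      set j := Nat.find hexj with hj
      have hje : j ≤ e := Nat.find_le (by rw [hxe]; exact one_mem _)
      have hmem : ∀ v ∈ Vs μ, (ψ x ^ 2 ^ j) v ∈ Vs μ := fun v hv => by
        rw [← map_pow]
        have := hmap (x ^ 2 ^ j) μ v hv
        rwa [show actc (x ^ 2 ^ j) μ = μ from Nat.find_spec hexj] at this
      refine ⟨j, hmem, Nat.find_spec hexj, hG.orbit hx (Vs μ) hμ j hje (e0 μ) (fun v hv => by
        rw [he0 μ μ v hv, if_pos rfl]) (fun i _ hdvd v hv => ?_) hmem⟩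
      rw [← map_pow, he0 μ _ _ (hmap (x ^ i) μ v hv), if_neg]
      intro h
      have hi : x ^ i ∈ St := h.symm
      obtain ⟨l, hl, hgcd⟩ := (Nat.dvd_prime_pow Nat.prime_two).1 (Nat.gcd_dvd_right i (2 ^ e))
      have hmeml : x ^ 2 ^ l ∈ St := by
        rw [← hgcd, ← zpow_natCast, Nat.gcd_eq_gcd_ab, zpow_add, zpow_mul, zpow_mul, zpow_natCast,
          zpow_natCast, hxe, one_zpow, mul_one]
        exact zpow_mem hi _
      refine hdvd ((pow_dvd_pow 2 (Nat.find_le hmeml : j ≤ l)).trans ?_)
      rw [← hgcd]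
      exact Nat.gcd_dvd_left _ _
    have htB : x ^ 2 ^ (e - 1) ∈ B := by
      intro μ hμ
      obtain ⟨j, -, hst, hje, -⟩ := horb μ hμ
      have hk : ∀ k : ℕ, actc ((x ^ 2 ^ j) ^ k) μ = μ := by
        intro k
        induction k with
        | zero => rw [pow_zero]; exact hactone μ
        | succ k ih' => rw [pow_succ, hactmul, hst, ih']
      have := hk (2 ^ (e - 1 - j))
      rwa [← pow_mul, ← pow_add, show j + (e - 1 - j) = e - 1 by omega] at this
    refine mem_top_of_normal (B := B) (t := ⟨_, htB⟩) ?_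
    -- each eigenspace
    let I := {μ : A →* K // Vs μ ≠ ⊥}
    have hBinv : ∀ μ : I, ∀ g : B, ∀ v ∈ Vs μ.1, (ψ.comp B.subtype) g v ∈ Vs μ.1 := fun μ g v hv => by
      have := hmap (g : H) μ.1 v hv
      rwa [g.2 μ.1 μ.2] at this
    let F : ∀ μ : I, B →* Module.End K (Vs μ.1) := fun μ => subRep (ψ.comp B.subtype) (Vs μ.1) (hBinv μ)
    refine mem_top_of_family (Q := fun μ : I => B ⧸ (F μ).ker) (fun μ => QuotientGroup.mk' _) ?_ ?_
    · intro z
      refine ⟨0, Subtype.ext ?_⟩
      rw [pow_zero, pow_one, Subgroup.coe_one]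
      refine Subtype.ext (hψ (LinearMap.ext fun v => ?_))
      rw [Subgroup.coe_one, map_one, Module.End.one_apply]
      have hle : (⊤ : Submodule K V) ≤ LinearMap.ker (ψ ((z : B) : H) - 1) := by
        rw [← hsum]
        refine iSup_le fun μ w hw => ?_
        rw [LinearMap.mem_ker, LinearMap.sub_apply, Module.End.one_apply, sub_eq_zero]
        by_cases hμ : Vs μ = ⊥
        · rw [hμ, Submodule.mem_bot] at hw
          rw [hw, map_zero]
        · have h1 := Subgroup.mem_iInf.1 z.2 (⟨μ, hμ⟩ : I)
          rw [QuotientGroup.ker_mk'] at h1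
          exact congrArg Subtype.val (LinearMap.congr_fun (MonoidHom.mem_ker.1 h1) ⟨w, hw⟩)
      have := hle (Submodule.mem_top : v ∈ (⊤ : Submodule K V))
      rwa [LinearMap.mem_ker, LinearMap.sub_apply, Module.End.one_apply, sub_eq_zero] at this
    · rintro ⟨μ, hμ⟩
      obtain ⟨j, hmem, hst, hje, hor⟩ := horb μ hμ
      let St : Subgroup H :=
        { carrier := {g | actc g μ = μ}
          one_mem' := hactone μ
          mul_mem' := fun {g g'} (hg : actc g μ = μ) (hg' : actc g' μ = μ) => by
            show actc (g * g') μ = μ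
            rw [hactmul, hg', hg]
          inv_mem' := fun {g} (hg : actc g μ = μ) => by
            show actc g⁻¹ μ = μ
            conv_lhs => rw [← hg]
            rw [← hactmul, inv_mul_cancel, hactone] }
      have hSt : ∀ g : St, ∀ v ∈ Vs μ, (ψ.comp St.subtype) g v ∈ Vs μ := fun g v hv => by
        have := hmap (g : H) μ v hv
        rwa [show actc (g : H) μ = μ from g.2] at this
      set Φ := subRep (ψ.comp St.subtype) (Vs μ) hSt with hΦ
      let incl : B →* St := Subgroup.inclusion fun g hg => hg μ hμ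
      have hkereq : (F ⟨μ, hμ⟩).ker = ((QuotientGroup.mk' Φ.ker).comp incl).ker := by
        rw [← MonoidHom.comap_ker, QuotientGroup.ker_mk', MonoidHom.comap_ker]
        rfl
      let g : B ⧸ (F ⟨μ, hμ⟩).ker →* St ⧸ Φ.ker :=
        QuotientGroup.lift _ ((QuotientGroup.mk' Φ.ker).comp incl) hkereq.le
      refine mem_top_of_injective g ?_ ?_
      · rw [injective_iff_map_eq_one]
        intro y hy
        induction y using QuotientGroup.induction_on with
        | _ y =>
          rw [QuotientGroup.eq_one_iff, hkereq]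
          exact hy
      set xs : St := ⟨x ^ 2 ^ j, hst⟩
      have himg : g (QuotientGroup.mk' _ (⟨_, htB⟩ : B)) =
          (xs : St ⧸ Φ.ker) ^ 2 ^ (e - j - 1) := by
        show ((incl ⟨_, htB⟩ : St) : St ⧸ Φ.ker) = _
        rw [← QuotientGroup.mk_pow]
        refine congrArg _ (Subtype.ext ?_)
        show x ^ 2 ^ (e - 1) = ((xs ^ 2 ^ (e - j - 1) : St) : H)
        rw [SubmonoidClass.coe_pow]
        show x ^ 2 ^ (e - 1) = (x ^ 2 ^ j) ^ 2 ^ (e - j - 1)
        rw [← pow_mul, ← pow_add]
        congr 2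
        omega
      rw [himg]
      haveI : Group.IsSolvable St := inferInstance
      haveI : Group.IsSolvable (St ⧸ Φ.ker) :=
        Group.isSolvable_of_surjective (QuotientGroup.mk'_surjective _)
      rcases hor with hgood | ⟨r, hr⟩
      · refine ih (hproper μ) inferInstance (kerLift' Φ)
          (kerLift'_injective Φ) (xs : St ⧸ Φ.ker) (e - j) ?_
        convert hgood using 1
        refine LinearMap.ext fun v => Subtype.ext ?_
        show ψ (x ^ 2 ^ j) (v : V) = (ψ x ^ 2 ^ j) (v : V)
        rw [map_pow]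
      · set y := (xs : St ⧸ Φ.ker) ^ 2 ^ (e - j - 1) with hy
        have hyc : ∀ z : St ⧸ Φ.ker, z * y = y * z := by
          intro z
          induction z using QuotientGroup.induction_on with
          | _ z =>
            refine (kerLift'_injective Φ) ?_
            rw [map_mul, map_mul]
            have h1 : kerLift' Φ y = r • 1 := by
              refine LinearMap.ext fun v => Subtype.ext ?_
              rw [hy, ← QuotientGroup.mk_pow]
              show ψ ((xs ^ 2 ^ (e - j - 1) : St) : H) (v : V) = r • (v : V)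
              rw [SubmonoidClass.coe_pow, show ((xs : St) : H) = x ^ 2 ^ j from rfl, ← pow_mul,
                ← pow_add, show j + (e - j - 1) = e - 1 by omega, map_pow]
              exact hr v v.2
            rw [h1, mul_smul_comm, mul_one, smul_mul_assoc, one_mul]
        haveI : (Subgroup.zpowers y).Normal := ⟨fun z hz g => by
          obtain ⟨k, rfl⟩ := Subgroup.mem_zpowers_iff.1 hz
          rw [(show Commute g y from hyc g).zpow_right k |>.eq, mul_inv_cancel_right]
          exact Subgroup.zpow_mem_zpowers y k⟩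
        refine mem_top_of_class_two (D := Subgroup.zpowers y) ?_ (Subgroup.mem_zpowers y)
        intro p hp q hq z _
        obtain ⟨k, rfl⟩ := Subgroup.mem_zpowers_iff.1 hp
        obtain ⟨l, rfl⟩ := Subgroup.mem_zpowers_iff.1 hq
        rw [commutatorElement_eq_one_iff_mul_comm.2 ((Commute.refl y).zpow_zpow k l).eq]
        exact Commute.one_left z

end CfsgLib.FGS74.GrossLen
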