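import Cfsg.Agent.FGS74.GrossLen.Count
import Cfsg.Agent.FGS74.GrossLen.Prim
import Cfsg.Agent.FGS74.GrossLen.Reduce

/-!
# Elements of order `r + 1` moving a plane, in characteristic `r`

If `X` satisfies `(X - 1) (X - l) (X - l⁻¹) = 0` with `l` of order `2 ^ e = r + 1` and both nontrivial
eigenspaces are at most lines, then `x ^ 2 ^ (e - 1)` lies in `Top r H`.
-/

set_option autoImplicit false
set_option linter.style.haveILetI false

open Module

namespace CfsgLib.FGS74.GrossLen

universe u v w

variable {K : Type u} [Field K]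

/-- The operators considered. -/
def LGood (r : ℕ) (V : Type v) [AddCommGroup V] [Module K V] (e : ℕ) (X : Module.End K V) : Prop :=
  2 ≤ e ∧ 2 ^ e = r + 1 ∧ X ^ 2 ^ e = 1 ∧ ∃ l : K, l ^ 2 ^ (e - 1) = -1 ∧
    (∀ v, X (X (X v)) - (1 + l + l⁻¹) • X (X v) + (1 + l + l⁻¹) • X v - v = 0) ∧
    finrank K (LinearMap.ker (X - l • 1)) ≤ 1 ∧ finrank K (LinearMap.ker (X - l⁻¹ • 1)) ≤ 1

section

variable {r : ℕ}

theorem neg_one_ne_one' [CharP K r] [hr : Fact r.Prime] (hr2 : r ≠ 2) : (-1 : K) ≠ 1 := by
  haveI : Fact (2 < r) := ⟨lt_of_le_of_ne hr.out.two_le (Ne.symm hr2)⟩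
  exact CharP.neg_one_ne_one K r

/-- What is needed about the eigenvalue. -/
theorem root_facts [CharP K r] [Fact r.Prime] (hr2 : r ≠ 2) {e : ℕ} (he : 2 ≤ e) {l : K}
    (hl : l ^ 2 ^ (e - 1) = -1) :
    l ≠ 0 ∧ l ≠ 1 ∧ l ≠ -1 ∧ l ≠ l⁻¹ ∧ (3 ≤ e → l * l ≠ -1) ∧ (e = 2 → l * l = -1) := by
  have h1 := neg_one_ne_one' (K := K) hr2
  have hev : 2 ^ (e - 1) = 2 * 2 ^ (e - 2) := by rw [← pow_succ']; congr 1; omega
  have hsq : l * l ≠ 1 := fun h => by
    rw [hev, pow_mul, pow_two, h, one_pow] at hl
    exact h1 hl.symm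
  have h0 : l ≠ 0 := fun h => by
    rw [h, zero_pow (pow_pos two_pos _).ne'] at hl
    exact neg_ne_zero.2 one_ne_zero hl.symm
  refine ⟨h0, fun h => hsq (by rw [h, one_mul]), fun h => hsq (by rw [h]; ring), fun h => hsq ?_,
    fun he3 h => ?_, fun he2 => ?_⟩
  · conv_lhs => arg 2; rw [h]
    exact mul_inv_cancel₀ h0
  · rw [hev, pow_mul, pow_two, h, show 2 ^ (e - 2) = 2 * 2 ^ (e - 3) by
      rw [← pow_succ']; congr 1; omega, pow_mul, neg_one_sq, one_pow] at hl
    exact h1 hl.symm
  · rw [hev, he2, pow_mul, pow_two] at hl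
    simpa using hl

variable {V : Type v} [AddCommGroup V] [Module K V]

theorem cubic_eigen {X : Module.End K V} {l m : K} {v : V} (h0 : l ≠ 0) (hv : X v = m • v)
    (hX : X (X (X v)) - (1 + l + l⁻¹) • X (X v) + (1 + l + l⁻¹) • X v - v = 0) :
    ((m - 1) * ((m - l) * (m - l⁻¹))) • v = 0 := by
  have h2 : X (X v) = (m * m) • v := by rw [hv, map_smul, hv, smul_smul]
  have h3 : X (X (X v)) = (m * m * m) • v := by rw [h2, map_smul, hv, smul_smul]
  rw [h3, h2, hv, smul_smul, smul_smul] at hX
  rw [← hX, show (m - 1) * ((m - l) * (m - l⁻¹)) =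
      m * m * m - (1 + l + l⁻¹) * (m * m) + (1 + l + l⁻¹) * m - 1 by
    linear_combination (1 - m) * (-mul_inv_cancel₀ h0)]
  rw [sub_smul, add_smul, sub_smul, one_smul]

theorem cubic_factor {X : Module.End K V} {l : K} (h0 : l ≠ 0)
    (hX : ∀ v, X (X (X v)) - (1 + l + l⁻¹) • X (X v) + (1 + l + l⁻¹) • X v - v = 0) :
    (X - 1) * ((X - l • 1) * (X - l⁻¹ • 1)) = 0 := by
  refine LinearMap.ext fun v => ?_
  rw [LinearMap.zero_apply, ← hX v]
  simp only [Module.End.mul_apply, LinearMap.sub_apply, Module.End.one_apply, LinearMap.smul_apply,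
    map_sub, map_smul, smul_sub, smul_smul]
  match_scalars <;> field_simp <;> ring

theorem restrict_pow_apply {X : Module.End K V} {U : Submodule K V} (hU : ∀ v ∈ U, X v ∈ U) (i : ℕ)
    (v : U) : ((X.restrict hU ^ i) v : V) = (X ^ i) (v : V) := by
  induction i with
  | zero => rfl
  | succ i ih =>
    rw [pow_succ', pow_succ', Module.End.mul_apply, Module.End.mul_apply, ← ih]
    rfl

theorem lGood_closed (r : ℕ) [CharP K r] [Fact r.Prime] (hr2 : r ≠ 2) :
    Closed (K := K) (LGood.{u, v} r) where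
  pow_eq h := h.2.2.1
  restrict := by
    intro V _ _ _ e X hX U hU
    obtain ⟨he, hre, hpow, l, hl, hc, h1, h2⟩ := hX
    have hker : ∀ m : K, finrank K (LinearMap.ker (X - m • 1)) ≤ 1 →
        finrank K (LinearMap.ker (X.restrict hU - m • 1)) ≤ 1 := by
      intro m hm
      refine le_trans ?_ hm
      let f : LinearMap.ker (X.restrict hU - m • 1) →ₗ[K] LinearMap.ker (X - m • 1) :=
        (U.subtype.comp (Submodule.subtype _)).codRestrict _ fun v => by
          have h := congrArg Subtype.val (LinearMap.mem_ker.1 v.2)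
          exact LinearMap.mem_ker.2 h
      refine LinearMap.finrank_le_finrank_of_injective (f := f) fun a b hab => ?_
      exact Subtype.ext (Subtype.ext (congrArg Subtype.val hab :))
    refine ⟨he, hre, ?_, l, hl, fun v => Subtype.ext (hc v), hker _ h1, hker _ h2⟩
    exact LinearMap.ext fun v => Subtype.ext
      ((restrict_pow_apply hU _ v).trans (LinearMap.congr_fun hpow (v : V)))
  quotient := by
    intro V _ _ _ e X hX U hU
    obtain ⟨he, hre, hpow, l, hl, hc, h1, h2⟩ := hX
    obtain ⟨h0, hl1, -, hll, -, -⟩ := root_facts (K := K) hr2 he hl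
    set Y := U.mapQ U X hU with hY
    have hker : ∀ a b : K, a ≠ 1 → a ≠ b → (X - a • 1) * ((X - 1) * (X - b • 1)) = 0 →
        finrank K (LinearMap.ker (X - a • 1)) ≤ 1 → finrank K (LinearMap.ker (Y - a • 1)) ≤ 1 := by
      intro a b ha1 hab hz hm
      refine le_trans ?_ hm
      let f : LinearMap.ker (X - a • 1) →ₗ[K] LinearMap.ker (Y - a • 1) :=
        (U.mkQ.comp (Submodule.subtype _)).codRestrict _ fun v => by
          have h := congrArg U.mkQ (LinearMap.mem_ker.1 v.2)
          rw [map_zero] at h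
          exact LinearMap.mem_ker.2 h
      refine LinearMap.finrank_le_finrank_of_surjective (f := f) fun w => ?_
      obtain ⟨v, hv⟩ := U.mkQ_surjective (w : V ⧸ U)
      have hY' : ∀ u, Y (U.mkQ u) = U.mkQ (X u) := fun u => rfl
      have he' : Y (U.mkQ v) = a • U.mkQ v := by
        rw [hv]; exact sub_eq_zero.1 (LinearMap.mem_ker.1 w.2)
      have hmv : ((X - 1) * (X - b • 1)) v ∈ LinearMap.ker (X - a • 1) := by
        rw [LinearMap.mem_ker, ← Module.End.mul_apply, hz, LinearMap.zero_apply]
      refine ⟨((a - 1) * (a - b))⁻¹ • ⟨_, hmv⟩, Subtype.ext ?_⟩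
      rw [map_smul]
      show ((a - 1) * (a - b))⁻¹ • U.mkQ (((X - 1) * (X - b • 1)) v) = w
      have h4 : U.mkQ (((X - 1) * (X - b • 1)) v) = ((a - 1) * (a - b)) • U.mkQ v := by
        simp only [Module.End.mul_apply, LinearMap.sub_apply, Module.End.one_apply,
          LinearMap.smul_apply, map_sub, map_smul, ← hY', he', smul_smul]
        module
      rw [h4, smul_smul, inv_mul_cancel₀ (mul_ne_zero (sub_ne_zero.2 ha1) (sub_ne_zero.2 hab)),
        one_smul, hv]
    have hfac := cubic_factor h0 hc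
    have hcomm : ∀ a b : K, Commute (X - a • 1) (X - b • 1) := fun a b =>
      ((Commute.refl X).sub_right ((Commute.one_right X).smul_right b)).sub_left
        (((Commute.one_left X).smul_left a).sub_right ((Commute.refl (1 : Module.End K V)).smul_left a |>.smul_right b))
    have hc1 : ∀ a : K, Commute (X - a • 1) (X - 1) := fun a => by simpa using hcomm a 1
    have hinv1 : l⁻¹ ≠ 1 := fun h => hl1 (inv_eq_one.1 h)
    refine ⟨he, hre, ?_, l, hl, fun v => ?_, hker l l⁻¹ hl1 hll ?_ h1,
      hker l⁻¹ l hinv1 hll.symm ?_ h2⟩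
    · refine LinearMap.ext fun v => ?_
      induction v using Submodule.Quotient.induction_on with
      | _ v =>
        have : ∀ i : ℕ, (Y ^ i) (U.mkQ v) = U.mkQ ((X ^ i) v) := by
          intro i
          induction i with
          | zero => rfl
          | succ i ih => rw [pow_succ', pow_succ', Module.End.mul_apply, ih]; rfl
        exact (this _).trans (by rw [hpow]; rfl)
    · induction v using Submodule.Quotient.induction_on with
      | _ v =>
        have := congrArg U.mkQ (hc v)
        rw [map_sub, map_add, map_sub, map_smul, map_smul, map_zero] at this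
        exact this
    · rw [← mul_assoc, (hc1 l).eq, mul_assoc, hfac]
    · rw [(hc1 _).left_comm, (hcomm _ _).eq, hfac]
  orbit := by
    intro V _ _ _ e X hX U hU j hj P hP hPz h
    obtain ⟨he, hre, hpow, l, hl, hc, h1, h2⟩ := hX
    obtain ⟨u, hu, hu0⟩ := Submodule.exists_mem_ne_zero_of_ne_bot hU
    have h4 : 2 ^ 2 ≤ 2 ^ e := Nat.pow_le_pow_right two_pos he
    rcases Nat.eq_zero_or_pos j with rfl | hj0
    · refine ⟨by omega, Or.inl ⟨he, hre, ?_, l, hl, ?_, ?_⟩⟩
      · refine LinearMap.ext fun v => Subtype.ext ((restrict_pow_apply h _ v).trans ?_)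
        show ((X ^ 2 ^ 0) ^ 2 ^ (e - 0)) (v : V) = v
        rw [pow_zero, pow_one, Nat.sub_zero, hpow]; rfl
      · intro v
        refine Subtype.ext ?_
        show (X ^ 1) ((X ^ 1) ((X ^ 1) (v : V))) - (1 + l + l⁻¹) • (X ^ 1) ((X ^ 1) (v : V))
          + (1 + l + l⁻¹) • (X ^ 1) (v : V) - v = 0
        rw [pow_one]
        exact hc v
      · have hker : ∀ m : K, finrank K (LinearMap.ker (X - m • 1)) ≤ 1 →
            finrank K (LinearMap.ker ((X ^ 2 ^ 0).restrict h - m • 1)) ≤ 1 := by
          intro m hm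
          refine le_trans ?_ hm
          let f : LinearMap.ker ((X ^ 2 ^ 0).restrict h - m • 1) →ₗ[K] LinearMap.ker (X - m • 1) :=
            (U.subtype.comp (Submodule.subtype _)).codRestrict _ fun v => by
              have h := congrArg Subtype.val (LinearMap.mem_ker.1 v.2)
              exact LinearMap.mem_ker.2 h
          refine LinearMap.finrank_le_finrank_of_injective (f := f) fun a b hab => ?_
          exact Subtype.ext (Subtype.ext (congrArg Subtype.val hab :))
        exact ⟨hker _ h1, hker _ h2⟩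
    · have hz : ∀ i, i < 4 → ¬ 2 ^ j ∣ i → ∀ v ∈ U, P ((X ^ i) v) = 0 := fun i hi =>
        hPz i (by omega)
      have h2j : 2 ∣ 2 ^ j := dvd_pow_self 2 hj0.ne'
      have hX1 : ∀ v ∈ U, P (X v) = 0 := fun v hv => by
        simpa using hz 1 (by omega) (fun h => by have := h2j.trans h; omega) v hv
      have hX3 : ∀ v ∈ U, P (X (X (X v))) = 0 := fun v hv => by
        simpa [pow_succ', Module.End.mul_apply] using
          hz 3 (by omega) (fun h => by have := h2j.trans h; omega) v hv
      have hrel : ∀ v ∈ U, -((1 + l + l⁻¹) • P (X (X v))) - v = 0 := fun v hv => by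
        have := congrArg P (hc v)
        simpa [hX1 v hv, hX3 v hv, hP v hv] using this
      rcases Nat.lt_or_ge j 2 with hj2 | hj2
      · obtain rfl : j = 1 := by omega
        refine ⟨by omega, Or.inr ?_⟩
        have hX2 : ∀ v ∈ U, X (X v) ∈ U := fun v hv => by
          simpa [pow_succ', Module.End.mul_apply] using h v hv
        set s := 1 + l + l⁻¹ with hs
        have hs0 : s ≠ 0 := fun hs0 => hu0 (by
          have := hrel u hu
          rwa [hs0, zero_smul, neg_zero, zero_sub, neg_eq_zero] at this)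
        have hsq : ∀ v ∈ U, (X ^ 2) v = (-s⁻¹) • v := fun v hv => by
          have := hrel v hv
          rw [hP _ (hX2 v hv), sub_eq_zero] at this
          rw [pow_two, Module.End.mul_apply]
          conv_rhs => rw [← this]
          rw [neg_smul, smul_neg, neg_neg, smul_smul, inv_mul_cancel₀ hs0, one_smul]
        refine ⟨(-s⁻¹) ^ 2 ^ (e - 2), fun v hv => ?_⟩
        rw [show 2 ^ (e - 1) = 2 * 2 ^ (e - 2) by rw [← pow_succ']; congr 1; omega, pow_mul]
        generalize 2 ^ (e - 2) = k
        induction k generalizing v with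
        | zero => simp
        | succ k ih =>
          rw [pow_succ, Module.End.mul_apply, hsq v hv, map_smul, ih v hv, smul_smul,
            pow_succ' (-s⁻¹)]
      · exfalso
        have hX2 : P (X (X u)) = 0 := by
          simpa [pow_succ', Module.End.mul_apply] using hz 2 (by omega) (fun h => by
            have : 2 ^ 2 ∣ 2 := (pow_dvd_pow 2 hj2).trans h
            omega) u hu
        have := hrel u hu
        rw [hX2, smul_zero, neg_zero, zero_sub, neg_eq_zero] at this
        exact hu0 this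

/-- The eigenvalue `-1` of conjugation. -/
theorem finrank_ker_ad_add_le [CharP K r] [Fact r.Prime] (hr2 : r ≠ 2) [FiniteDimensional K V]
    {H : Type w} [Group H] (ψ : H →* Module.End K V) (x : H) {e : ℕ}
    (hX : LGood r V e (ψ x)) :
    (3 ≤ e → finrank K (LinearMap.ker (ad ψ x + 1)) = 0) ∧
      finrank K (LinearMap.ker (ad ψ x + 1)) ≤ 2 := by
  obtain ⟨he, hre, hpow, l, hl, hc, h1, h2⟩ := hX
  obtain ⟨h0, hl1, hlm, hll, hl3, hl2⟩ := root_facts (K := K) hr2 he hl
  set X := ψ x with hXdef
  have hanti : ∀ A ∈ LinearMap.ker (ad ψ x + 1), ∀ (m : K) (v : V), X v = m • v → X (A v) = (-m) • A v := by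
    intro A hA m v hv
    rw [LinearMap.mem_ker, LinearMap.add_apply, Module.End.one_apply, ad_apply,
      add_eq_zero_iff_eq_neg] at hA
    have h3 : X * A = -(A * X) := by
      rw [← neg_mul, ← hA, mul_assoc _ (ψ x⁻¹), hXdef, map_inv_mul, mul_one]
    have := LinearMap.congr_fun h3 v
    rw [Module.End.mul_apply, LinearMap.neg_apply, Module.End.mul_apply, hv, map_smul] at this
    rw [this, neg_smul]
  have hkill : ∀ A ∈ LinearMap.ker (ad ψ x + 1), ∀ (m : K) (v : V), X v = m • v →
      (-m - 1) * ((-m - l) * (-m - l⁻¹)) ≠ 0 → A v = 0 := fun A hA m v hv hne =>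
    (smul_eq_zero.1 (cubic_eigen h0 (hanti A hA m v hv) (hc _))).resolve_left hne
  have hone : ∀ A ∈ LinearMap.ker (ad ψ x + 1), ∀ v, X v = v → A v = 0 := fun A hA v hv => by
    refine hkill A hA 1 v (by rw [hv, one_smul]) (mul_ne_zero ?_ (mul_ne_zero ?_ ?_))
    · intro h
      exact neg_one_ne_one' (K := K) hr2 (sub_eq_zero.1 h)
    · intro h
      exact hlm (sub_eq_zero.1 h).symm
    · intro h
      exact hlm (inv_injective (by rw [← sub_eq_zero.1 h, inv_neg, inv_one]))
  have hfac := cubic_factor h0 hc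
  have hcomm : ∀ a b : K, Commute (X - a • 1) (X - b • 1) := fun a b =>
    ((Commute.refl X).sub_right ((Commute.one_right X).smul_right b)).sub_left
      (((Commute.one_left X).smul_left a).sub_right ((Commute.refl (1 : Module.End K V)).smul_left a |>.smul_right b))
  -- an anticommuting map vanishing on the two nontrivial eigenspaces is zero
  have hzero : ∀ A ∈ LinearMap.ker (ad ψ x + 1), (∀ v, X v = l • v → A v = 0) →
      (∀ v, X v = l⁻¹ • v → A v = 0) → A = 0 := by
    intro A hA hAl hAi
    have p1 : A * ((X - l • 1) * (X - l⁻¹ • 1)) = 0 := LinearMap.ext fun v => hone A hA _ (by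
      exact sub_eq_zero.1 (LinearMap.congr_fun hfac v))
    have p2 : A * ((X - 1) * (X - l⁻¹ • 1)) = 0 := LinearMap.ext fun v => hAl _ (by
      have := LinearMap.congr_fun (show (X - l • 1) * ((X - 1) * (X - l⁻¹ • 1)) = 0 by
        rw [← mul_assoc, show (X - l • 1) * (X - 1) = (X - 1) * (X - l • 1) by
          simpa using (hcomm l 1).eq, mul_assoc, hfac]) v
      exact sub_eq_zero.1 this)
    have p3 : A * ((X - 1) * (X - l • 1)) = 0 := LinearMap.ext fun v => hAi _ (by
      have := LinearMap.congr_fun (show (X - l⁻¹ • 1) * ((X - 1) * (X - l • 1)) = 0 by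
        rw [← mul_assoc, show (X - l⁻¹ • 1) * (X - 1) = (X - 1) * (X - l⁻¹ • 1) by
          simpa using (hcomm l⁻¹ 1).eq, mul_assoc, (hcomm l⁻¹ l).eq, hfac]) v
      exact sub_eq_zero.1 this)
    have d1 : (1 - l) • (A * (X - l⁻¹ • 1)) = 0 := by
      calc _ = A * ((X - l • 1) * (X - l⁻¹ • 1)) - A * ((X - 1) * (X - l⁻¹ • 1)) := by
            simp only [mul_sub, sub_mul, smul_sub, mul_smul_comm, smul_mul_assoc, one_mul, mul_one,
              sub_smul, one_smul, smul_smul]
            module
        _ = 0 := by rw [p1, p2, sub_zero]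
    have d2 : (l - l⁻¹) • (A * (X - 1)) = 0 := by
      calc _ = A * ((X - 1) * (X - l⁻¹ • 1)) - A * ((X - 1) * (X - l • 1)) := by
            simp only [mul_sub, sub_mul, smul_sub, mul_smul_comm, smul_mul_assoc, one_mul, mul_one,
              sub_smul, one_smul, smul_smul]
            module
        _ = 0 := by rw [p2, p3, sub_zero]
    rw [smul_eq_zero, sub_eq_zero] at d1 d2
    have e1 := d1.resolve_left (Ne.symm hl1)
    have e2 := d2.resolve_left hll
    have : (1 - l⁻¹) • A = 0 := by
      calc (1 - l⁻¹) • A = A * (X - l⁻¹ • 1) - A * (X - 1) := by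
            simp only [mul_sub, mul_smul_comm, mul_one, sub_smul, one_smul]; abel
        _ = 0 := by rw [e1, e2, sub_zero]
    exact (smul_eq_zero.1 this).resolve_left (sub_ne_zero.2 fun h => hl1 (inv_eq_one.1 h.symm))
  have hmem : ∀ {m : K} {v : V}, v ∈ LinearMap.ker (X - m • 1) ↔ X v = m • v := fun {m v} => by
    rw [LinearMap.mem_ker, LinearMap.sub_apply, sub_eq_zero]; rfl
  rcases Nat.lt_or_ge e 3 with h3 | h3
  · refine ⟨fun h => absurd h (by omega), ?_⟩
    have hll2 : l * l = -1 := hl2 (by omega)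
    have hinv : l⁻¹ = -l := inv_eq_of_mul_eq_one_right (by rw [mul_neg, hll2, neg_neg])
    let f : LinearMap.ker (ad ψ x + 1) →ₗ[K]
        (LinearMap.ker (X - l • 1) →ₗ[K] LinearMap.ker (X - l⁻¹ • 1)) ×
        (LinearMap.ker (X - l⁻¹ • 1) →ₗ[K] LinearMap.ker (X - l • 1)) :=
      { toFun := fun A => (((A : Module.End K V).comp (Submodule.subtype _)).codRestrict _ fun v => by
              rw [hmem, hinv]; exact hanti A.1 A.2 l v (hmem.1 v.2),
            ((A : Module.End K V).comp (Submodule.subtype _)).codRestrict _ fun v => by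
              rw [hmem]
              have := hanti A.1 A.2 l⁻¹ v (hmem.1 v.2)
              rwa [show -l⁻¹ = l by rw [hinv, neg_neg]] at this)
        map_add' := fun A B => rfl
        map_smul' := fun c A => rfl }
    have hf : Function.Injective f := by
      rw [injective_iff_map_eq_zero]
      intro A hA
      refine Subtype.ext (hzero A.1 A.2 (fun v hv => ?_) fun v hv => ?_)
      · exact congrArg Subtype.val (LinearMap.congr_fun (congrArg Prod.fst hA) ⟨v, hmem.2 hv⟩)
      · exact congrArg Subtype.val (LinearMap.congr_fun (congrArg Prod.snd hA) ⟨v, hmem.2 hv⟩)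
    refine (LinearMap.finrank_le_finrank_of_injective hf).trans ?_
    rw [Module.finrank_prod, Module.finrank_linearMap, Module.finrank_linearMap]
    exact add_le_add (Nat.mul_le_mul h1 h2) (Nat.mul_le_mul h2 h1)
  · have hbot : LinearMap.ker (ad ψ x + 1) = ⊥ := by
      rw [Submodule.eq_bot_iff]
      intro A hA
      have hn := hl3 h3
      refine hzero A hA (fun v hv => hkill A hA l v hv ?_) fun v hv => hkill A hA l⁻¹ v hv ?_
      · refine mul_ne_zero (fun h => hlm ?_) (mul_ne_zero (fun h => ?_) fun h => hn ?_)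
        · linear_combination -h
        · haveI : NeZero (2 : K) := ⟨fun h2 => neg_one_ne_one' (K := K) hr2 (by linear_combination h2 * -1)⟩
          exact h0 ((mul_eq_zero.1 (show (2 : K) * l = 0 by linear_combination -h)).resolve_left two_ne_zero)
        · linear_combination -l * h - mul_inv_cancel₀ h0
      · refine mul_ne_zero (fun h => hlm ?_) (mul_ne_zero (fun h => hn ?_) fun h => ?_)
        · have e1 := mul_inv_cancel₀ h0
          linear_combination -l * h - e1
        · linear_combination -l * h - mul_inv_cancel₀ h0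
        · haveI : NeZero (2 : K) := ⟨fun h2 => neg_one_ne_one' (K := K) hr2 (by linear_combination h2 * -1)⟩
          exact inv_ne_zero h0
            ((mul_eq_zero.1 (show (2 : K) * l⁻¹ = 0 by linear_combination -h)).resolve_left two_ne_zero)
    rw [hbot, finrank_bot]
    exact ⟨fun _ => rfl, Nat.zero_le _⟩

/-- An involution with fixed points of index two cannot be a square of an isometry. -/
theorem no_index_two {M : Type w} [Group M] (σ : MulAut M) (B : M → M → K)
    (hl : ∀ a b c, B (a * b) c = B a c * B b c) (hr : ∀ a b c, B a (b * c) = B a b * B a c)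
    (hself : ∀ a, B a a = 1) (hne : ∀ a b, B a b ≠ 0) (hinv : ∀ a b, B (σ a) (σ b) = B a b)
    (hnd : ∀ a, (∀ b, B b a = 1) → a = 1) (hsq : ∀ a : M, a * a = 1)
    (hfour : σ ^ 4 = 1) {a : M} (ha : (σ ^ 2) a ≠ a)
    (hidx : ∀ b c, (σ ^ 2) b ≠ b → (σ ^ 2) c ≠ c → (σ ^ 2) (b * c) = b * c) : False := by
  have hcomm : ∀ x y : M, x * y = y * x := by
    intro x y
    have e1 : ∀ z : M, z⁻¹ = z := fun z => inv_eq_of_mul_eq_one_right (hsq z)
    calc x * y = (x * y)⁻¹ := (e1 _).symm
      _ = y * x := by rw [mul_inv_rev, e1, e1]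
  have hcancel : ∀ x y : M, x * (x * y) = y := fun x y => by rw [← mul_assoc, hsq, one_mul]
  set τ := σ ^ 2 with hτ
  have hττ : ∀ b, τ (τ b) = b := fun b => by
    rw [← MulAut.mul_apply, hτ, ← pow_add, hfour]; rfl
  have hστ : ∀ b, σ (τ b) = τ (σ b) := fun b => by
    rw [← MulAut.mul_apply, ← MulAut.mul_apply, hτ, ← pow_succ', pow_succ]
  have hτinv : ∀ b c, B (τ b) (τ c) = B b c := fun b c => by
    rw [hτ, pow_two, MulAut.mul_apply, MulAut.mul_apply, hinv, hinv]
  set w := a * τ a with hw
  have hmv : ∀ b, τ b ≠ b → b * τ b = w := by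
    intro b hb
    have h := hidx b a hb ha
    rw [map_mul] at h
    calc b * τ b = b * (τ b * τ a * τ a) := by rw [mul_assoc (τ b), hsq, mul_one]
      _ = b * (b * a * τ a) := by rw [h]
      _ = w := by rw [mul_assoc b a, hcancel]
  have hσmv : ∀ b, τ b ≠ b → τ (σ b) ≠ σ b := fun b hb h => hb (σ.injective ((hστ b).trans h))
  have hσw : σ w = w := by
    rw [hw, map_mul, hστ, hmv _ (hσmv a ha)]
  have hfix : ∀ c, τ c = c → B c w = 1 := by
    intro c hc
    have h1 : B c (τ a) = B c a := by
      conv_rhs => rw [← hτinv, hc]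
    rw [hw, hr, h1, ← hr, hsq]
    have h2 := hr c 1 1
    rw [mul_one] at h2
    exact (mul_eq_left₀ (hne c 1)).1 h2.symm
  have hBne : B a w ≠ 1 := by
    intro h1
    have hw1 : w = 1 := hnd w fun b => by
      by_cases hb : τ b = b
      · exact hfix b hb
      · have hba : τ (b * a) = b * a := hidx b a hb ha
        rw [show b = (b * a) * a by rw [mul_assoc, hsq, mul_one], hl, hfix _ hba, h1, mul_one]
    refine ha ?_
    calc τ a = a * (a * τ a) := (hcancel _ _).symm
      _ = a := by rw [← hw, hw1, mul_one]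
  obtain ⟨c, hc⟩ : ∃ c, c = a * σ a := ⟨_, rfl⟩
  have hσa : σ a = a * c := by rw [hc, hcancel]
  have hτa : τ a = a * w := (hcancel _ _).symm
  have hcfix : τ c = c := hc ▸ hidx a (σ a) ha (hσmv a ha)
  have hσc : σ c = c * w := by
    calc σ c = σ a * σ (σ a) := by rw [hc, map_mul]
      _ = a * c * (a * w) := by
        rw [show σ (σ a) = τ a by rw [hτ, pow_two]; rfl, hτa, hσa]
      _ = c * w := by rw [hcomm a c, ← mul_assoc, mul_assoc c a a, hsq, mul_one]
  have h := hinv a c
  rw [hσa, hσc, hl, hr a, hr c, hself, hfix c hcfix, mul_one, mul_one] at h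
  exact hBne ((mul_eq_left₀ (hne a c)).1 h)

variable [IsAlgClosed K]

set_option maxHeartbeats 1000000 in
/-- The case of scalar abelian normal subgroups. -/
theorem lPrim [CharP K r] [Fact r.Prime] (hr2 : r ≠ 2) [FiniteDimensional K V] [Nontrivial V]
    {H : Type w} [Group H] [Finite H] (hsol : Group.IsSolvable H) (ψ : H →* Module.End K V)
    (hψ : Function.Injective ψ)
    (hsc : ∀ A : Subgroup H, A.Normal → (∀ a ∈ A, ∀ b ∈ A, a * b = b * a) →
      ∀ a ∈ A, ∃ r : K, ψ a = r • 1)
    (x : H) (e : ℕ) (hX : LGood r V e (ψ x)) : x ^ 2 ^ (e - 1) ∈ Top r H := by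
  classical
  obtain ⟨R, hE, hact, htop, hsqf⟩ := exists_prim (c := r) hsol hψ hsc
  refine htop _ (hact _ ?_)
  haveI : Fintype (Quo ψ R) := Fintype.ofFinite _
  have hN := hE.card_quo_ne_zero (c := r)
  by_contra hne
  set σ := hE.act x with hσ
  have hpow : x ^ 2 ^ e = 1 := hψ (by rw [map_pow, hX.2.2.1, map_one])
  have hσq : σ ^ 2 ^ e = 1 := by rw [hσ, ← map_pow, hpow, map_one]
  rw [map_pow, ← hσ] at hne
  obtain ⟨a, ha⟩ : ∃ a, (σ ^ 2 ^ (e - 1)) a ≠ a := by
    by_contra! hall
    exact hne (MulEquiv.ext hall)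
  set O := (moved σ e).image (rep (σ.toEquiv : Equiv.Perm (Quo ψ R))) with hO
  have hk : 0 < finrank K (commutant ψ R) := by
    refine Nat.pos_of_ne_zero fun h0 => ?_
    have h1 := finrank_end hE hN
    rw [h0, mul_zero, Module.finrank_linearMap] at h1
    rcases mul_eq_zero.1 h1 with h2 | h2 <;>
      exact (Module.finrank_pos (R := K) (M := V)).ne' h2
  have he1 : 1 ≤ e := le_trans (by norm_num) hX.1
  have hev : Even (2 ^ e) := (Nat.even_pow' (by omega)).2 even_two
  have hbound : O.card * finrank K (commutant ψ R) ≤ finrank K (LinearMap.ker (ad ψ x + 1)) := by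
    refine free_le_finrank_neg hE hN x hev (pow_pos two_pos e) ?_ ?_ ?_
    · rw [← ad_pow, hpow, ad_one]
    · intro m hm i hi hiq
      obtain ⟨b, hb, rfl⟩ := Finset.mem_image.1 hm
      exact moved_free hσq (rep_mem _ (fun _ h => moved_invariant σ e h) hb) hi hiq
    · intro m hm
      obtain ⟨b, -, rfl⟩ := Finset.mem_image.1 hm
      exact rep_rep _ b
  have hcard := card_moved hσq
  rw [← hO] at hcard
  have hpos : 0 < O.card := Finset.card_pos.2 ⟨_, Finset.mem_image_of_mem _ ((mem_moved σ e).2 ha)⟩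
  obtain ⟨hbig, htwo⟩ := finrank_ker_ad_add_le hr2 ψ x hX
  have hO1 : O.card * 1 ≤ O.card * finrank K (commutant ψ R) := Nat.mul_le_mul_left _ hk
  rcases Nat.lt_or_ge e 3 with he3 | he3
  swap
  · have := hbig he3
    omega
  obtain rfl : e = 2 := by have := hX.1; omega
  have hr3 : r = 3 := by have := hX.2.1; omega
  set F := Nat.card (halfFixed σ 2) with hF
  have hsum := card_moved_add (σ := σ) (e := 2)
  rw [← hF, ← hcard] at hsum
  set N := Fintype.card (Quo ψ R) with hNdef
  have hdvd : F ∣ N := by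
    rw [hNdef, ← Nat.card_eq_fintype_card]
    exact (halfFixed σ 2).card_subgroup_dvd_card
  have hF0 : 0 < F := Nat.card_pos
  have h3N : ¬ 3 ∣ N := by
    rwa [Ne, CharP.cast_eq_zero_iff K r, hr3] at hN
  have hOle : O.card ≤ 2 := by omega
  have hcases : N = 5 ∨ N = 10 ∨ (N = 2 * F ∧ (N = 8 ∨ N = 16)) := by
    have hFle : F ≤ 8 := by
      have : F ∣ 4 * O.card := by
        rw [show 4 * O.card = N - F by omega]
        exact Nat.dvd_sub hdvd dvd_rfl
      have := Nat.le_of_dvd (by omega) this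
      omega
    interval_cases F <;> omega
  have hexpdvd : Monoid.exponent (Quo ψ R) ∣ N := Group.exponent_dvd_card
  rcases hcases with h5 | h10 | ⟨hN2, h816⟩
  -- cyclic cases
  rotate_left 2
  · have hsq : ∀ b : Quo ψ R, b * b = 1 := by
      intro b
      rw [← pow_two]
      refine orderOf_dvd_iff_pow_eq_one.1 ((Monoid.order_dvd_exponent b).trans ?_)
      obtain ⟨k, -, hk'⟩ := (Nat.dvd_prime_pow Nat.prime_two).1 (show Monoid.exponent (Quo ψ R) ∣ 2 ^ 4 from
        hexpdvd.trans (by rcases h816 with h | h <;> rw [h] <;> norm_num))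
      rw [hk'] at hsqf ⊢
      rcases Nat.lt_or_ge k 2 with hk2 | hk2
      · interval_cases k <;> norm_num
      · exact absurd (hsqf 2 (pow_two 2 ▸ pow_dvd_pow 2 hk2)) (by norm_num)
    refine no_index_two (K := K) σ (qpair ψ R) hE.qpair_mul_left hE.qpair_mul_right hE.qpair_self
      (fun _ _ => hE.pair_ne_zero _ _) (hE.qpair_act x) (fun b h => ?_) hsq
      (by simpa using hσq) (a := a) (by simpa using ha) fun b c hb hc => ?_
    · refine hE.eq_one_of_qpair fun k => ?_
      have := hE.qpair_swap b k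
      rwa [h k, mul_one] at this
    · have hidx : (halfFixed σ 2).index = 2 := by
        have h := (halfFixed σ 2).card_mul_index
        rw [← hF, Nat.card_eq_fintype_card, ← hNdef, hN2, mul_comm 2] at h
        exact Nat.eq_of_mul_eq_mul_left hF0 h
      have := (Subgroup.mul_mem_iff_of_index_two hidx (a := b) (b := c)).2
        ⟨fun h => absurd h (by simpa [mem_halfFixed] using hb),
          fun h => absurd h (by simpa [mem_halfFixed] using hc)⟩
      simpa [mem_halfFixed] using this
  all_goals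
    have hcyc : ∃ g : Quo ψ R, orderOf g = N := by
      haveI : Fact (Nat.Prime 5) := ⟨by norm_num⟩
      obtain ⟨g, hg⟩ := exists_prime_orderOf_dvd_card (G := Quo ψ R) 5 (by rw [← hNdef]; omega)
      rcases (show N = 5 ∨ N = 10 by omega) with h | h
      · exact ⟨g, hg.trans h.symm⟩
      · obtain ⟨g', hg'⟩ := exists_prime_orderOf_dvd_card (G := Quo ψ R) 2 (by rw [← hNdef, h]; norm_num)
        refine ⟨g * g', ?_⟩
        rw [(show Commute g g' from hE.quo_mul_comm g g').orderOf_mul_eq_mul_orderOf_of_coprime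
          (by rw [hg, hg']; norm_num), hg, hg', h]
    obtain ⟨g, hg⟩ := hcyc
    have hgen : ∀ b : Quo ψ R, b ∈ Subgroup.zpowers g := by
      have : Subgroup.zpowers g = ⊤ := by
        refine Subgroup.eq_top_of_card_eq _ ?_
        rw [Nat.card_zpowers, hg, hNdef, Nat.card_eq_fintype_card]
      exact fun b => this ▸ Subgroup.mem_top b
    have h1 : g = 1 := hE.eq_one_of_qpair fun k => by
      obtain ⟨i, hi⟩ := (Submonoid.mem_powers_iff _ _).1
        ((isOfFinOrder_of_finite g).mem_powers_iff_mem_zpowers.2 (hgen k))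
      rw [← hi, hE.qpair_pow_right, hE.qpair_self, one_pow]
    rw [h1, orderOf_one] at hg
    omega

end

/-- `x ^ 2 ^ (e - 1)` lies in `Top r H`. -/
theorem mem_top_of_LGood [IsAlgClosed K] {r : ℕ} [CharP K r] [Fact r.Prime] (hr2 : r ≠ 2)
    {V : Type v} [AddCommGroup V] [Module K V] [FiniteDimensional K V] {H : Type w} [Group H]
    [Finite H] (hsol : Group.IsSolvable H) (ψ : H →* Module.End K V) (hψ : Function.Injective ψ)
    (x : H) (e : ℕ) (hx : LGood r V e (ψ x)) : x ^ 2 ^ (e - 1) ∈ Top r H :=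
  mem_top_of_good (LGood r) (lGood_closed r hr2)
    (fun {V} _ _ _ _ {H} _ _ hsol ψ hψ _ hsc x e hx => lPrim hr2 hsol ψ hψ hsc x e hx)
    (finrank K V) le_rfl hsol ψ hψ x e hx

end CfsgLib.FGS74.GrossLen
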