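import Cfsg.Agent.FGS74.GrossLen.TCase
import Cfsg.Agent.HallHigman.LengthSetup

/-!
# The bound `2 e - 1` for the `2`-length
-/

set_option autoImplicit false
set_option linter.style.haveILetI false

namespace CfsgLib.FGS74.GrossLen

universe u

/-- Without a core, the term lies in `O_{2',2}`. -/
theorem mk_mem_pCore_of_top {H : Type u} [Group H] [Finite H] (hH0 : Cfsg.pCore 2 H = ⊥) {t : H}
    (ht : t ∈ Top 2 H) :
    QuotientGroup.mk' (Cfsg.pPrimeCore 2 H) t ∈ Cfsg.pCore 2 (H ⧸ Cfsg.pPrimeCore 2 H) := by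
  haveI := Fact.mk Nat.prime_two
  haveI hD : (Top 2 H).Normal := top_normal
  let K : Subgroup H :=
    { carrier := {y | y ∈ Top 2 H ∧ Odd (orderOf y)}
      one_mem' := ⟨one_mem _, by simp⟩
      mul_mem' := by
        rintro y y' ⟨hy, hyo⟩ ⟨hy', hyo'⟩
        have h := nice_top (c := 2) (⟨y, hy⟩ : Top 2 H) ⟨y', hy'⟩ (by rwa [Subgroup.orderOf_mk])
          (by rwa [Subgroup.orderOf_mk])
        obtain ⟨m, hm, hmem⟩ := h
        refine ⟨mul_mem hy hy', hm.of_dvd_nat (orderOf_dvd_of_pow_eq_one ?_)⟩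
        have h1 := CfsgLib.PLocal.pCore_map_subtype_le (Top 2 H) ⟨_, hmem, rfl⟩
        rw [hH0, Subgroup.mem_bot] at h1
        exact h1
      inv_mem' := by
        rintro y ⟨hy, hyo⟩
        exact ⟨inv_mem hy, by rwa [orderOf_inv]⟩ }
  haveI : K.Normal := ⟨fun y ⟨hy, hyo⟩ g => ⟨hD.conj_mem y hy g, by
    rwa [← MulAut.conj_apply, MulEquiv.orderOf_eq]⟩⟩
  have hK : K ≤ Cfsg.pPrimeCore 2 H := by
    refine CfsgLib.PLocal.le_pPrimeCore (Nat.coprime_two_right.2 (Nat.not_even_iff_odd.1 fun he => ?_))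
    obtain ⟨y, hy⟩ := exists_prime_orderOf_dvd_card' (G := K) 2 he.two_dvd
    have h1 := y.2.2
    rw [Subgroup.orderOf_coe, hy] at h1
    exact Nat.not_even_iff_odd.2 h1 even_two
  set q := QuotientGroup.mk' (Cfsg.pPrimeCore 2 H)
  have hp : IsPGroup 2 ((Top 2 H).map q) := by
    rintro ⟨_, z, hz, rfl⟩
    obtain ⟨s, m, hm, hzm⟩ := exists_odd_pow_eq (x := z)
    refine ⟨s, Subtype.ext ?_⟩
    show q z ^ 2 ^ s = 1
    rw [← map_pow]
    refine (QuotientGroup.eq_one_iff _).2 (hK ⟨pow_mem hz _, ?_⟩)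
    refine hm.of_dvd_nat (orderOf_dvd_of_pow_eq_one ?_)
    rw [← pow_mul, ← hzm, pow_orderOf_eq_one]
  haveI : ((Top 2 H).map q).Normal := hD.map q (QuotientGroup.mk'_surjective _)
  exact CfsgLib.PLocal.le_pCore hp (Subgroup.mem_map_of_mem q ht)

/-- The bound, by induction on the order. -/
theorem pLengthLE_gross : ∀ (b : ℕ) {G : Type u} [Group G] [Finite G], Nat.card G ≤ b →
    Group.IsSolvable G → ∀ e : ℕ, 1 ≤ e →
    (∀ P : Sylow 2 G, ∀ x ∈ (P : Subgroup G), x ^ 2 ^ e = 1) →
    Cfsg.PLengthLE 2 (2 * e - 1) G := by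
  haveI := Fact.mk Nat.prime_two
  intro b
  induction b with
  | zero => intro G _ _ hc; exact absurd hc (Nat.not_le.2 Nat.card_pos)
  | succ b ih =>
    intro G _ _ hc hG e he hexp
    haveI := hG
    have hlt : ∀ (N : Subgroup G) [N.Normal], N ≠ ⊥ → Nat.card (G ⧸ N) ≤ b := by
      intro N _ hN
      have h1 := Subgroup.card_eq_card_quotient_mul_card_subgroup N
      have h2 : 1 < Nat.card N := (Subgroup.one_lt_card_iff_ne_bot _).2 hN
      have h3 : 0 < Nat.card (G ⧸ N) := Nat.card_pos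
      nlinarith
    by_cases hO : Cfsg.pPrimeCore 2 G = ⊥
    swap
    · have h0 : Cfsg.PLengthLE 2 0 (Cfsg.pPrimeCore 2 G) :=
        CfsgLib.PLength.pLengthLE_zero_iff.2 (CfsgLib.PLocal.coprime_card_pPrimeCore 2 G)
      simpa using CfsgLib.PLength.pLengthLE_extension _ h0
        (ih (hlt _ hO) inferInstance e he (CfsgLib.HallHigman.exponent_quotient hexp _))
    rcases subsingleton_or_nontrivial G with hs | hs
    · refine CfsgLib.PLength.pLengthLE_mono (Nat.zero_le _) ?_
      rw [CfsgLib.PLength.pLengthLE_zero_iff, Nat.card_eq_one_iff_unique.2 ⟨hs, inferInstance⟩]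
      exact Nat.coprime_one_left 2
    have hGs : Cfsg.IsPSolvable 2 G := CfsgLib.PLocal.isPSolvable_of_isSolvable
    have hOne : Cfsg.pCore 2 G ≠ ⊥ := by
      rcases CfsgLib.PLocal.pCore_ne_bot_or_of_isPSolvable hGs with h | h
      · exact h
      · exact absurd hO h
    set H := G ⧸ Cfsg.pCore 2 G with hH
    haveI hHsol : Group.IsSolvable H :=
      Group.isSolvable_of_surjective (QuotientGroup.mk'_surjective _)
    have hH0 : Cfsg.pCore 2 H = ⊥ := CfsgLib.PLocal.pCore_quotient_pCore_eq_bot 2 G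
    obtain ⟨m, ψ, hψ, hrel⟩ := CfsgLib.HallHigman.exists_frattini_module hGs hO hexp
    have hexpH := CfsgLib.HallHigman.exponent_quotient hexp (Cfsg.pCore 2 G)
    have hgood : ∀ P : Sylow 2 H, ∀ x ∈ (P : Subgroup H),
        TGood (Fin m → AlgebraicClosure (ZMod 2)) e (ψ x) := by
      intro P x hx v
      rcases Nat.eq_zero_or_pos m with rfl | hm
      · exact Subsingleton.elim _ _
      haveI : Nonempty (Fin m) := ⟨⟨0, hm⟩⟩
      haveI : CharP (Module.End (AlgebraicClosure (ZMod 2)) (Fin m → AlgebraicClosure (ZMod 2))) 2 :=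
        charP_of_injective_algebraMap (algebraMap (AlgebraicClosure (ZMod 2)) _).injective 2
      have h := hrel x (P.isPGroup'.to_le (Subgroup.zpowers_le.2 hx))
      rw [← CfsgLib.HallHigman.geom_sum_eq_sub_one_pow] at h
      have h1 := LinearMap.congr_fun h v
      rwa [LinearMap.sum_apply, LinearMap.zero_apply] at h1
    haveI : CharP (AlgebraicClosure (ZMod 2)) 2 :=
      charP_of_injective_algebraMap (algebraMap (ZMod 2) _).injective 2
    have h1 := CfsgLib.PLength.pLengthLE_one_of_isPGroup (p := 2)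
      (CfsgLib.PLocal.isPGroup_pCore 2 G)
    rcases Nat.lt_or_ge e 2 with he2 | he2
    · obtain rfl : e = 1 := by omega
      have hHodd : Cfsg.PLengthLE 2 0 H := by
        rw [CfsgLib.PLength.pLengthLE_zero_iff, Nat.coprime_comm,
          Nat.prime_two.coprime_iff_not_dvd]
        intro hdvd
        obtain ⟨x, hx⟩ := exists_prime_orderOf_dvd_card' (G := H) 2 hdvd
        obtain ⟨P, hP⟩ := (IsPGroup.of_card (n := 1) (show Nat.card (Subgroup.zpowers x) = 2 ^ 1 by
          rw [Nat.card_zpowers, hx, pow_one])).exists_le_sylow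
        have hg := hgood P x (hP (Subgroup.mem_zpowers x))
        have hx1 : x = 1 := by
          refine hψ (LinearMap.ext fun v => ?_)
          have h := hg v
          rw [show (2 : ℕ) ^ 1 = 2 from rfl, Finset.sum_range_succ, Finset.sum_range_one, pow_zero,
            pow_one, Module.End.one_apply] at h
          rw [map_one, Module.End.one_apply]
          funext i
          have h2 := congrFun h i
          rw [Pi.add_apply, Pi.zero_apply, CharTwo.add_eq_zero] at h2
          exact h2.symm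
        rw [hx1, orderOf_one] at hx
        omega
      exact CfsgLib.PLength.pLengthLE_mono (by omega)
        (CfsgLib.PLength.pLengthLE_extension (Cfsg.pCore 2 G) h1 hHodd)
    obtain ⟨e, rfl⟩ : ∃ e', e = e' + 1 := ⟨e - 1, by omega⟩
    set Hb := H ⧸ Cfsg.pPrimeCore 2 H with hHb
    set H2 := Hb ⧸ Cfsg.pCore 2 Hb with hH2
    haveI hHbsol : Group.IsSolvable Hb :=
      Group.isSolvable_of_surjective (QuotientGroup.mk'_surjective _)
    haveI hH2sol : Group.IsSolvable H2 :=
      Group.isSolvable_of_surjective (QuotientGroup.mk'_surjective _)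
    have hexp2 : ∀ Q : Sylow 2 H2, ∀ z ∈ (Q : Subgroup H2), z ^ 2 ^ e = 1 := by
      intro Q z hz
      obtain ⟨Qb, rfl⟩ := Sylow.mapSurjective_surjective
        (QuotientGroup.mk'_surjective (Cfsg.pCore 2 Hb)) 2 Q
      obtain ⟨P, rfl⟩ := Sylow.mapSurjective_surjective
        (QuotientGroup.mk'_surjective (Cfsg.pPrimeCore 2 H)) 2 Qb
      obtain ⟨_, ⟨x, hx, rfl⟩, rfl⟩ := hz
      have ht := mem_top_of_geom_sum (K := AlgebraicClosure (ZMod 2)) hHsol ψ hψ x (e + 1)
        (hgood P x hx)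
      rw [Nat.add_sub_cancel] at ht
      rw [← map_pow, ← map_pow]
      exact (QuotientGroup.eq_one_iff _).2 (mk_mem_pCore_of_top hH0 ht)
    have hH2card : Nat.card H2 ≤ b :=
      ((Nat.le_of_dvd Nat.card_pos (Subgroup.card_quotient_dvd_card _)).trans
        (Nat.le_of_dvd Nat.card_pos (Subgroup.card_quotient_dvd_card _))).trans (hlt _ hOne)
    have h2 := CfsgLib.PLength.pLengthLE_one_of_isPGroup (p := 2)
      (CfsgLib.PLocal.isPGroup_pCore 2 Hb)
    have h0 : Cfsg.PLengthLE 2 0 (Cfsg.pPrimeCore 2 H) :=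
      CfsgLib.PLength.pLengthLE_zero_iff.2 (CfsgLib.PLocal.coprime_card_pPrimeCore 2 H)
    have hb2 := CfsgLib.PLength.pLengthLE_extension (Cfsg.pCore 2 Hb) h2
      (ih hH2card hH2sol e (by omega) hexp2)
    exact CfsgLib.PLength.pLengthLE_mono (by omega)
      (CfsgLib.PLength.pLengthLE_extension (Cfsg.pCore 2 G) h1
        (CfsgLib.PLength.pLengthLE_extension (Cfsg.pPrimeCore 2 H) h0 hb2))

end CfsgLib.FGS74.GrossLen
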