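import Mathlib

/-!
# Orbit representatives of a permutation
-/

set_option autoImplicit false

namespace CfsgLib.FGS74.GrossLen

universe u

variable {α : Type u} [Finite α] (σ : Equiv.Perm α)

/-- A chosen point in the orbit. -/
noncomputable def rep (a : α) : α :=
  Quotient.out (Quotient.mk (Equiv.Perm.SameCycle.setoid σ) a)

omit [Finite α] in
theorem sameCycle_rep (a : α) : σ.SameCycle (rep σ a) a :=
  Quotient.mk_out (s := Equiv.Perm.SameCycle.setoid σ) a

omit [Finite α] in
theorem rep_eq_rep {a b : α} (h : σ.SameCycle a b) : rep σ a = rep σ b := by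
  rw [rep, rep]
  exact congrArg Quotient.out (Quotient.sound (s := Equiv.Perm.SameCycle.setoid σ) h)

omit [Finite α] in
theorem rep_rep (a : α) : rep σ (rep σ a) = rep σ a := rep_eq_rep σ (sameCycle_rep σ a)

theorem exists_pow_rep (a : α) : ∃ i : ℕ, (σ ^ i) (rep σ a) = a :=
  (sameCycle_rep σ a).exists_nat_pow_eq

omit [Finite α] in
theorem rep_pow (i : ℕ) (a : α) : rep σ ((σ ^ i) a) = rep σ a :=
  rep_eq_rep σ (Equiv.Perm.sameCycle_pow_left.2 (Equiv.Perm.SameCycle.refl σ a))

omit [Finite α] in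
theorem pow_mem_of_invariant {S : Finset α} (hS : ∀ a ∈ S, σ a ∈ S) (i : ℕ) {a : α} (ha : a ∈ S) :
    (σ ^ i) a ∈ S := by
  induction i with
  | zero => simpa
  | succ i ih => rw [pow_succ', Equiv.Perm.mul_apply]; exact hS _ ih

theorem rep_mem {S : Finset α} (hS : ∀ a ∈ S, σ a ∈ S) {a : α} (ha : a ∈ S) : rep σ a ∈ S := by
  obtain ⟨i, hi⟩ := (sameCycle_rep σ a).symm.exists_nat_pow_eq
  exact hi ▸ pow_mem_of_invariant σ hS i ha

omit [Finite α] in
theorem pow_eq_iff_mod {a : α} {q : ℕ} (hper : (σ ^ q) a = a) (i : ℕ) :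
    (σ ^ i) a = (σ ^ (i % q)) a := by
  conv_lhs => rw [← Nat.mod_add_div i q, pow_add, Equiv.Perm.mul_apply]
  congr 1
  generalize i / q = k
  induction k with
  | zero => simp
  | succ k ih => rw [Nat.mul_succ, pow_add, Equiv.Perm.mul_apply, hper, ih]

theorem card_free [DecidableEq α] {S : Finset α} (hS : ∀ a ∈ S, σ a ∈ S) {q : ℕ} (hq : 0 < q)
    (hper : ∀ a ∈ S, (σ ^ q) a = a) (hfree : ∀ a ∈ S, ∀ i, 0 < i → i < q → (σ ^ i) a ≠ a) :
    q * (S.image (rep σ)).card = S.card := by
  rw [Finset.card_eq_sum_card_image (rep σ) S, Finset.sum_const_nat (m := q) (fun b hb => ?_)]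
  · rw [mul_comm]
  obtain ⟨a, ha, rfl⟩ := Finset.mem_image.1 hb
  have hr := rep_mem σ hS ha
  have heq : S.filter (fun c => rep σ c = rep σ a) =
      (Finset.range q).image (fun i => (σ ^ i) (rep σ a)) := by
    ext c
    rw [Finset.mem_filter, Finset.mem_image]
    constructor
    · rintro ⟨-, hc⟩
      obtain ⟨i, hi⟩ := exists_pow_rep σ c
      rw [hc] at hi
      exact ⟨i % q, Finset.mem_range.2 (Nat.mod_lt _ hq),
        (pow_eq_iff_mod σ (hper _ hr) i).symm.trans hi⟩
    · rintro ⟨i, -, rfl⟩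
      exact ⟨pow_mem_of_invariant σ hS i hr, by rw [rep_pow, rep_rep]⟩
  rw [heq, Finset.card_image_of_injOn, Finset.card_range]
  intro i hi j hj hij
  rw [Finset.coe_range, Set.mem_Iio] at hi hj
  simp only at hij
  rcases lt_trichotomy i j with h | h | h
  · exfalso
    refine hfree _ hr (j - i) (by omega) (by omega) ((σ ^ i).injective ?_)
    rw [← Equiv.Perm.mul_apply, ← pow_add, Nat.add_sub_cancel' h.le, hij]
  · exact h
  · exfalso
    refine hfree _ hr (i - j) (by omega) (by omega) ((σ ^ j).injective ?_)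
    rw [← Equiv.Perm.mul_apply, ← pow_add, Nat.add_sub_cancel' h.le, hij]

end CfsgLib.FGS74.GrossLen
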